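import Cfsg.Agent.Depth.F.P0
import Cfsg.Agent.Depth.F.Q

/-! The numbers `30 M + 0` as sums `(p + 1) + (q + 1)`, part 1. -/

set_option autoImplicit false
set_option Elab.async false

namespace Cfsg.Agent.Depth.F

theorem w0r0 : wins P0 (Nat.factorial 708) 0 9 30 100 1 130 = true := by decide +kernel
theorem w0s0 : Cov 0 160 260 :=
  cov_of pb0 qb0 cl0 cl0 w0r0 _ _ _ (by decide +kernel)
theorem w0r1 : wins P0 (Nat.factorial 708) 0 16 30 200 1 230 = true := by decide +kernel
theorem w0s1 : Cov 0 260 460 :=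
  cov_of pb0 qb0 cl0 cl0 w0r1 _ _ _ (by decide +kernel)
theorem w0r2 : wins P0 (Nat.factorial 708) 0 28 30 400 1 430 = true := by decide +kernel
theorem w0s2 : Cov 0 460 860 :=
  cov_of pb0 qb0 cl0 cl0 w0r2 _ _ _ (by decide +kernel)
theorem w0r3 : wins P0 (Nat.factorial 708) 0 44 30 800 1 830 = true := by decide +kernel
theorem w0s3 : Cov 0 860 1660 :=
  cov_of pb0 qb0 cl0 cl0 w0r3 _ _ _ (by decide +kernel)
theorem w0r4 : wins P0 (Nat.factorial 708) 0 68 30 1600 1 1630 = true := by decide +kernel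
theorem w0s4 : Cov 0 1660 3260 :=
  cov_of pb0 qb0 cl0 cl0 w0r4 _ _ _ (by decide +kernel)
theorem w0r5 : wins P0 (Nat.factorial 708) 0 69 30 3200 1 3230 = true := by decide +kernel
theorem w0s5 : Cov 0 3260 6460 :=
  cov_of pb0 qb0 cl0 cl0 w0r5 _ _ _ (by decide +kernel)
theorem w0r6 : wins P0 (Nat.factorial 708) 0 91 30 6400 1 6430 = true := by decide +kernel
theorem w0s6 : Cov 0 6460 12860 :=
  cov_of pb0 qb0 cl0 cl0 w0r6 _ _ _ (by decide +kernel)
theorem w0r7 : wins P0 (Nat.factorial 708) 0 86 30 12800 1 12830 = true := by decide +kernel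
theorem w0s7 : Cov 0 12860 25660 :=
  cov_of pb0 qb0 cl0 cl0 w0r7 _ _ _ (by decide +kernel)
theorem w0r8 : wins P0 Qn 0 101 30 25600 1 25630 = true := by decide +kernel
theorem w0s8 : Cov 0 25660 51260 :=
  cov_of pb0 qb cl0 cl0 w0r8 _ _ _ (by decide +kernel)
theorem w0r9 : wins P0 Qn 0 125 30 51200 1 51230 = true := by decide +kernel
theorem w0s9 : Cov 0 51260 102460 :=
  cov_of pb0 qb cl0 cl0 w0r9 _ _ _ (by decide +kernel)
theorem w0r10 : wins P0 Qn 0 185 30 102400 1 102430 = true := by decide +kernel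
theorem w0s10 : Cov 0 102460 204860 :=
  cov_of pb0 qb cl0 cl0 w0r10 _ _ _ (by decide +kernel)
theorem w0r11 : wins P0 Qn 0 244 30 204800 1 204830 = true := by decide +kernel
theorem w0s11 : Cov 0 204860 409660 :=
  cov_of pb0 qb cl0 cl0 w0r11 _ _ _ (by decide +kernel)
theorem w0r12 : wins P0 Qn 0 223 30 409600 1 409630 = true := by decide +kernel
theorem w0s12 : Cov 0 409660 819260 :=
  cov_of pb0 qb cl0 cl0 w0r12 _ _ _ (by decide +kernel)
theorem w0r13 : wins P0 Qn 0 241 30 819200 1 819230 = true := by decide +kernel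
theorem w0s13 : Cov 0 819260 1638460 :=
  cov_of pb0 qb cl0 cl0 w0r13 _ _ _ (by decide +kernel)
theorem w0r14 : wins P0 Qn 0 327 30 1638400 1 1638430 = true := by decide +kernel
theorem w0s14 : Cov 0 1638460 3276860 :=
  cov_of pb0 qb cl0 cl0 w0r14 _ _ _ (by decide +kernel)
theorem w0r15 : wins P0 Qn 0 461 600 2096552 16 3276260 = true := by decide +kernel
theorem w0s15 : Cov 0 3276860 36821692 :=
  cov_of pb0 qb cl0 cl0 w0r15 _ _ _ (by decide +kernel)
theorem w0r16 : wins P0 Qn 0 413 600 2096552 16 36821092 = true := by decide +kernel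
theorem w0s16 : Cov 0 36821692 70366524 :=
  cov_of pb0 qb cl0 cl0 w0r16 _ _ _ (by decide +kernel)
theorem w0r17 : wins P0 Qn 0 432 600 2096552 16 70365924 = true := by decide +kernel
theorem w0s17 : Cov 0 70366524 103911356 :=
  cov_of pb0 qb cl0 cl0 w0r17 _ _ _ (by decide +kernel)
theorem w0r18 : wins P0 Qn 0 527 600 2096552 16 103910756 = true := by decide +kernel
theorem w0s18 : Cov 0 103911356 137456188 :=
  cov_of pb0 qb cl0 cl0 w0r18 _ _ _ (by decide +kernel)
theorem w0r19 : wins P0 Qn 0 527 600 2096552 16 137455588 = true := by decide +kernel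
theorem w0s19 : Cov 0 137456188 171001020 :=
  cov_of pb0 qb cl0 cl0 w0r19 _ _ _ (by decide +kernel)
theorem w0r20 : wins P0 Qn 0 546 600 2096552 16 171000420 = true := by decide +kernel
theorem w0s20 : Cov 0 171001020 204545852 :=
  cov_of pb0 qb cl0 cl0 w0r20 _ _ _ (by decide +kernel)
theorem w0r21 : wins P0 Qn 0 526 600 2096552 16 204545252 = true := by decide +kernel
theorem w0s21 : Cov 0 204545852 238090684 :=
  cov_of pb0 qb cl0 cl0 w0r21 _ _ _ (by decide +kernel)
theorem w0r22 : wins P0 Qn 0 549 600 2096552 16 238090084 = true := by decide +kernel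
theorem w0s22 : Cov 0 238090684 271635516 :=
  cov_of pb0 qb cl0 cl0 w0r22 _ _ _ (by decide +kernel)
theorem w0r23 : wins P0 Qn 0 462 600 2096552 16 271634916 = true := by decide +kernel
theorem w0s23 : Cov 0 271635516 305180348 :=
  cov_of pb0 qb cl0 cl0 w0r23 _ _ _ (by decide +kernel)
theorem w0r24 : wins P0 Qn 0 495 600 2096552 16 305179748 = true := by decide +kernel
theorem w0s24 : Cov 0 305180348 338725180 :=
  cov_of pb0 qb cl0 cl0 w0r24 _ _ _ (by decide +kernel)
theorem w0r25 : wins P0 Qn 0 563 600 2096552 16 338724580 = true := by decide +kernel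
theorem w0s25 : Cov 0 338725180 372270012 :=
  cov_of pb0 qb cl0 cl0 w0r25 _ _ _ (by decide +kernel)
theorem w0r26 : wins P0 Qn 0 435 600 2096552 16 372269412 = true := by decide +kernel
theorem w0s26 : Cov 0 372270012 405814844 :=
  cov_of pb0 qb cl0 cl0 w0r26 _ _ _ (by decide +kernel)
theorem w0r27 : wins P0 Qn 0 467 600 2096552 16 405814244 = true := by decide +kernel
theorem w0s27 : Cov 0 405814844 439359676 :=
  cov_of pb0 qb cl0 cl0 w0r27 _ _ _ (by decide +kernel)
theorem w0r28 : wins P0 Qn 0 554 600 2096552 16 439359076 = true := by decide +kernel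
theorem w0s28 : Cov 0 439359676 472904508 :=
  cov_of pb0 qb cl0 cl0 w0r28 _ _ _ (by decide +kernel)
theorem w0r29 : wins P0 Qn 0 527 600 2096552 16 472903908 = true := by decide +kernel
theorem w0s29 : Cov 0 472904508 506449340 :=
  cov_of pb0 qb cl0 cl0 w0r29 _ _ _ (by decide +kernel)
theorem w0r30 : wins P0 Qn 0 505 600 2096552 16 506448740 = true := by decide +kernel
theorem w0s30 : Cov 0 506449340 539994172 :=
  cov_of pb0 qb cl0 cl0 w0r30 _ _ _ (by decide +kernel)
theorem w0r31 : wins P0 Qn 0 582 600 2096552 16 539993572 = true := by decide +kernel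
theorem w0s31 : Cov 0 539994172 573539004 :=
  cov_of pb0 qb cl0 cl0 w0r31 _ _ _ (by decide +kernel)
theorem w0r32 : wins P0 Qn 0 506 600 2096552 16 573538404 = true := by decide +kernel
theorem w0s32 : Cov 0 573539004 607083836 :=
  cov_of pb0 qb cl0 cl0 w0r32 _ _ _ (by decide +kernel)
theorem w0r33 : wins P0 Qn 0 651 600 2096552 16 607083236 = true := by decide +kernel
theorem w0s33 : Cov 0 607083836 640628668 :=
  cov_of pb0 qb cl0 cl0 w0r33 _ _ _ (by decide +kernel)
theorem w0r34 : wins P0 Qn 0 464 600 2096552 16 640628068 = true := by decide +kernel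
theorem w0s34 : Cov 0 640628668 674173500 :=
  cov_of pb0 qb cl0 cl0 w0r34 _ _ _ (by decide +kernel)
theorem w0r35 : wins P0 Qn 0 489 600 2096552 16 674172900 = true := by decide +kernel
theorem w0s35 : Cov 0 674173500 707718332 :=
  cov_of pb0 qb cl0 cl0 w0r35 _ _ _ (by decide +kernel)
theorem w0r36 : wins P0 Qn 0 507 600 2096552 16 707717732 = true := by decide +kernel
theorem w0s36 : Cov 0 707718332 741263164 :=
  cov_of pb0 qb cl0 cl0 w0r36 _ _ _ (by decide +kernel)
theorem w0r37 : wins P0 Qn 0 533 600 2096552 16 741262564 = true := by decide +kernel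
theorem w0s37 : Cov 0 741263164 774807996 :=
  cov_of pb0 qb cl0 cl0 w0r37 _ _ _ (by decide +kernel)
theorem w0r38 : wins P0 Qn 0 553 600 2096552 16 774807396 = true := by decide +kernel
theorem w0s38 : Cov 0 774807996 808352828 :=
  cov_of pb0 qb cl0 cl0 w0r38 _ _ _ (by decide +kernel)
theorem w0r39 : wins P0 Qn 0 535 600 2096552 16 808352228 = true := by decide +kernel
theorem w0s39 : Cov 0 808352828 841897660 :=
  cov_of pb0 qb cl0 cl0 w0r39 _ _ _ (by decide +kernel)
theorem w0r40 : wins P0 Qn 0 585 600 2096552 16 841897060 = true := by decide +kernel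
theorem w0s40 : Cov 0 841897660 875442492 :=
  cov_of pb0 qb cl0 cl0 w0r40 _ _ _ (by decide +kernel)
theorem w0r41 : wins P0 Qn 0 521 600 2096552 16 875441892 = true := by decide +kernel
theorem w0s41 : Cov 0 875442492 908987324 :=
  cov_of pb0 qb cl0 cl0 w0r41 _ _ _ (by decide +kernel)
theorem w0r42 : wins P0 Qn 0 534 600 2096552 16 908986724 = true := by decide +kernel
theorem w0s42 : Cov 0 908987324 942532156 :=
  cov_of pb0 qb cl0 cl0 w0r42 _ _ _ (by decide +kernel)
theorem w0r43 : wins P0 Qn 0 576 600 2096552 16 942531556 = true := by decide +kernel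
theorem w0s43 : Cov 0 942532156 976076988 :=
  cov_of pb0 qb cl0 cl0 w0r43 _ _ _ (by decide +kernel)
theorem w0r44 : wins P0 Qn 0 574 600 2096552 16 976076388 = true := by decide +kernel
theorem w0s44 : Cov 0 976076988 1009621820 :=
  cov_of pb0 qb cl0 cl0 w0r44 _ _ _ (by decide +kernel)
theorem w0r45 : wins P0 Qn 0 537 600 2096552 16 1009621220 = true := by decide +kernel
theorem w0s45 : Cov 0 1009621820 1043166652 :=
  cov_of pb0 qb cl0 cl0 w0r45 _ _ _ (by decide +kernel)
theorem w0r46 : wins P0 Qn 0 618 600 2096552 16 1043166052 = true := by decide +kernel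
theorem w0s46 : Cov 0 1043166652 1076711484 :=
  cov_of pb0 qb cl0 cl0 w0r46 _ _ _ (by decide +kernel)
theorem w0r47 : wins P0 Qn 0 557 600 2096552 16 1076710884 = true := by decide +kernel
theorem w0s47 : Cov 0 1076711484 1110256316 :=
  cov_of pb0 qb cl0 cl0 w0r47 _ _ _ (by decide +kernel)
theorem w0r48 : wins P0 Qn 0 516 600 2096552 16 1110255716 = true := by decide +kernel
theorem w0s48 : Cov 0 1110256316 1143801148 :=
  cov_of pb0 qb cl0 cl0 w0r48 _ _ _ (by decide +kernel)
theorem w0r49 : wins P0 Qn 0 691 600 2096552 16 1143800548 = true := by decide +kernel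
theorem w0s49 : Cov 0 1143801148 1177345980 :=
  cov_of pb0 qb cl0 cl0 w0r49 _ _ _ (by decide +kernel)
theorem w0r50 : wins P0 Qn 0 590 600 2096552 16 1177345380 = true := by decide +kernel
theorem w0s50 : Cov 0 1177345980 1210890812 :=
  cov_of pb0 qb cl0 cl0 w0r50 _ _ _ (by decide +kernel)
theorem w0r51 : wins P0 Qn 0 519 600 2096552 16 1210890212 = true := by decide +kernel
theorem w0s51 : Cov 0 1210890812 1244435644 :=
  cov_of pb0 qb cl0 cl0 w0r51 _ _ _ (by decide +kernel)
theorem w0r52 : wins P0 Qn 0 531 600 2096552 16 1244435044 = true := by decide +kernel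
theorem w0s52 : Cov 0 1244435644 1277980476 :=
  cov_of pb0 qb cl0 cl0 w0r52 _ _ _ (by decide +kernel)
theorem w0r53 : wins P0 Qn 0 524 600 2096552 16 1277979876 = true := by decide +kernel
theorem w0s53 : Cov 0 1277980476 1311525308 :=
  cov_of pb0 qb cl0 cl0 w0r53 _ _ _ (by decide +kernel)
theorem w0r54 : wins P0 Qn 0 539 600 2096552 16 1311524708 = true := by decide +kernel
theorem w0s54 : Cov 0 1311525308 1345070140 :=
  cov_of pb0 qb cl0 cl0 w0r54 _ _ _ (by decide +kernel)
theorem w0r55 : wins P0 Qn 0 546 600 2096552 16 1345069540 = true := by decide +kernel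
theorem w0s55 : Cov 0 1345070140 1378614972 :=
  cov_of pb0 qb cl0 cl0 w0r55 _ _ _ (by decide +kernel)
theorem w0r56 : wins P0 Qn 0 523 600 2096552 16 1378614372 = true := by decide +kernel
theorem w0s56 : Cov 0 1378614972 1412159804 :=
  cov_of pb0 qb cl0 cl0 w0r56 _ _ _ (by decide +kernel)
theorem w0r57 : wins P0 Qn 0 517 600 2096552 16 1412159204 = true := by decide +kernel
theorem w0s57 : Cov 0 1412159804 1445704636 :=
  cov_of pb0 qb cl0 cl0 w0r57 _ _ _ (by decide +kernel)
theorem w0r58 : wins P0 Qn 0 552 600 2096552 16 1445704036 = true := by decide +kernel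
theorem w0s58 : Cov 0 1445704636 1479249468 :=
  cov_of pb0 qb cl0 cl0 w0r58 _ _ _ (by decide +kernel)
theorem w0r59 : wins P0 Qn 0 674 600 2096552 16 1479248868 = true := by decide +kernel
theorem w0s59 : Cov 0 1479249468 1512794300 :=
  cov_of pb0 qb cl0 cl0 w0r59 _ _ _ (by decide +kernel)
theorem w0r60 : wins P0 Qn 0 581 600 2096552 16 1512793700 = true := by decide +kernel
theorem w0s60 : Cov 0 1512794300 1546339132 :=
  cov_of pb0 qb cl0 cl0 w0r60 _ _ _ (by decide +kernel)
theorem w0r61 : wins P0 Qn 0 508 600 2096552 16 1546338532 = true := by decide +kernel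
theorem w0s61 : Cov 0 1546339132 1579883964 :=
  cov_of pb0 qb cl0 cl0 w0r61 _ _ _ (by decide +kernel)
theorem w0r62 : wins P0 Qn 0 589 600 2096552 16 1579883364 = true := by decide +kernel
theorem w0s62 : Cov 0 1579883964 1613428796 :=
  cov_of pb0 qb cl0 cl0 w0r62 _ _ _ (by decide +kernel)
theorem w0r63 : wins P0 Qn 0 531 600 2096552 16 1613428196 = true := by decide +kernel
theorem w0s63 : Cov 0 1613428796 1646973628 :=
  cov_of pb0 qb cl0 cl0 w0r63 _ _ _ (by decide +kernel)
theorem w0r64 : wins P0 Qn 0 570 600 2096552 16 1646973028 = true := by decide +kernel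
theorem w0s64 : Cov 0 1646973628 1680518460 :=
  cov_of pb0 qb cl0 cl0 w0r64 _ _ _ (by decide +kernel)
theorem w0r65 : wins P0 Qn 0 533 600 2096552 16 1680517860 = true := by decide +kernel
theorem w0s65 : Cov 0 1680518460 1714063292 :=
  cov_of pb0 qb cl0 cl0 w0r65 _ _ _ (by decide +kernel)
theorem w0r66 : wins P0 Qn 0 576 600 2096552 16 1714062692 = true := by decide +kernel
theorem w0s66 : Cov 0 1714063292 1747608124 :=
  cov_of pb0 qb cl0 cl0 w0r66 _ _ _ (by decide +kernel)
theorem w0r67 : wins P0 Qn 0 552 600 2096552 16 1747607524 = true := by decide +kernel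
theorem w0s67 : Cov 0 1747608124 1781152956 :=
  cov_of pb0 qb cl0 cl0 w0r67 _ _ _ (by decide +kernel)
theorem w0r68 : wins P0 Qn 0 582 600 2096552 16 1781152356 = true := by decide +kernel
theorem w0s68 : Cov 0 1781152956 1814697788 :=
  cov_of pb0 qb cl0 cl0 w0r68 _ _ _ (by decide +kernel)
theorem w0r69 : wins P0 Qn 0 581 600 2096552 16 1814697188 = true := by decide +kernel
theorem w0s69 : Cov 0 1814697788 1848242620 :=
  cov_of pb0 qb cl0 cl0 w0r69 _ _ _ (by decide +kernel)
theorem w0r70 : wins P0 Qn 0 596 600 2096552 16 1848242020 = true := by decide +kernel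
theorem w0s70 : Cov 0 1848242620 1881787452 :=
  cov_of pb0 qb cl0 cl0 w0r70 _ _ _ (by decide +kernel)
theorem w0r71 : wins P0 Qn 0 532 600 2096552 16 1881786852 = true := by decide +kernel
theorem w0s71 : Cov 0 1881787452 1915332284 :=
  cov_of pb0 qb cl0 cl0 w0r71 _ _ _ (by decide +kernel)
theorem w0r72 : wins P0 Qn 0 676 600 2096552 16 1915331684 = true := by decide +kernel
theorem w0s72 : Cov 0 1915332284 1948877116 :=
  cov_of pb0 qb cl0 cl0 w0r72 _ _ _ (by decide +kernel)
theorem w0r73 : wins P0 Qn 0 586 600 2096552 16 1948876516 = true := by decide +kernel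
theorem w0s73 : Cov 0 1948877116 1982421948 :=
  cov_of pb0 qb cl0 cl0 w0r73 _ _ _ (by decide +kernel)
theorem w0r74 : wins P0 Qn 0 565 600 2096552 16 1982421348 = true := by decide +kernel
theorem w0s74 : Cov 0 1982421948 2015966780 :=
  cov_of pb0 qb cl0 cl0 w0r74 _ _ _ (by decide +kernel)
theorem w0r75 : wins P0 Qn 0 574 600 2096552 16 2015966180 = true := by decide +kernel
theorem w0s75 : Cov 0 2015966780 2049511612 :=
  cov_of pb0 qb cl0 cl0 w0r75 _ _ _ (by decide +kernel)
theorem w0r76 : wins P0 Qn 0 568 600 2096552 16 2049511012 = true := by decide +kernel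
theorem w0s76 : Cov 0 2049511612 2083056444 :=
  cov_of pb0 qb cl0 cl0 w0r76 _ _ _ (by decide +kernel)
theorem w0r77 : wins P0 Qn 0 563 600 2096552 16 2083055844 = true := by decide +kernel
theorem w0s77 : Cov 0 2083056444 2116601276 :=
  cov_of pb0 qb cl0 cl0 w0r77 _ _ _ (by decide +kernel)
theorem w0r78 : wins P0 Qn 0 633 600 2096552 16 2116600676 = true := by decide +kernel
theorem w0s78 : Cov 0 2116601276 2150146108 :=
  cov_of pb0 qb cl0 cl0 w0r78 _ _ _ (by decide +kernel)
theorem w0r79 : wins P0 Qn 0 566 600 2096552 16 2150145508 = true := by decide +kernel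
theorem w0s79 : Cov 0 2150146108 2183690940 :=
  cov_of pb0 qb cl0 cl0 w0r79 _ _ _ (by decide +kernel)
theorem w0r80 : wins P0 Qn 0 513 600 2096552 16 2183690340 = true := by decide +kernel
theorem w0s80 : Cov 0 2183690940 2217235772 :=
  cov_of pb0 qb cl0 cl0 w0r80 _ _ _ (by decide +kernel)
theorem w0r81 : wins P0 Qn 0 586 600 2096552 16 2217235172 = true := by decide +kernel
theorem w0s81 : Cov 0 2217235772 2250780604 :=
  cov_of pb0 qb cl0 cl0 w0r81 _ _ _ (by decide +kernel)
theorem w0r82 : wins P0 Qn 0 526 600 2096552 16 2250780004 = true := by decide +kernel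
theorem w0s82 : Cov 0 2250780604 2284325436 :=
  cov_of pb0 qb cl0 cl0 w0r82 _ _ _ (by decide +kernel)
theorem w0r83 : wins P0 Qn 0 578 600 2096552 16 2284324836 = true := by decide +kernel
theorem w0s83 : Cov 0 2284325436 2317870268 :=
  cov_of pb0 qb cl0 cl0 w0r83 _ _ _ (by decide +kernel)
theorem w0r84 : wins P0 Qn 0 562 600 2096552 16 2317869668 = true := by decide +kernel
theorem w0s84 : Cov 0 2317870268 2351415100 :=
  cov_of pb0 qb cl0 cl0 w0r84 _ _ _ (by decide +kernel)
theorem w0r85 : wins P0 Qn 0 528 600 2096552 16 2351414500 = true := by decide +kernel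
theorem w0s85 : Cov 0 2351415100 2384959932 :=
  cov_of pb0 qb cl0 cl0 w0r85 _ _ _ (by decide +kernel)
theorem w0r86 : wins P0 Qn 0 581 600 2096552 16 2384959332 = true := by decide +kernel
theorem w0s86 : Cov 0 2384959932 2418504764 :=
  cov_of pb0 qb cl0 cl0 w0r86 _ _ _ (by decide +kernel)
theorem w0r87 : wins P0 Qn 0 510 600 2096552 16 2418504164 = true := by decide +kernel
theorem w0s87 : Cov 0 2418504764 2452049596 :=
  cov_of pb0 qb cl0 cl0 w0r87 _ _ _ (by decide +kernel)
theorem w0r88 : wins P0 Qn 0 618 600 2096552 16 2452048996 = true := by decide +kernel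
theorem w0s88 : Cov 0 2452049596 2485594428 :=
  cov_of pb0 qb cl0 cl0 w0r88 _ _ _ (by decide +kernel)
theorem w0r89 : wins P0 Qn 0 568 600 2096552 16 2485593828 = true := by decide +kernel
theorem w0s89 : Cov 0 2485594428 2519139260 :=
  cov_of pb0 qb cl0 cl0 w0r89 _ _ _ (by decide +kernel)
theorem w0r90 : wins P0 Qn 0 540 600 2096552 16 2519138660 = true := by decide +kernel
theorem w0s90 : Cov 0 2519139260 2552684092 :=
  cov_of pb0 qb cl0 cl0 w0r90 _ _ _ (by decide +kernel)
theorem w0r91 : wins P0 Qn 0 551 600 2096552 16 2552683492 = true := by decide +kernel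
theorem w0s91 : Cov 0 2552684092 2586228924 :=
  cov_of pb0 qb cl0 cl0 w0r91 _ _ _ (by decide +kernel)
theorem w0r92 : wins P0 Qn 0 525 600 2096552 16 2586228324 = true := by decide +kernel
theorem w0s92 : Cov 0 2586228924 2619773756 :=
  cov_of pb0 qb cl0 cl0 w0r92 _ _ _ (by decide +kernel)
theorem w0r93 : wins P0 Qn 0 592 600 2096552 16 2619773156 = true := by decide +kernel
theorem w0s93 : Cov 0 2619773756 2653318588 :=
  cov_of pb0 qb cl0 cl0 w0r93 _ _ _ (by decide +kernel)
theorem w0r94 : wins P0 Qn 0 578 600 2096552 16 2653317988 = true := by decide +kernel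
theorem w0s94 : Cov 0 2653318588 2686863420 :=
  cov_of pb0 qb cl0 cl0 w0r94 _ _ _ (by decide +kernel)
theorem w0r95 : wins P0 Qn 0 534 600 2096552 16 2686862820 = true := by decide +kernel
theorem w0s95 : Cov 0 2686863420 2720408252 :=
  cov_of pb0 qb cl0 cl0 w0r95 _ _ _ (by decide +kernel)
theorem w0r96 : wins P0 Qn 0 652 600 2096552 16 2720407652 = true := by decide +kernel
theorem w0s96 : Cov 0 2720408252 2753953084 :=
  cov_of pb0 qb cl0 cl0 w0r96 _ _ _ (by decide +kernel)
theorem w0r97 : wins P0 Qn 0 540 600 2096552 16 2753952484 = true := by decide +kernel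
theorem w0s97 : Cov 0 2753953084 2787497916 :=
  cov_of pb0 qb cl0 cl0 w0r97 _ _ _ (by decide +kernel)
theorem w0r98 : wins P0 Qn 0 551 600 2096552 16 2787497316 = true := by decide +kernel
theorem w0s98 : Cov 0 2787497916 2821042748 :=
  cov_of pb0 qb cl0 cl0 w0r98 _ _ _ (by decide +kernel)
theorem w0r99 : wins P0 Qn 0 657 600 2096552 16 2821042148 = true := by decide +kernel
theorem w0s99 : Cov 0 2821042748 2854587580 :=
  cov_of pb0 qb cl0 cl0 w0r99 _ _ _ (by decide +kernel)
theorem w0r100 : wins P0 Qn 0 594 600 2096552 16 2854586980 = true := by decide +kernel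
theorem w0s100 : Cov 0 2854587580 2888132412 :=
  cov_of pb0 qb cl0 cl0 w0r100 _ _ _ (by decide +kernel)
theorem w0r101 : wins P0 Qn 0 585 600 2096552 16 2888131812 = true := by decide +kernel
theorem w0s101 : Cov 0 2888132412 2921677244 :=
  cov_of pb0 qb cl0 cl0 w0r101 _ _ _ (by decide +kernel)
theorem w0r102 : wins P0 Qn 0 542 600 2096552 16 2921676644 = true := by decide +kernel
theorem w0s102 : Cov 0 2921677244 2955222076 :=
  cov_of pb0 qb cl0 cl0 w0r102 _ _ _ (by decide +kernel)
theorem w0r103 : wins P0 Qn 0 693 600 2096552 16 2955221476 = true := by decide +kernel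
theorem w0s103 : Cov 0 2955222076 2988766908 :=
  cov_of pb0 qb cl0 cl0 w0r103 _ _ _ (by decide +kernel)
theorem w0r104 : wins P0 Qn 0 577 600 2096552 16 2988766308 = true := by decide +kernel
theorem w0s104 : Cov 0 2988766908 3022311740 :=
  cov_of pb0 qb cl0 cl0 w0r104 _ _ _ (by decide +kernel)
theorem w0r105 : wins P0 Qn 0 613 600 2096552 16 3022311140 = true := by decide +kernel
theorem w0s105 : Cov 0 3022311740 3055856572 :=
  cov_of pb0 qb cl0 cl0 w0r105 _ _ _ (by decide +kernel)
theorem w0r106 : wins P0 Qn 0 611 600 2096552 16 3055855972 = true := by decide +kernel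
theorem w0s106 : Cov 0 3055856572 3089401404 :=
  cov_of pb0 qb cl0 cl0 w0r106 _ _ _ (by decide +kernel)
theorem w0r107 : wins P0 Qn 0 556 600 2096552 16 3089400804 = true := by decide +kernel
theorem w0s107 : Cov 0 3089401404 3122946236 :=
  cov_of pb0 qb cl0 cl0 w0r107 _ _ _ (by decide +kernel)
theorem w0r108 : wins P0 Qn 0 557 600 2096552 16 3122945636 = true := by decide +kernel
theorem w0s108 : Cov 0 3122946236 3156491068 :=
  cov_of pb0 qb cl0 cl0 w0r108 _ _ _ (by decide +kernel)
theorem w0r109 : wins P0 Qn 0 581 600 2096552 16 3156490468 = true := by decide +kernel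
theorem w0s109 : Cov 0 3156491068 3190035900 :=
  cov_of pb0 qb cl0 cl0 w0r109 _ _ _ (by decide +kernel)
theorem w0r110 : wins P0 Qn 0 574 600 2096552 16 3190035300 = true := by decide +kernel
theorem w0s110 : Cov 0 3190035900 3223580732 :=
  cov_of pb0 qb cl0 cl0 w0r110 _ _ _ (by decide +kernel)
theorem w0r111 : wins P0 Qn 0 509 600 2096552 16 3223580132 = true := by decide +kernel
theorem w0s111 : Cov 0 3223580732 3257125564 :=
  cov_of pb0 qb cl0 cl0 w0r111 _ _ _ (by decide +kernel)
theorem w0r112 : wins P0 Qn 0 578 600 2096552 16 3257124964 = true := by decide +kernel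
theorem w0s112 : Cov 0 3257125564 3290670396 :=
  cov_of pb0 qb cl0 cl0 w0r112 _ _ _ (by decide +kernel)
theorem w0r113 : wins P0 Qn 0 604 600 2096552 16 3290669796 = true := by decide +kernel
theorem w0s113 : Cov 0 3290670396 3324215228 :=
  cov_of pb0 qb cl0 cl0 w0r113 _ _ _ (by decide +kernel)
theorem w0r114 : wins P0 Qn 0 607 600 2096552 16 3324214628 = true := by decide +kernel
theorem w0s114 : Cov 0 3324215228 3357760060 :=
  cov_of pb0 qb cl0 cl0 w0r114 _ _ _ (by decide +kernel)
theorem w0r115 : wins P0 Qn 0 578 600 2096552 16 3357759460 = true := by decide +kernel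
theorem w0s115 : Cov 0 3357760060 3391304892 :=
  cov_of pb0 qb cl0 cl0 w0r115 _ _ _ (by decide +kernel)
theorem w0r116 : wins P0 Qn 0 588 600 2096552 16 3391304292 = true := by decide +kernel
theorem w0s116 : Cov 0 3391304892 3424849724 :=
  cov_of pb0 qb cl0 cl0 w0r116 _ _ _ (by decide +kernel)
theorem w0r117 : wins P0 Qn 0 648 600 2096552 16 3424849124 = true := by decide +kernel
theorem w0s117 : Cov 0 3424849724 3458394556 :=
  cov_of pb0 qb cl0 cl0 w0r117 _ _ _ (by decide +kernel)
theorem w0r118 : wins P0 Qn 0 553 600 2096552 16 3458393956 = true := by decide +kernel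
theorem w0s118 : Cov 0 3458394556 3491939388 :=
  cov_of pb0 qb cl0 cl0 w0r118 _ _ _ (by decide +kernel)
theorem w0r119 : wins P0 Qn 0 543 600 2096552 16 3491938788 = true := by decide +kernel
theorem w0s119 : Cov 0 3491939388 3525484220 :=
  cov_of pb0 qb cl0 cl0 w0r119 _ _ _ (by decide +kernel)
theorem w0r120 : wins P0 Qn 0 632 600 2096552 16 3525483620 = true := by decide +kernel
theorem w0s120 : Cov 0 3525484220 3559029052 :=
  cov_of pb0 qb cl0 cl0 w0r120 _ _ _ (by decide +kernel)
theorem w0r121 : wins P0 Qn 0 519 600 2096552 16 3559028452 = true := by decide +kernel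
theorem w0s121 : Cov 0 3559029052 3592573884 :=
  cov_of pb0 qb cl0 cl0 w0r121 _ _ _ (by decide +kernel)
theorem w0r122 : wins P0 Qn 0 685 600 2096552 16 3592573284 = true := by decide +kernel
theorem w0s122 : Cov 0 3592573884 3626118716 :=
  cov_of pb0 qb cl0 cl0 w0r122 _ _ _ (by decide +kernel)
theorem w0r123 : wins P0 Qn 0 537 600 2096552 16 3626118116 = true := by decide +kernel
theorem w0s123 : Cov 0 3626118716 3659663548 :=
  cov_of pb0 qb cl0 cl0 w0r123 _ _ _ (by decide +kernel)
theorem w0r124 : wins P0 Qn 0 626 600 2096552 16 3659662948 = true := by decide +kernel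
theorem w0s124 : Cov 0 3659663548 3693208380 :=
  cov_of pb0 qb cl0 cl0 w0r124 _ _ _ (by decide +kernel)
theorem w0r125 : wins P0 Qn 0 555 600 2096552 16 3693207780 = true := by decide +kernel
theorem w0s125 : Cov 0 3693208380 3726753212 :=
  cov_of pb0 qb cl0 cl0 w0r125 _ _ _ (by decide +kernel)
theorem w0r126 : wins P0 Qn 0 562 600 2096552 16 3726752612 = true := by decide +kernel
theorem w0s126 : Cov 0 3726753212 3760298044 :=
  cov_of pb0 qb cl0 cl0 w0r126 _ _ _ (by decide +kernel)
theorem w0r127 : wins P0 Qn 0 629 600 2096552 16 3760297444 = true := by decide +kernel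
theorem w0s127 : Cov 0 3760298044 3793842876 :=
  cov_of pb0 qb cl0 cl0 w0r127 _ _ _ (by decide +kernel)
theorem w0r128 : wins P0 Qn 0 538 600 2096552 16 3793842276 = true := by decide +kernel
theorem w0s128 : Cov 0 3793842876 3827387708 :=
  cov_of pb0 qb cl0 cl0 w0r128 _ _ _ (by decide +kernel)
theorem w0r129 : wins P0 Qn 0 560 600 2096552 16 3827387108 = true := by decide +kernel
theorem w0s129 : Cov 0 3827387708 3860932540 :=
  cov_of pb0 qb cl0 cl0 w0r129 _ _ _ (by decide +kernel)
theorem w0r130 : wins P0 Qn 0 590 600 2096552 16 3860931940 = true := by decide +kernel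
theorem w0s130 : Cov 0 3860932540 3894477372 :=
  cov_of pb0 qb cl0 cl0 w0r130 _ _ _ (by decide +kernel)
theorem w0r131 : wins P0 Qn 0 585 600 2096552 16 3894476772 = true := by decide +kernel
theorem w0s131 : Cov 0 3894477372 3928022204 :=
  cov_of pb0 qb cl0 cl0 w0r131 _ _ _ (by decide +kernel)
theorem w0r132 : wins P0 Qn 0 684 600 2096552 16 3928021604 = true := by decide +kernel
theorem w0s132 : Cov 0 3928022204 3961567036 :=
  cov_of pb0 qb cl0 cl0 w0r132 _ _ _ (by decide +kernel)
theorem w0r133 : wins P0 Qn 0 601 600 2096552 16 3961566436 = true := by decide +kernel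
theorem w0s133 : Cov 0 3961567036 3995111868 :=
  cov_of pb0 qb cl0 cl0 w0r133 _ _ _ (by decide +kernel)
theorem w0r134 : wins P0 Qn 0 632 600 2096552 16 3995111268 = true := by decide +kernel
theorem w0s134 : Cov 0 3995111868 4028656700 :=
  cov_of pb0 qb cl0 cl0 w0r134 _ _ _ (by decide +kernel)
theorem w0r135 : wins P0 Qn 0 493 600 2096552 16 4028656100 = true := by decide +kernel
theorem w0s135 : Cov 0 4028656700 4062201532 :=
  cov_of pb0 qb cl0 cl0 w0r135 _ _ _ (by decide +kernel)
theorem w0r136 : wins P0 Qn 0 585 600 2096552 16 4062200932 = true := by decide +kernel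
theorem w0s136 : Cov 0 4062201532 4095746364 :=
  cov_of pb0 qb cl0 cl0 w0r136 _ _ _ (by decide +kernel)
theorem w0r137 : wins P0 Qn 0 601 600 2096552 16 4095745764 = true := by decide +kernel
theorem w0s137 : Cov 0 4095746364 4129291196 :=
  cov_of pb0 qb cl0 cl0 w0r137 _ _ _ (by decide +kernel)
theorem w0r138 : wins P0 Qn 0 552 600 2096552 16 4129290596 = true := by decide +kernel
theorem w0s138 : Cov 0 4129291196 4162836028 :=
  cov_of pb0 qb cl0 cl0 w0r138 _ _ _ (by decide +kernel)

theorem cov0a : Cov 0 160 4162836028 :=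
  (((((((w0s0.app w0s1).app (w0s2.app w0s3)).app ((w0s4.app w0s5).app (w0s6.app w0s7))).app (((w0s8.app w0s9).app (w0s10.app w0s11)).app ((w0s12.app w0s13).app (w0s14.app (w0s15.app w0s16))))).app ((((w0s17.app w0s18).app (w0s19.app w0s20)).app ((w0s21.app w0s22).app (w0s23.app w0s24))).app (((w0s25.app w0s26).app (w0s27.app w0s28)).app ((w0s29.app w0s30).app (w0s31.app (w0s32.app w0s33)))))).app (((((w0s34.app w0s35).app (w0s36.app w0s37)).app ((w0s38.app w0s39).app (w0s40.app w0s41))).app (((w0s42.app w0s43).app (w0s44.app w0s45)).app ((w0s46.app w0s47).app (w0s48.app (w0s49.app w0s50))))).app ((((w0s51.app w0s52).app (w0s53.app w0s54)).app ((w0s55.app w0s56).app (w0s57.app (w0s58.app w0s59)))).app (((w0s60.app w0s61).app (w0s62.app w0s63)).app ((w0s64.app w0s65).app (w0s66.app (w0s67.app w0s68))))))).app ((((((w0s69.app w0s70).app (w0s71.app w0s72)).app ((w0s73.app w0s74).app (w0s75.app w0s76))).app (((w0s77.app w0s78).app (w0s79.app w0s80)).app ((w0s81.app w0s82).app (w0s83.app (w0s84.app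 w0s85))))).app ((((w0s86.app w0s87).app (w0s88.app w0s89)).app ((w0s90.app w0s91).app (w0s92.app (w0s93.app w0s94)))).app (((w0s95.app w0s96).app (w0s97.app w0s98)).app ((w0s99.app w0s100).app (w0s101.app (w0s102.app w0s103)))))).app (((((w0s104.app w0s105).app (w0s106.app w0s107)).app ((w0s108.app w0s109).app (w0s110.app w0s111))).app (((w0s112.app w0s113).app (w0s114.app w0s115)).app ((w0s116.app w0s117).app (w0s118.app (w0s119.app w0s120))))).app ((((w0s121.app w0s122).app (w0s123.app w0s124)).app ((w0s125.app w0s126).app (w0s127.app (w0s128.app w0s129)))).app (((w0s130.app w0s131).app (w0s132.app w0s133)).app ((w0s134.app w0s135).app (w0s136.app (w0s137.app w0s138))))))))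

end Cfsg.Agent.Depth.F
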