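import Cfsg.Agent.Depth.F.P0
import Cfsg.Agent.Depth.F.Q

/-! The numbers `30 M + 0` as sums `(p + 1) + (q + 1)`, part 2. -/

set_option autoImplicit false
set_option Elab.async false

namespace Cfsg.Agent.Depth.F

theorem w0r139 : wins P0 Qn 0 556 600 2096552 16 4162835428 = true := by decide +kernel
theorem w0s139 : Cov 0 4162836028 4196380860 :=
  cov_of pb0 qb cl0 cl0 w0r139 _ _ _ (by decide +kernel)
theorem w0r140 : wins P0 Qn 0 618 600 2096552 16 4196380260 = true := by decide +kernel
theorem w0s140 : Cov 0 4196380860 4229925692 :=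
  cov_of pb0 qb cl0 cl0 w0r140 _ _ _ (by decide +kernel)
theorem w0r141 : wins P0 Qn 0 592 600 2096552 16 4229925092 = true := by decide +kernel
theorem w0s141 : Cov 0 4229925692 4263470524 :=
  cov_of pb0 qb cl0 cl0 w0r141 _ _ _ (by decide +kernel)
theorem w0r142 : wins P0 Qn 0 638 600 2096552 16 4263469924 = true := by decide +kernel
theorem w0s142 : Cov 0 4263470524 4297015356 :=
  cov_of pb0 qb cl0 cl0 w0r142 _ _ _ (by decide +kernel)
theorem w0r143 : wins P0 Qn 0 561 600 2096552 16 4297014756 = true := by decide +kernel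
theorem w0s143 : Cov 0 4297015356 4330560188 :=
  cov_of pb0 qb cl0 cl0 w0r143 _ _ _ (by decide +kernel)
theorem w0r144 : wins P0 Qn 0 618 600 2096552 16 4330559588 = true := by decide +kernel
theorem w0s144 : Cov 0 4330560188 4364105020 :=
  cov_of pb0 qb cl0 cl0 w0r144 _ _ _ (by decide +kernel)
theorem w0r145 : wins P0 Qn 0 622 600 2096552 16 4364104420 = true := by decide +kernel
theorem w0s145 : Cov 0 4364105020 4397649852 :=
  cov_of pb0 qb cl0 cl0 w0r145 _ _ _ (by decide +kernel)
theorem w0r146 : wins P0 Qn 0 614 600 2096552 16 4397649252 = true := by decide +kernel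
theorem w0s146 : Cov 0 4397649852 4431194684 :=
  cov_of pb0 qb cl0 cl0 w0r146 _ _ _ (by decide +kernel)
theorem w0r147 : wins P0 Qn 0 519 600 2096552 16 4431194084 = true := by decide +kernel
theorem w0s147 : Cov 0 4431194684 4464739516 :=
  cov_of pb0 qb cl0 cl0 w0r147 _ _ _ (by decide +kernel)
theorem w0r148 : wins P0 Qn 0 535 600 2096552 16 4464738916 = true := by decide +kernel
theorem w0s148 : Cov 0 4464739516 4498284348 :=
  cov_of pb0 qb cl0 cl0 w0r148 _ _ _ (by decide +kernel)
theorem w0r149 : wins P0 Qn 0 612 600 2096552 16 4498283748 = true := by decide +kernel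
theorem w0s149 : Cov 0 4498284348 4531829180 :=
  cov_of pb0 qb cl0 cl0 w0r149 _ _ _ (by decide +kernel)
theorem w0r150 : wins P0 Qn 0 665 600 2096552 16 4531828580 = true := by decide +kernel
theorem w0s150 : Cov 0 4531829180 4565374012 :=
  cov_of pb0 qb cl0 cl0 w0r150 _ _ _ (by decide +kernel)
theorem w0r151 : wins P0 Qn 0 605 600 2096552 16 4565373412 = true := by decide +kernel
theorem w0s151 : Cov 0 4565374012 4598918844 :=
  cov_of pb0 qb cl0 cl0 w0r151 _ _ _ (by decide +kernel)
theorem w0r152 : wins P0 Qn 0 521 600 2096552 16 4598918244 = true := by decide +kernel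
theorem w0s152 : Cov 0 4598918844 4632463676 :=
  cov_of pb0 qb cl0 cl0 w0r152 _ _ _ (by decide +kernel)
theorem w0r153 : wins P0 Qn 0 581 600 2096552 16 4632463076 = true := by decide +kernel
theorem w0s153 : Cov 0 4632463676 4666008508 :=
  cov_of pb0 qb cl0 cl0 w0r153 _ _ _ (by decide +kernel)
theorem w0r154 : wins P0 Qn 0 622 600 2096552 16 4666007908 = true := by decide +kernel
theorem w0s154 : Cov 0 4666008508 4699553340 :=
  cov_of pb0 qb cl0 cl0 w0r154 _ _ _ (by decide +kernel)
theorem w0r155 : wins P0 Qn 0 618 600 2096552 16 4699552740 = true := by decide +kernel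
theorem w0s155 : Cov 0 4699553340 4733098172 :=
  cov_of pb0 qb cl0 cl0 w0r155 _ _ _ (by decide +kernel)
theorem w0r156 : wins P0 Qn 0 570 600 2096552 16 4733097572 = true := by decide +kernel
theorem w0s156 : Cov 0 4733098172 4766643004 :=
  cov_of pb0 qb cl0 cl0 w0r156 _ _ _ (by decide +kernel)
theorem w0r157 : wins P0 Qn 0 630 600 2096552 16 4766642404 = true := by decide +kernel
theorem w0s157 : Cov 0 4766643004 4800187836 :=
  cov_of pb0 qb cl0 cl0 w0r157 _ _ _ (by decide +kernel)
theorem w0r158 : wins P0 Qn 0 562 600 2096552 16 4800187236 = true := by decide +kernel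
theorem w0s158 : Cov 0 4800187836 4833732668 :=
  cov_of pb0 qb cl0 cl0 w0r158 _ _ _ (by decide +kernel)
theorem w0r159 : wins P0 Qn 0 658 600 2096552 16 4833732068 = true := by decide +kernel
theorem w0s159 : Cov 0 4833732668 4867277500 :=
  cov_of pb0 qb cl0 cl0 w0r159 _ _ _ (by decide +kernel)
theorem w0r160 : wins P0 Qn 0 665 600 2096552 16 4867276900 = true := by decide +kernel
theorem w0s160 : Cov 0 4867277500 4900822332 :=
  cov_of pb0 qb cl0 cl0 w0r160 _ _ _ (by decide +kernel)
theorem w0r161 : wins P0 Qn 0 565 600 2096552 16 4900821732 = true := by decide +kernel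
theorem w0s161 : Cov 0 4900822332 4934367164 :=
  cov_of pb0 qb cl0 cl0 w0r161 _ _ _ (by decide +kernel)
theorem w0r162 : wins P0 Qn 0 588 600 2096552 16 4934366564 = true := by decide +kernel
theorem w0s162 : Cov 0 4934367164 4967911996 :=
  cov_of pb0 qb cl0 cl0 w0r162 _ _ _ (by decide +kernel)
theorem w0r163 : wins P0 Qn 0 530 600 2096552 16 4967911396 = true := by decide +kernel
theorem w0s163 : Cov 0 4967911996 5001456828 :=
  cov_of pb0 qb cl0 cl0 w0r163 _ _ _ (by decide +kernel)
theorem w0r164 : wins P0 Qn 0 648 600 2096552 16 5001456228 = true := by decide +kernel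
theorem w0s164 : Cov 0 5001456828 5035001660 :=
  cov_of pb0 qb cl0 cl0 w0r164 _ _ _ (by decide +kernel)
theorem w0r165 : wins P0 Qn 0 526 600 2096552 16 5035001060 = true := by decide +kernel
theorem w0s165 : Cov 0 5035001660 5068546492 :=
  cov_of pb0 qb cl0 cl0 w0r165 _ _ _ (by decide +kernel)
theorem w0r166 : wins P0 Qn 0 636 600 2096552 16 5068545892 = true := by decide +kernel
theorem w0s166 : Cov 0 5068546492 5102091324 :=
  cov_of pb0 qb cl0 cl0 w0r166 _ _ _ (by decide +kernel)
theorem w0r167 : wins P0 Qn 0 644 600 2096552 16 5102090724 = true := by decide +kernel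
theorem w0s167 : Cov 0 5102091324 5135636156 :=
  cov_of pb0 qb cl0 cl0 w0r167 _ _ _ (by decide +kernel)
theorem w0r168 : wins P0 Qn 0 614 600 2096552 16 5135635556 = true := by decide +kernel
theorem w0s168 : Cov 0 5135636156 5169180988 :=
  cov_of pb0 qb cl0 cl0 w0r168 _ _ _ (by decide +kernel)
theorem w0r169 : wins P0 Qn 0 579 600 2096552 16 5169180388 = true := by decide +kernel
theorem w0s169 : Cov 0 5169180988 5202725820 :=
  cov_of pb0 qb cl0 cl0 w0r169 _ _ _ (by decide +kernel)
theorem w0r170 : wins P0 Qn 0 616 600 2096552 16 5202725220 = true := by decide +kernel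
theorem w0s170 : Cov 0 5202725820 5236270652 :=
  cov_of pb0 qb cl0 cl0 w0r170 _ _ _ (by decide +kernel)
theorem w0r171 : wins P0 Qn 0 599 600 2096552 16 5236270052 = true := by decide +kernel
theorem w0s171 : Cov 0 5236270652 5269815484 :=
  cov_of pb0 qb cl0 cl0 w0r171 _ _ _ (by decide +kernel)
theorem w0r172 : wins P0 Qn 0 626 600 2096552 16 5269814884 = true := by decide +kernel
theorem w0s172 : Cov 0 5269815484 5303360316 :=
  cov_of pb0 qb cl0 cl0 w0r172 _ _ _ (by decide +kernel)
theorem w0r173 : wins P0 Qn 0 608 600 2096552 16 5303359716 = true := by decide +kernel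
theorem w0s173 : Cov 0 5303360316 5336905148 :=
  cov_of pb0 qb cl0 cl0 w0r173 _ _ _ (by decide +kernel)
theorem w0r174 : wins P0 Qn 0 658 600 2096552 16 5336904548 = true := by decide +kernel
theorem w0s174 : Cov 0 5336905148 5370449980 :=
  cov_of pb0 qb cl0 cl0 w0r174 _ _ _ (by decide +kernel)
theorem w0r175 : wins P0 Qn 0 610 600 2096552 16 5370449380 = true := by decide +kernel
theorem w0s175 : Cov 0 5370449980 5403994812 :=
  cov_of pb0 qb cl0 cl0 w0r175 _ _ _ (by decide +kernel)
theorem w0r176 : wins P0 Qn 0 577 600 2096552 16 5403994212 = true := by decide +kernel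
theorem w0s176 : Cov 0 5403994812 5437539644 :=
  cov_of pb0 qb cl0 cl0 w0r176 _ _ _ (by decide +kernel)
theorem w0r177 : wins P0 Qn 0 589 600 2096552 16 5437539044 = true := by decide +kernel
theorem w0s177 : Cov 0 5437539644 5471084476 :=
  cov_of pb0 qb cl0 cl0 w0r177 _ _ _ (by decide +kernel)
theorem w0r178 : wins P0 Qn 0 555 600 2096552 16 5471083876 = true := by decide +kernel
theorem w0s178 : Cov 0 5471084476 5504629308 :=
  cov_of pb0 qb cl0 cl0 w0r178 _ _ _ (by decide +kernel)
theorem w0r179 : wins P0 Qn 0 503 600 2096552 16 5504628708 = true := by decide +kernel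
theorem w0s179 : Cov 0 5504629308 5538174140 :=
  cov_of pb0 qb cl0 cl0 w0r179 _ _ _ (by decide +kernel)
theorem w0r180 : wins P0 Qn 0 563 600 2096552 16 5538173540 = true := by decide +kernel
theorem w0s180 : Cov 0 5538174140 5571718972 :=
  cov_of pb0 qb cl0 cl0 w0r180 _ _ _ (by decide +kernel)
theorem w0r181 : wins P0 Qn 0 569 600 2096552 16 5571718372 = true := by decide +kernel
theorem w0s181 : Cov 0 5571718972 5605263804 :=
  cov_of pb0 qb cl0 cl0 w0r181 _ _ _ (by decide +kernel)
theorem w0r182 : wins P0 Qn 0 631 600 2096552 16 5605263204 = true := by decide +kernel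
theorem w0s182 : Cov 0 5605263804 5638808636 :=
  cov_of pb0 qb cl0 cl0 w0r182 _ _ _ (by decide +kernel)
theorem w0r183 : wins P0 Qn 0 524 600 2096552 16 5638808036 = true := by decide +kernel
theorem w0s183 : Cov 0 5638808636 5672353468 :=
  cov_of pb0 qb cl0 cl0 w0r183 _ _ _ (by decide +kernel)
theorem w0r184 : wins P0 Qn 0 582 600 2096552 16 5672352868 = true := by decide +kernel
theorem w0s184 : Cov 0 5672353468 5705898300 :=
  cov_of pb0 qb cl0 cl0 w0r184 _ _ _ (by decide +kernel)
theorem w0r185 : wins P0 Qn 0 546 600 2096552 16 5705897700 = true := by decide +kernel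
theorem w0s185 : Cov 0 5705898300 5739443132 :=
  cov_of pb0 qb cl0 cl0 w0r185 _ _ _ (by decide +kernel)
theorem w0r186 : wins P0 Qn 0 526 600 2096552 16 5739442532 = true := by decide +kernel
theorem w0s186 : Cov 0 5739443132 5772987964 :=
  cov_of pb0 qb cl0 cl0 w0r186 _ _ _ (by decide +kernel)
theorem w0r187 : wins P0 Qn 0 582 600 2096552 16 5772987364 = true := by decide +kernel
theorem w0s187 : Cov 0 5772987964 5806532796 :=
  cov_of pb0 qb cl0 cl0 w0r187 _ _ _ (by decide +kernel)
theorem w0r188 : wins P0 Qn 0 612 600 2096552 16 5806532196 = true := by decide +kernel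
theorem w0s188 : Cov 0 5806532796 5840077628 :=
  cov_of pb0 qb cl0 cl0 w0r188 _ _ _ (by decide +kernel)
theorem w0r189 : wins P0 Qn 0 568 600 2096552 16 5840077028 = true := by decide +kernel
theorem w0s189 : Cov 0 5840077628 5873622460 :=
  cov_of pb0 qb cl0 cl0 w0r189 _ _ _ (by decide +kernel)
theorem w0r190 : wins P0 Qn 0 503 600 2096552 16 5873621860 = true := by decide +kernel
theorem w0s190 : Cov 0 5873622460 5907167292 :=
  cov_of pb0 qb cl0 cl0 w0r190 _ _ _ (by decide +kernel)
theorem w0r191 : wins P0 Qn 0 542 600 2096552 16 5907166692 = true := by decide +kernel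
theorem w0s191 : Cov 0 5907167292 5940712124 :=
  cov_of pb0 qb cl0 cl0 w0r191 _ _ _ (by decide +kernel)
theorem w0r192 : wins P0 Qn 0 566 600 2096552 16 5940711524 = true := by decide +kernel
theorem w0s192 : Cov 0 5940712124 5974256956 :=
  cov_of pb0 qb cl0 cl0 w0r192 _ _ _ (by decide +kernel)
theorem w0r193 : wins P0 Qn 0 586 600 2096552 16 5974256356 = true := by decide +kernel
theorem w0s193 : Cov 0 5974256956 6007801788 :=
  cov_of pb0 qb cl0 cl0 w0r193 _ _ _ (by decide +kernel)
theorem w0r194 : wins P0 Qn 0 564 600 2096552 16 6007801188 = true := by decide +kernel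
theorem w0s194 : Cov 0 6007801788 6041346620 :=
  cov_of pb0 qb cl0 cl0 w0r194 _ _ _ (by decide +kernel)
theorem w0r195 : wins P0 Qn 0 602 600 2096552 16 6041346020 = true := by decide +kernel
theorem w0s195 : Cov 0 6041346620 6074891452 :=
  cov_of pb0 qb cl0 cl0 w0r195 _ _ _ (by decide +kernel)
theorem w0r196 : wins P0 Qn 0 584 600 2096552 16 6074890852 = true := by decide +kernel
theorem w0s196 : Cov 0 6074891452 6108436284 :=
  cov_of pb0 qb cl0 cl0 w0r196 _ _ _ (by decide +kernel)
theorem w0r197 : wins P0 Qn 0 581 600 2096552 16 6108435684 = true := by decide +kernel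
theorem w0s197 : Cov 0 6108436284 6141981116 :=
  cov_of pb0 qb cl0 cl0 w0r197 _ _ _ (by decide +kernel)
theorem w0r198 : wins P0 Qn 0 603 600 2096552 16 6141980516 = true := by decide +kernel
theorem w0s198 : Cov 0 6141981116 6175525948 :=
  cov_of pb0 qb cl0 cl0 w0r198 _ _ _ (by decide +kernel)
theorem w0r199 : wins P0 Qn 0 574 600 2096552 16 6175525348 = true := by decide +kernel
theorem w0s199 : Cov 0 6175525948 6209070780 :=
  cov_of pb0 qb cl0 cl0 w0r199 _ _ _ (by decide +kernel)
theorem w0r200 : wins P0 Qn 0 577 600 2096552 16 6209070180 = true := by decide +kernel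
theorem w0s200 : Cov 0 6209070780 6242615612 :=
  cov_of pb0 qb cl0 cl0 w0r200 _ _ _ (by decide +kernel)
theorem w0r201 : wins P0 Qn 0 581 600 2096552 16 6242615012 = true := by decide +kernel
theorem w0s201 : Cov 0 6242615612 6276160444 :=
  cov_of pb0 qb cl0 cl0 w0r201 _ _ _ (by decide +kernel)
theorem w0r202 : wins P0 Qn 0 590 600 2096552 16 6276159844 = true := by decide +kernel
theorem w0s202 : Cov 0 6276160444 6309705276 :=
  cov_of pb0 qb cl0 cl0 w0r202 _ _ _ (by decide +kernel)
theorem w0r203 : wins P0 Qn 0 591 600 2096552 16 6309704676 = true := by decide +kernel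
theorem w0s203 : Cov 0 6309705276 6343250108 :=
  cov_of pb0 qb cl0 cl0 w0r203 _ _ _ (by decide +kernel)
theorem w0r204 : wins P0 Qn 0 632 600 2096552 16 6343249508 = true := by decide +kernel
theorem w0s204 : Cov 0 6343250108 6376794940 :=
  cov_of pb0 qb cl0 cl0 w0r204 _ _ _ (by decide +kernel)
theorem w0r205 : wins P0 Qn 0 543 600 2096552 16 6376794340 = true := by decide +kernel
theorem w0s205 : Cov 0 6376794940 6410339772 :=
  cov_of pb0 qb cl0 cl0 w0r205 _ _ _ (by decide +kernel)
theorem w0r206 : wins P0 Qn 0 607 600 2096552 16 6410339172 = true := by decide +kernel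
theorem w0s206 : Cov 0 6410339772 6443884604 :=
  cov_of pb0 qb cl0 cl0 w0r206 _ _ _ (by decide +kernel)
theorem w0r207 : wins P0 Qn 0 790 600 2096552 16 6443884004 = true := by decide +kernel
theorem w0s207 : Cov 0 6443884604 6477429436 :=
  cov_of pb0 qb cl0 cl0 w0r207 _ _ _ (by decide +kernel)
theorem w0r208 : wins P0 Qn 0 603 600 2096552 16 6477428836 = true := by decide +kernel
theorem w0s208 : Cov 0 6477429436 6510974268 :=
  cov_of pb0 qb cl0 cl0 w0r208 _ _ _ (by decide +kernel)
theorem w0r209 : wins P0 Qn 0 576 600 2096552 16 6510973668 = true := by decide +kernel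
theorem w0s209 : Cov 0 6510974268 6544519100 :=
  cov_of pb0 qb cl0 cl0 w0r209 _ _ _ (by decide +kernel)
theorem w0r210 : wins P0 Qn 0 617 600 2096552 16 6544518500 = true := by decide +kernel
theorem w0s210 : Cov 0 6544519100 6578063932 :=
  cov_of pb0 qb cl0 cl0 w0r210 _ _ _ (by decide +kernel)
theorem w0r211 : wins P0 Qn 0 629 600 2096552 16 6578063332 = true := by decide +kernel
theorem w0s211 : Cov 0 6578063932 6611608764 :=
  cov_of pb0 qb cl0 cl0 w0r211 _ _ _ (by decide +kernel)
theorem w0r212 : wins P0 Qn 0 620 600 2096552 16 6611608164 = true := by decide +kernel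
theorem w0s212 : Cov 0 6611608764 6645153596 :=
  cov_of pb0 qb cl0 cl0 w0r212 _ _ _ (by decide +kernel)
theorem w0r213 : wins P0 Qn 0 618 600 2096552 16 6645152996 = true := by decide +kernel
theorem w0s213 : Cov 0 6645153596 6678698428 :=
  cov_of pb0 qb cl0 cl0 w0r213 _ _ _ (by decide +kernel)
theorem w0r214 : wins P0 Qn 0 591 600 2096552 16 6678697828 = true := by decide +kernel
theorem w0s214 : Cov 0 6678698428 6712243260 :=
  cov_of pb0 qb cl0 cl0 w0r214 _ _ _ (by decide +kernel)
theorem w0r215 : wins P0 Qn 0 609 600 2096552 16 6712242660 = true := by decide +kernel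
theorem w0s215 : Cov 0 6712243260 6745788092 :=
  cov_of pb0 qb cl0 cl0 w0r215 _ _ _ (by decide +kernel)
theorem w0r216 : wins P0 Qn 0 595 600 2096552 16 6745787492 = true := by decide +kernel
theorem w0s216 : Cov 0 6745788092 6779332924 :=
  cov_of pb0 qb cl0 cl0 w0r216 _ _ _ (by decide +kernel)
theorem w0r217 : wins P0 Qn 0 650 600 2096552 16 6779332324 = true := by decide +kernel
theorem w0s217 : Cov 0 6779332924 6812877756 :=
  cov_of pb0 qb cl0 cl0 w0r217 _ _ _ (by decide +kernel)
theorem w0r218 : wins P0 Qn 0 608 600 2096552 16 6812877156 = true := by decide +kernel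
theorem w0s218 : Cov 0 6812877756 6846422588 :=
  cov_of pb0 qb cl0 cl0 w0r218 _ _ _ (by decide +kernel)
theorem w0r219 : wins P0 Qn 0 565 600 2096552 16 6846421988 = true := by decide +kernel
theorem w0s219 : Cov 0 6846422588 6879967420 :=
  cov_of pb0 qb cl0 cl0 w0r219 _ _ _ (by decide +kernel)
theorem w0r220 : wins P0 Qn 0 586 600 2096552 16 6879966820 = true := by decide +kernel
theorem w0s220 : Cov 0 6879967420 6913512252 :=
  cov_of pb0 qb cl0 cl0 w0r220 _ _ _ (by decide +kernel)
theorem w0r221 : wins P0 Qn 0 519 600 2096552 16 6913511652 = true := by decide +kernel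
theorem w0s221 : Cov 0 6913512252 6947057084 :=
  cov_of pb0 qb cl0 cl0 w0r221 _ _ _ (by decide +kernel)
theorem w0r222 : wins P0 Qn 0 546 600 2096552 16 6947056484 = true := by decide +kernel
theorem w0s222 : Cov 0 6947057084 6980601916 :=
  cov_of pb0 qb cl0 cl0 w0r222 _ _ _ (by decide +kernel)
theorem w0r223 : wins P0 Qn 0 553 600 2096552 16 6980601316 = true := by decide +kernel
theorem w0s223 : Cov 0 6980601916 7014146748 :=
  cov_of pb0 qb cl0 cl0 w0r223 _ _ _ (by decide +kernel)
theorem w0r224 : wins P0 Qn 0 535 600 2096552 16 7014146148 = true := by decide +kernel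
theorem w0s224 : Cov 0 7014146748 7047691580 :=
  cov_of pb0 qb cl0 cl0 w0r224 _ _ _ (by decide +kernel)
theorem w0r225 : wins P0 Qn 0 576 600 2096552 16 7047690980 = true := by decide +kernel
theorem w0s225 : Cov 0 7047691580 7081236412 :=
  cov_of pb0 qb cl0 cl0 w0r225 _ _ _ (by decide +kernel)
theorem w0r226 : wins P0 Qn 0 582 600 2096552 16 7081235812 = true := by decide +kernel
theorem w0s226 : Cov 0 7081236412 7114781244 :=
  cov_of pb0 qb cl0 cl0 w0r226 _ _ _ (by decide +kernel)
theorem w0r227 : wins P0 Qn 0 634 600 2096552 16 7114780644 = true := by decide +kernel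
theorem w0s227 : Cov 0 7114781244 7148326076 :=
  cov_of pb0 qb cl0 cl0 w0r227 _ _ _ (by decide +kernel)
theorem w0r228 : wins P0 Qn 0 642 600 2096552 16 7148325476 = true := by decide +kernel
theorem w0s228 : Cov 0 7148326076 7181870908 :=
  cov_of pb0 qb cl0 cl0 w0r228 _ _ _ (by decide +kernel)
theorem w0r229 : wins P0 Qn 0 636 600 2096552 16 7181870308 = true := by decide +kernel
theorem w0s229 : Cov 0 7181870908 7215415740 :=
  cov_of pb0 qb cl0 cl0 w0r229 _ _ _ (by decide +kernel)
theorem w0r230 : wins P0 Qn 0 543 600 2096552 16 7215415140 = true := by decide +kernel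
theorem w0s230 : Cov 0 7215415740 7248960572 :=
  cov_of pb0 qb cl0 cl0 w0r230 _ _ _ (by decide +kernel)
theorem w0r231 : wins P0 Qn 0 610 600 2096552 16 7248959972 = true := by decide +kernel
theorem w0s231 : Cov 0 7248960572 7282505404 :=
  cov_of pb0 qb cl0 cl0 w0r231 _ _ _ (by decide +kernel)
theorem w0r232 : wins P0 Qn 0 621 600 2096552 16 7282504804 = true := by decide +kernel
theorem w0s232 : Cov 0 7282505404 7316050236 :=
  cov_of pb0 qb cl0 cl0 w0r232 _ _ _ (by decide +kernel)
theorem w0r233 : wins P0 Qn 0 596 600 2096552 16 7316049636 = true := by decide +kernel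
theorem w0s233 : Cov 0 7316050236 7349595068 :=
  cov_of pb0 qb cl0 cl0 w0r233 _ _ _ (by decide +kernel)
theorem w0r234 : wins P0 Qn 0 548 600 2096552 16 7349594468 = true := by decide +kernel
theorem w0s234 : Cov 0 7349595068 7383139900 :=
  cov_of pb0 qb cl0 cl0 w0r234 _ _ _ (by decide +kernel)
theorem w0r235 : wins P0 Qn 0 569 600 2096552 16 7383139300 = true := by decide +kernel
theorem w0s235 : Cov 0 7383139900 7416684732 :=
  cov_of pb0 qb cl0 cl0 w0r235 _ _ _ (by decide +kernel)
theorem w0r236 : wins P0 Qn 0 602 600 2096552 16 7416684132 = true := by decide +kernel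
theorem w0s236 : Cov 0 7416684732 7450229564 :=
  cov_of pb0 qb cl0 cl0 w0r236 _ _ _ (by decide +kernel)
theorem w0r237 : wins P0 Qn 0 640 600 2096552 16 7450228964 = true := by decide +kernel
theorem w0s237 : Cov 0 7450229564 7483774396 :=
  cov_of pb0 qb cl0 cl0 w0r237 _ _ _ (by decide +kernel)
theorem w0r238 : wins P0 Qn 0 619 600 2096552 16 7483773796 = true := by decide +kernel
theorem w0s238 : Cov 0 7483774396 7517319228 :=
  cov_of pb0 qb cl0 cl0 w0r238 _ _ _ (by decide +kernel)
theorem w0r239 : wins P0 Qn 0 567 600 2096552 16 7517318628 = true := by decide +kernel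
theorem w0s239 : Cov 0 7517319228 7550864060 :=
  cov_of pb0 qb cl0 cl0 w0r239 _ _ _ (by decide +kernel)
theorem w0r240 : wins P0 Qn 0 552 600 2096552 16 7550863460 = true := by decide +kernel
theorem w0s240 : Cov 0 7550864060 7584408892 :=
  cov_of pb0 qb cl0 cl0 w0r240 _ _ _ (by decide +kernel)
theorem w0r241 : wins P0 Qn 0 578 600 2096552 16 7584408292 = true := by decide +kernel
theorem w0s241 : Cov 0 7584408892 7617953724 :=
  cov_of pb0 qb cl0 cl0 w0r241 _ _ _ (by decide +kernel)
theorem w0r242 : wins P0 Qn 0 629 600 2096552 16 7617953124 = true := by decide +kernel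
theorem w0s242 : Cov 0 7617953724 7651498556 :=
  cov_of pb0 qb cl0 cl0 w0r242 _ _ _ (by decide +kernel)
theorem w0r243 : wins P0 Qn 0 597 600 2096552 16 7651497956 = true := by decide +kernel
theorem w0s243 : Cov 0 7651498556 7685043388 :=
  cov_of pb0 qb cl0 cl0 w0r243 _ _ _ (by decide +kernel)
theorem w0r244 : wins P0 Qn 0 623 600 2096552 16 7685042788 = true := by decide +kernel
theorem w0s244 : Cov 0 7685043388 7718588220 :=
  cov_of pb0 qb cl0 cl0 w0r244 _ _ _ (by decide +kernel)
theorem w0r245 : wins P0 Qn 0 562 600 2096552 16 7718587620 = true := by decide +kernel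
theorem w0s245 : Cov 0 7718588220 7752133052 :=
  cov_of pb0 qb cl0 cl0 w0r245 _ _ _ (by decide +kernel)
theorem w0r246 : wins P0 Qn 0 577 600 2096552 16 7752132452 = true := by decide +kernel
theorem w0s246 : Cov 0 7752133052 7785677884 :=
  cov_of pb0 qb cl0 cl0 w0r246 _ _ _ (by decide +kernel)
theorem w0r247 : wins P0 Qn 0 532 600 2096552 16 7785677284 = true := by decide +kernel
theorem w0s247 : Cov 0 7785677884 7819222716 :=
  cov_of pb0 qb cl0 cl0 w0r247 _ _ _ (by decide +kernel)
theorem w0r248 : wins P0 Qn 0 524 600 2096552 16 7819222116 = true := by decide +kernel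
theorem w0s248 : Cov 0 7819222716 7852767548 :=
  cov_of pb0 qb cl0 cl0 w0r248 _ _ _ (by decide +kernel)
theorem w0r249 : wins P0 Qn 0 693 600 2096552 16 7852766948 = true := by decide +kernel
theorem w0s249 : Cov 0 7852767548 7886312380 :=
  cov_of pb0 qb cl0 cl0 w0r249 _ _ _ (by decide +kernel)
theorem w0r250 : wins P0 Qn 0 549 600 2096552 16 7886311780 = true := by decide +kernel
theorem w0s250 : Cov 0 7886312380 7919857212 :=
  cov_of pb0 qb cl0 cl0 w0r250 _ _ _ (by decide +kernel)
theorem w0r251 : wins P0 Qn 0 557 600 2096552 16 7919856612 = true := by decide +kernel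
theorem w0s251 : Cov 0 7919857212 7953402044 :=
  cov_of pb0 qb cl0 cl0 w0r251 _ _ _ (by decide +kernel)
theorem w0r252 : wins P0 Qn 0 656 600 2096552 16 7953401444 = true := by decide +kernel
theorem w0s252 : Cov 0 7953402044 7986946876 :=
  cov_of pb0 qb cl0 cl0 w0r252 _ _ _ (by decide +kernel)
theorem w0r253 : wins P0 Qn 0 664 600 2096552 16 7986946276 = true := by decide +kernel
theorem w0s253 : Cov 0 7986946876 8020491708 :=
  cov_of pb0 qb cl0 cl0 w0r253 _ _ _ (by decide +kernel)
theorem w0r254 : wins P0 Qn 0 616 600 2096552 16 8020491108 = true := by decide +kernel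
theorem w0s254 : Cov 0 8020491708 8054036540 :=
  cov_of pb0 qb cl0 cl0 w0r254 _ _ _ (by decide +kernel)
theorem w0r255 : wins P0 Qn 0 567 600 2096552 16 8054035940 = true := by decide +kernel
theorem w0s255 : Cov 0 8054036540 8087581372 :=
  cov_of pb0 qb cl0 cl0 w0r255 _ _ _ (by decide +kernel)
theorem w0r256 : wins P0 Qn 0 570 600 2096552 16 8087580772 = true := by decide +kernel
theorem w0s256 : Cov 0 8087581372 8121126204 :=
  cov_of pb0 qb cl0 cl0 w0r256 _ _ _ (by decide +kernel)
theorem w0r257 : wins P0 Qn 0 638 600 2096552 16 8121125604 = true := by decide +kernel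
theorem w0s257 : Cov 0 8121126204 8154671036 :=
  cov_of pb0 qb cl0 cl0 w0r257 _ _ _ (by decide +kernel)
theorem w0r258 : wins P0 Qn 0 644 600 2096552 16 8154670436 = true := by decide +kernel
theorem w0s258 : Cov 0 8154671036 8188215868 :=
  cov_of pb0 qb cl0 cl0 w0r258 _ _ _ (by decide +kernel)
theorem w0r259 : wins P0 Qn 0 587 600 2096552 16 8188215268 = true := by decide +kernel
theorem w0s259 : Cov 0 8188215868 8221760700 :=
  cov_of pb0 qb cl0 cl0 w0r259 _ _ _ (by decide +kernel)
theorem w0r260 : wins P0 Qn 0 580 600 2096552 16 8221760100 = true := by decide +kernel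
theorem w0s260 : Cov 0 8221760700 8255305532 :=
  cov_of pb0 qb cl0 cl0 w0r260 _ _ _ (by decide +kernel)
theorem w0r261 : wins P0 Qn 0 626 600 2096552 16 8255304932 = true := by decide +kernel
theorem w0s261 : Cov 0 8255305532 8288850364 :=
  cov_of pb0 qb cl0 cl0 w0r261 _ _ _ (by decide +kernel)
theorem w0r262 : wins P0 Qn 0 557 600 2096552 16 8288849764 = true := by decide +kernel
theorem w0s262 : Cov 0 8288850364 8322395196 :=
  cov_of pb0 qb cl0 cl0 w0r262 _ _ _ (by decide +kernel)
theorem w0r263 : wins P0 Qn 0 548 600 2096552 6 8322394596 = true := by decide +kernel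
theorem w0s263 : Cov 0 8322395196 8334974508 :=
  cov_of pb0 qb cl0 cl0 w0r263 _ _ _ (by decide +kernel)

theorem cov0b : Cov 0 4162836028 8334974508 :=
  ((((((w0s139.app (w0s140.app w0s141)).app ((w0s142.app w0s143).app (w0s144.app w0s145))).app (((w0s146.app w0s147).app (w0s148.app w0s149)).app ((w0s150.app w0s151).app (w0s152.app w0s153)))).app ((((w0s154.app w0s155).app (w0s156.app w0s157)).app ((w0s158.app w0s159).app (w0s160.app w0s161))).app (((w0s162.app w0s163).app (w0s164.app w0s165)).app ((w0s166.app w0s167).app (w0s168.app w0s169))))).app ((((w0s170.app (w0s171.app w0s172)).app ((w0s173.app w0s174).app (w0s175.app w0s176))).app (((w0s177.app w0s178).app (w0s179.app w0s180)).app ((w0s181.app w0s182).app (w0s183.app w0s184)))).app ((((w0s185.app w0s186).app (w0s187.app w0s188)).app ((w0s189.app w0s190).app (w0s191.app w0s192))).app (((w0s193.app w0s194).app (w0s195.app w0s196)).app ((w0s197.app w0s198).app (w0s199.app w0s200)))))).app (((((w0s201.app (w0s202.app w0s203)).app ((w0s204.app w0s205).app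 (w0s206.app w0s207))).app (((w0s208.app w0s209).app (w0s210.app w0s211)).app ((w0s212.app w0s213).app (w0s214.app w0s215)))).app ((((w0s216.app w0s217).app (w0s218.app w0s219)).app ((w0s220.app w0s221).app (w0s222.app w0s223))).app (((w0s224.app w0s225).app (w0s226.app w0s227)).app ((w0s228.app w0s229).app (w0s230.app w0s231))))).app (((((w0s232.app w0s233).app (w0s234.app w0s235)).app ((w0s236.app w0s237).app (w0s238.app w0s239))).app (((w0s240.app w0s241).app (w0s242.app w0s243)).app ((w0s244.app w0s245).app (w0s246.app w0s247)))).app ((((w0s248.app w0s249).app (w0s250.app w0s251)).app ((w0s252.app w0s253).app (w0s254.app w0s255))).app (((w0s256.app w0s257).app (w0s258.app w0s259)).app ((w0s260.app w0s261).app (w0s262.app w0s263)))))))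

end Cfsg.Agent.Depth.F
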