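import Cfsg.Agent.Depth.F.P2
import Cfsg.Agent.Depth.F.Q

/-! The numbers `30 M + 14` as sums `(p + 1) + (q + 1)`, part 1. -/

set_option autoImplicit false
set_option Elab.async false

namespace Cfsg.Agent.Depth.F

theorem w14r0 : wins P2 (Nat.factorial 708) 12 27 30 100 1 130 = true := by decide +kernel
theorem w14s0 : Cov 14 160 260 :=
  cov_of pb2 qb0 cl2 cl12 w14r0 _ _ _ (by decide +kernel)
theorem w14r1 : wins P2 (Nat.factorial 708) 12 34 30 200 1 230 = true := by decide +kernel
theorem w14s1 : Cov 14 260 460 :=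
  cov_of pb2 qb0 cl2 cl12 w14r1 _ _ _ (by decide +kernel)
theorem w14r2 : wins P2 (Nat.factorial 708) 12 27 30 400 1 430 = true := by decide +kernel
theorem w14s2 : Cov 14 460 860 :=
  cov_of pb2 qb0 cl2 cl12 w14r2 _ _ _ (by decide +kernel)
theorem w14r3 : wins P2 (Nat.factorial 708) 12 48 30 800 1 830 = true := by decide +kernel
theorem w14s3 : Cov 14 860 1660 :=
  cov_of pb2 qb0 cl2 cl12 w14r3 _ _ _ (by decide +kernel)
theorem w14r4 : wins P2 (Nat.factorial 708) 12 48 30 1600 1 1630 = true := by decide +kernel
theorem w14s4 : Cov 14 1660 3260 :=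
  cov_of pb2 qb0 cl2 cl12 w14r4 _ _ _ (by decide +kernel)
theorem w14r5 : wins P2 (Nat.factorial 708) 12 77 30 3200 1 3230 = true := by decide +kernel
theorem w14s5 : Cov 14 3260 6460 :=
  cov_of pb2 qb0 cl2 cl12 w14r5 _ _ _ (by decide +kernel)
theorem w14r6 : wins P2 (Nat.factorial 708) 12 70 30 6400 1 6430 = true := by decide +kernel
theorem w14s6 : Cov 14 6460 12860 :=
  cov_of pb2 qb0 cl2 cl12 w14r6 _ _ _ (by decide +kernel)
theorem w14r7 : wins P2 (Nat.factorial 708) 12 76 30 12800 1 12830 = true := by decide +kernel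
theorem w14s7 : Cov 14 12860 25660 :=
  cov_of pb2 qb0 cl2 cl12 w14r7 _ _ _ (by decide +kernel)
theorem w14r8 : wins P2 Qn 12 119 30 25600 1 25630 = true := by decide +kernel
theorem w14s8 : Cov 14 25660 51260 :=
  cov_of pb2 qb cl2 cl12 w14r8 _ _ _ (by decide +kernel)
theorem w14r9 : wins P2 Qn 12 122 30 51200 1 51230 = true := by decide +kernel
theorem w14s9 : Cov 14 51260 102460 :=
  cov_of pb2 qb cl2 cl12 w14r9 _ _ _ (by decide +kernel)
theorem w14r10 : wins P2 Qn 12 205 30 102400 1 102430 = true := by decide +kernel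
theorem w14s10 : Cov 14 102460 204860 :=
  cov_of pb2 qb cl2 cl12 w14r10 _ _ _ (by decide +kernel)
theorem w14r11 : wins P2 Qn 12 231 30 204800 1 204830 = true := by decide +kernel
theorem w14s11 : Cov 14 204860 409660 :=
  cov_of pb2 qb cl2 cl12 w14r11 _ _ _ (by decide +kernel)
theorem w14r12 : wins P2 Qn 12 297 40 409580 1 409620 = true := by decide +kernel
theorem w14s12 : Cov 14 409660 819240 :=
  cov_of pb2 qb cl2 cl12 w14r12 _ _ _ (by decide +kernel)
theorem w14r13 : wins P2 Qn 12 267 30 819180 1 819210 = true := by decide +kernel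
theorem w14s13 : Cov 14 819240 1638420 :=
  cov_of pb2 qb cl2 cl12 w14r13 _ _ _ (by decide +kernel)
theorem w14r14 : wins P2 Qn 12 261 30 1638360 1 1638390 = true := by decide +kernel
theorem w14s14 : Cov 14 1638420 3276780 :=
  cov_of pb2 qb cl2 cl12 w14r14 _ _ _ (by decide +kernel)
theorem w14r15 : wins P2 Qn 12 458 600 2096552 16 3276180 = true := by decide +kernel
theorem w14s15 : Cov 14 3276780 36821612 :=
  cov_of pb2 qb cl2 cl12 w14r15 _ _ _ (by decide +kernel)
theorem w14r16 : wins P2 Qn 12 495 600 2096552 16 36821012 = true := by decide +kernel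
theorem w14s16 : Cov 14 36821612 70366444 :=
  cov_of pb2 qb cl2 cl12 w14r16 _ _ _ (by decide +kernel)
theorem w14r17 : wins P2 Qn 12 514 600 2096552 16 70365844 = true := by decide +kernel
theorem w14s17 : Cov 14 70366444 103911276 :=
  cov_of pb2 qb cl2 cl12 w14r17 _ _ _ (by decide +kernel)
theorem w14r18 : wins P2 Qn 12 469 600 2096552 16 103910676 = true := by decide +kernel
theorem w14s18 : Cov 14 103911276 137456108 :=
  cov_of pb2 qb cl2 cl12 w14r18 _ _ _ (by decide +kernel)
theorem w14r19 : wins P2 Qn 12 482 600 2096552 16 137455508 = true := by decide +kernel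
theorem w14s19 : Cov 14 137456108 171000940 :=
  cov_of pb2 qb cl2 cl12 w14r19 _ _ _ (by decide +kernel)
theorem w14r20 : wins P2 Qn 12 443 600 2096552 16 171000340 = true := by decide +kernel
theorem w14s20 : Cov 14 171000940 204545772 :=
  cov_of pb2 qb cl2 cl12 w14r20 _ _ _ (by decide +kernel)
theorem w14r21 : wins P2 Qn 12 464 600 2096552 16 204545172 = true := by decide +kernel
theorem w14s21 : Cov 14 204545772 238090604 :=
  cov_of pb2 qb cl2 cl12 w14r21 _ _ _ (by decide +kernel)
theorem w14r22 : wins P2 Qn 12 574 600 2096552 16 238090004 = true := by decide +kernel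
theorem w14s22 : Cov 14 238090604 271635436 :=
  cov_of pb2 qb cl2 cl12 w14r22 _ _ _ (by decide +kernel)
theorem w14r23 : wins P2 Qn 12 528 600 2096552 16 271634836 = true := by decide +kernel
theorem w14s23 : Cov 14 271635436 305180268 :=
  cov_of pb2 qb cl2 cl12 w14r23 _ _ _ (by decide +kernel)
theorem w14r24 : wins P2 Qn 12 529 600 2096552 16 305179668 = true := by decide +kernel
theorem w14s24 : Cov 14 305180268 338725100 :=
  cov_of pb2 qb cl2 cl12 w14r24 _ _ _ (by decide +kernel)
theorem w14r25 : wins P2 Qn 12 516 600 2096552 16 338724500 = true := by decide +kernel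
theorem w14s25 : Cov 14 338725100 372269932 :=
  cov_of pb2 qb cl2 cl12 w14r25 _ _ _ (by decide +kernel)
theorem w14r26 : wins P2 Qn 12 552 600 2096552 16 372269332 = true := by decide +kernel
theorem w14s26 : Cov 14 372269932 405814764 :=
  cov_of pb2 qb cl2 cl12 w14r26 _ _ _ (by decide +kernel)
theorem w14r27 : wins P2 Qn 12 485 600 2096552 16 405814164 = true := by decide +kernel
theorem w14s27 : Cov 14 405814764 439359596 :=
  cov_of pb2 qb cl2 cl12 w14r27 _ _ _ (by decide +kernel)
theorem w14r28 : wins P2 Qn 12 527 600 2096552 16 439358996 = true := by decide +kernel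
theorem w14s28 : Cov 14 439359596 472904428 :=
  cov_of pb2 qb cl2 cl12 w14r28 _ _ _ (by decide +kernel)
theorem w14r29 : wins P2 Qn 12 485 600 2096552 16 472903828 = true := by decide +kernel
theorem w14s29 : Cov 14 472904428 506449260 :=
  cov_of pb2 qb cl2 cl12 w14r29 _ _ _ (by decide +kernel)
theorem w14r30 : wins P2 Qn 12 631 600 2096552 16 506448660 = true := by decide +kernel
theorem w14s30 : Cov 14 506449260 539994092 :=
  cov_of pb2 qb cl2 cl12 w14r30 _ _ _ (by decide +kernel)
theorem w14r31 : wins P2 Qn 12 494 600 2096552 16 539993492 = true := by decide +kernel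
theorem w14s31 : Cov 14 539994092 573538924 :=
  cov_of pb2 qb cl2 cl12 w14r31 _ _ _ (by decide +kernel)
theorem w14r32 : wins P2 Qn 12 576 600 2096552 16 573538324 = true := by decide +kernel
theorem w14s32 : Cov 14 573538924 607083756 :=
  cov_of pb2 qb cl2 cl12 w14r32 _ _ _ (by decide +kernel)
theorem w14r33 : wins P2 Qn 12 542 600 2096552 16 607083156 = true := by decide +kernel
theorem w14s33 : Cov 14 607083756 640628588 :=
  cov_of pb2 qb cl2 cl12 w14r33 _ _ _ (by decide +kernel)
theorem w14r34 : wins P2 Qn 12 546 600 2096552 16 640627988 = true := by decide +kernel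
theorem w14s34 : Cov 14 640628588 674173420 :=
  cov_of pb2 qb cl2 cl12 w14r34 _ _ _ (by decide +kernel)
theorem w14r35 : wins P2 Qn 12 538 600 2096552 16 674172820 = true := by decide +kernel
theorem w14s35 : Cov 14 674173420 707718252 :=
  cov_of pb2 qb cl2 cl12 w14r35 _ _ _ (by decide +kernel)
theorem w14r36 : wins P2 Qn 12 469 600 2096552 16 707717652 = true := by decide +kernel
theorem w14s36 : Cov 14 707718252 741263084 :=
  cov_of pb2 qb cl2 cl12 w14r36 _ _ _ (by decide +kernel)
theorem w14r37 : wins P2 Qn 12 501 600 2096552 16 741262484 = true := by decide +kernel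
theorem w14s37 : Cov 14 741263084 774807916 :=
  cov_of pb2 qb cl2 cl12 w14r37 _ _ _ (by decide +kernel)
theorem w14r38 : wins P2 Qn 12 541 600 2096552 16 774807316 = true := by decide +kernel
theorem w14s38 : Cov 14 774807916 808352748 :=
  cov_of pb2 qb cl2 cl12 w14r38 _ _ _ (by decide +kernel)
theorem w14r39 : wins P2 Qn 12 493 600 2096552 16 808352148 = true := by decide +kernel
theorem w14s39 : Cov 14 808352748 841897580 :=
  cov_of pb2 qb cl2 cl12 w14r39 _ _ _ (by decide +kernel)
theorem w14r40 : wins P2 Qn 12 561 600 2096552 16 841896980 = true := by decide +kernel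
theorem w14s40 : Cov 14 841897580 875442412 :=
  cov_of pb2 qb cl2 cl12 w14r40 _ _ _ (by decide +kernel)
theorem w14r41 : wins P2 Qn 12 543 600 2096552 16 875441812 = true := by decide +kernel
theorem w14s41 : Cov 14 875442412 908987244 :=
  cov_of pb2 qb cl2 cl12 w14r41 _ _ _ (by decide +kernel)
theorem w14r42 : wins P2 Qn 12 526 600 2096552 16 908986644 = true := by decide +kernel
theorem w14s42 : Cov 14 908987244 942532076 :=
  cov_of pb2 qb cl2 cl12 w14r42 _ _ _ (by decide +kernel)
theorem w14r43 : wins P2 Qn 12 592 600 2096552 16 942531476 = true := by decide +kernel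
theorem w14s43 : Cov 14 942532076 976076908 :=
  cov_of pb2 qb cl2 cl12 w14r43 _ _ _ (by decide +kernel)
theorem w14r44 : wins P2 Qn 12 571 600 2096552 16 976076308 = true := by decide +kernel
theorem w14s44 : Cov 14 976076908 1009621740 :=
  cov_of pb2 qb cl2 cl12 w14r44 _ _ _ (by decide +kernel)
theorem w14r45 : wins P2 Qn 12 550 600 2096552 16 1009621140 = true := by decide +kernel
theorem w14s45 : Cov 14 1009621740 1043166572 :=
  cov_of pb2 qb cl2 cl12 w14r45 _ _ _ (by decide +kernel)
theorem w14r46 : wins P2 Qn 12 501 600 2096552 16 1043165972 = true := by decide +kernel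
theorem w14s46 : Cov 14 1043166572 1076711404 :=
  cov_of pb2 qb cl2 cl12 w14r46 _ _ _ (by decide +kernel)
theorem w14r47 : wins P2 Qn 12 557 600 2096552 16 1076710804 = true := by decide +kernel
theorem w14s47 : Cov 14 1076711404 1110256236 :=
  cov_of pb2 qb cl2 cl12 w14r47 _ _ _ (by decide +kernel)
theorem w14r48 : wins P2 Qn 12 615 600 2096552 16 1110255636 = true := by decide +kernel
theorem w14s48 : Cov 14 1110256236 1143801068 :=
  cov_of pb2 qb cl2 cl12 w14r48 _ _ _ (by decide +kernel)
theorem w14r49 : wins P2 Qn 12 475 600 2096552 16 1143800468 = true := by decide +kernel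
theorem w14s49 : Cov 14 1143801068 1177345900 :=
  cov_of pb2 qb cl2 cl12 w14r49 _ _ _ (by decide +kernel)
theorem w14r50 : wins P2 Qn 12 527 600 2096552 16 1177345300 = true := by decide +kernel
theorem w14s50 : Cov 14 1177345900 1210890732 :=
  cov_of pb2 qb cl2 cl12 w14r50 _ _ _ (by decide +kernel)
theorem w14r51 : wins P2 Qn 12 521 600 2096552 16 1210890132 = true := by decide +kernel
theorem w14s51 : Cov 14 1210890732 1244435564 :=
  cov_of pb2 qb cl2 cl12 w14r51 _ _ _ (by decide +kernel)
theorem w14r52 : wins P2 Qn 12 522 600 2096552 16 1244434964 = true := by decide +kernel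
theorem w14s52 : Cov 14 1244435564 1277980396 :=
  cov_of pb2 qb cl2 cl12 w14r52 _ _ _ (by decide +kernel)
theorem w14r53 : wins P2 Qn 12 612 600 2096552 16 1277979796 = true := by decide +kernel
theorem w14s53 : Cov 14 1277980396 1311525228 :=
  cov_of pb2 qb cl2 cl12 w14r53 _ _ _ (by decide +kernel)
theorem w14r54 : wins P2 Qn 12 515 600 2096552 16 1311524628 = true := by decide +kernel
theorem w14s54 : Cov 14 1311525228 1345070060 :=
  cov_of pb2 qb cl2 cl12 w14r54 _ _ _ (by decide +kernel)
theorem w14r55 : wins P2 Qn 12 604 600 2096552 16 1345069460 = true := by decide +kernel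
theorem w14s55 : Cov 14 1345070060 1378614892 :=
  cov_of pb2 qb cl2 cl12 w14r55 _ _ _ (by decide +kernel)
theorem w14r56 : wins P2 Qn 12 518 600 2096552 16 1378614292 = true := by decide +kernel
theorem w14s56 : Cov 14 1378614892 1412159724 :=
  cov_of pb2 qb cl2 cl12 w14r56 _ _ _ (by decide +kernel)
theorem w14r57 : wins P2 Qn 12 570 600 2096552 16 1412159124 = true := by decide +kernel
theorem w14s57 : Cov 14 1412159724 1445704556 :=
  cov_of pb2 qb cl2 cl12 w14r57 _ _ _ (by decide +kernel)
theorem w14r58 : wins P2 Qn 12 623 600 2096552 16 1445703956 = true := by decide +kernel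
theorem w14s58 : Cov 14 1445704556 1479249388 :=
  cov_of pb2 qb cl2 cl12 w14r58 _ _ _ (by decide +kernel)
theorem w14r59 : wins P2 Qn 12 540 600 2096552 16 1479248788 = true := by decide +kernel
theorem w14s59 : Cov 14 1479249388 1512794220 :=
  cov_of pb2 qb cl2 cl12 w14r59 _ _ _ (by decide +kernel)
theorem w14r60 : wins P2 Qn 12 520 600 2096552 16 1512793620 = true := by decide +kernel
theorem w14s60 : Cov 14 1512794220 1546339052 :=
  cov_of pb2 qb cl2 cl12 w14r60 _ _ _ (by decide +kernel)
theorem w14r61 : wins P2 Qn 12 504 600 2096552 16 1546338452 = true := by decide +kernel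
theorem w14s61 : Cov 14 1546339052 1579883884 :=
  cov_of pb2 qb cl2 cl12 w14r61 _ _ _ (by decide +kernel)
theorem w14r62 : wins P2 Qn 12 526 600 2096552 16 1579883284 = true := by decide +kernel
theorem w14s62 : Cov 14 1579883884 1613428716 :=
  cov_of pb2 qb cl2 cl12 w14r62 _ _ _ (by decide +kernel)
theorem w14r63 : wins P2 Qn 12 581 600 2096552 16 1613428116 = true := by decide +kernel
theorem w14s63 : Cov 14 1613428716 1646973548 :=
  cov_of pb2 qb cl2 cl12 w14r63 _ _ _ (by decide +kernel)
theorem w14r64 : wins P2 Qn 12 543 600 2096552 16 1646972948 = true := by decide +kernel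
theorem w14s64 : Cov 14 1646973548 1680518380 :=
  cov_of pb2 qb cl2 cl12 w14r64 _ _ _ (by decide +kernel)
theorem w14r65 : wins P2 Qn 12 584 600 2096552 16 1680517780 = true := by decide +kernel
theorem w14s65 : Cov 14 1680518380 1714063212 :=
  cov_of pb2 qb cl2 cl12 w14r65 _ _ _ (by decide +kernel)
theorem w14r66 : wins P2 Qn 12 498 600 2096552 16 1714062612 = true := by decide +kernel
theorem w14s66 : Cov 14 1714063212 1747608044 :=
  cov_of pb2 qb cl2 cl12 w14r66 _ _ _ (by decide +kernel)
theorem w14r67 : wins P2 Qn 12 590 600 2096552 16 1747607444 = true := by decide +kernel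
theorem w14s67 : Cov 14 1747608044 1781152876 :=
  cov_of pb2 qb cl2 cl12 w14r67 _ _ _ (by decide +kernel)
theorem w14r68 : wins P2 Qn 12 556 600 2096552 16 1781152276 = true := by decide +kernel
theorem w14s68 : Cov 14 1781152876 1814697708 :=
  cov_of pb2 qb cl2 cl12 w14r68 _ _ _ (by decide +kernel)
theorem w14r69 : wins P2 Qn 12 502 600 2096552 16 1814697108 = true := by decide +kernel
theorem w14s69 : Cov 14 1814697708 1848242540 :=
  cov_of pb2 qb cl2 cl12 w14r69 _ _ _ (by decide +kernel)
theorem w14r70 : wins P2 Qn 12 512 600 2096552 16 1848241940 = true := by decide +kernel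
theorem w14s70 : Cov 14 1848242540 1881787372 :=
  cov_of pb2 qb cl2 cl12 w14r70 _ _ _ (by decide +kernel)
theorem w14r71 : wins P2 Qn 12 535 600 2096552 16 1881786772 = true := by decide +kernel
theorem w14s71 : Cov 14 1881787372 1915332204 :=
  cov_of pb2 qb cl2 cl12 w14r71 _ _ _ (by decide +kernel)
theorem w14r72 : wins P2 Qn 12 599 600 2096552 16 1915331604 = true := by decide +kernel
theorem w14s72 : Cov 14 1915332204 1948877036 :=
  cov_of pb2 qb cl2 cl12 w14r72 _ _ _ (by decide +kernel)
theorem w14r73 : wins P2 Qn 12 502 600 2096552 16 1948876436 = true := by decide +kernel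
theorem w14s73 : Cov 14 1948877036 1982421868 :=
  cov_of pb2 qb cl2 cl12 w14r73 _ _ _ (by decide +kernel)
theorem w14r74 : wins P2 Qn 12 550 600 2096552 16 1982421268 = true := by decide +kernel
theorem w14s74 : Cov 14 1982421868 2015966700 :=
  cov_of pb2 qb cl2 cl12 w14r74 _ _ _ (by decide +kernel)
theorem w14r75 : wins P2 Qn 12 567 600 2096552 16 2015966100 = true := by decide +kernel
theorem w14s75 : Cov 14 2015966700 2049511532 :=
  cov_of pb2 qb cl2 cl12 w14r75 _ _ _ (by decide +kernel)
theorem w14r76 : wins P2 Qn 12 496 600 2096552 16 2049510932 = true := by decide +kernel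
theorem w14s76 : Cov 14 2049511532 2083056364 :=
  cov_of pb2 qb cl2 cl12 w14r76 _ _ _ (by decide +kernel)
theorem w14r77 : wins P2 Qn 12 595 600 2096552 16 2083055764 = true := by decide +kernel
theorem w14s77 : Cov 14 2083056364 2116601196 :=
  cov_of pb2 qb cl2 cl12 w14r77 _ _ _ (by decide +kernel)
theorem w14r78 : wins P2 Qn 12 574 600 2096552 16 2116600596 = true := by decide +kernel
theorem w14s78 : Cov 14 2116601196 2150146028 :=
  cov_of pb2 qb cl2 cl12 w14r78 _ _ _ (by decide +kernel)
theorem w14r79 : wins P2 Qn 12 553 600 2096552 16 2150145428 = true := by decide +kernel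
theorem w14s79 : Cov 14 2150146028 2183690860 :=
  cov_of pb2 qb cl2 cl12 w14r79 _ _ _ (by decide +kernel)
theorem w14r80 : wins P2 Qn 12 535 600 2096552 16 2183690260 = true := by decide +kernel
theorem w14s80 : Cov 14 2183690860 2217235692 :=
  cov_of pb2 qb cl2 cl12 w14r80 _ _ _ (by decide +kernel)
theorem w14r81 : wins P2 Qn 12 545 600 2096552 16 2217235092 = true := by decide +kernel
theorem w14s81 : Cov 14 2217235692 2250780524 :=
  cov_of pb2 qb cl2 cl12 w14r81 _ _ _ (by decide +kernel)
theorem w14r82 : wins P2 Qn 12 521 600 2096552 16 2250779924 = true := by decide +kernel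
theorem w14s82 : Cov 14 2250780524 2284325356 :=
  cov_of pb2 qb cl2 cl12 w14r82 _ _ _ (by decide +kernel)
theorem w14r83 : wins P2 Qn 12 559 600 2096552 16 2284324756 = true := by decide +kernel
theorem w14s83 : Cov 14 2284325356 2317870188 :=
  cov_of pb2 qb cl2 cl12 w14r83 _ _ _ (by decide +kernel)
theorem w14r84 : wins P2 Qn 12 524 600 2096552 16 2317869588 = true := by decide +kernel
theorem w14s84 : Cov 14 2317870188 2351415020 :=
  cov_of pb2 qb cl2 cl12 w14r84 _ _ _ (by decide +kernel)
theorem w14r85 : wins P2 Qn 12 577 600 2096552 16 2351414420 = true := by decide +kernel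
theorem w14s85 : Cov 14 2351415020 2384959852 :=
  cov_of pb2 qb cl2 cl12 w14r85 _ _ _ (by decide +kernel)
theorem w14r86 : wins P2 Qn 12 579 600 2096552 16 2384959252 = true := by decide +kernel
theorem w14s86 : Cov 14 2384959852 2418504684 :=
  cov_of pb2 qb cl2 cl12 w14r86 _ _ _ (by decide +kernel)
theorem w14r87 : wins P2 Qn 12 562 600 2096552 16 2418504084 = true := by decide +kernel
theorem w14s87 : Cov 14 2418504684 2452049516 :=
  cov_of pb2 qb cl2 cl12 w14r87 _ _ _ (by decide +kernel)
theorem w14r88 : wins P2 Qn 12 593 600 2096552 16 2452048916 = true := by decide +kernel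
theorem w14s88 : Cov 14 2452049516 2485594348 :=
  cov_of pb2 qb cl2 cl12 w14r88 _ _ _ (by decide +kernel)
theorem w14r89 : wins P2 Qn 12 593 600 2096552 16 2485593748 = true := by decide +kernel
theorem w14s89 : Cov 14 2485594348 2519139180 :=
  cov_of pb2 qb cl2 cl12 w14r89 _ _ _ (by decide +kernel)
theorem w14r90 : wins P2 Qn 12 516 600 2096552 16 2519138580 = true := by decide +kernel
theorem w14s90 : Cov 14 2519139180 2552684012 :=
  cov_of pb2 qb cl2 cl12 w14r90 _ _ _ (by decide +kernel)
theorem w14r91 : wins P2 Qn 12 505 600 2096552 16 2552683412 = true := by decide +kernel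
theorem w14s91 : Cov 14 2552684012 2586228844 :=
  cov_of pb2 qb cl2 cl12 w14r91 _ _ _ (by decide +kernel)
theorem w14r92 : wins P2 Qn 12 641 600 2096552 16 2586228244 = true := by decide +kernel
theorem w14s92 : Cov 14 2586228844 2619773676 :=
  cov_of pb2 qb cl2 cl12 w14r92 _ _ _ (by decide +kernel)
theorem w14r93 : wins P2 Qn 12 560 600 2096552 16 2619773076 = true := by decide +kernel
theorem w14s93 : Cov 14 2619773676 2653318508 :=
  cov_of pb2 qb cl2 cl12 w14r93 _ _ _ (by decide +kernel)
theorem w14r94 : wins P2 Qn 12 583 600 2096552 16 2653317908 = true := by decide +kernel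
theorem w14s94 : Cov 14 2653318508 2686863340 :=
  cov_of pb2 qb cl2 cl12 w14r94 _ _ _ (by decide +kernel)
theorem w14r95 : wins P2 Qn 12 591 600 2096552 16 2686862740 = true := by decide +kernel
theorem w14s95 : Cov 14 2686863340 2720408172 :=
  cov_of pb2 qb cl2 cl12 w14r95 _ _ _ (by decide +kernel)
theorem w14r96 : wins P2 Qn 12 535 600 2096552 16 2720407572 = true := by decide +kernel
theorem w14s96 : Cov 14 2720408172 2753953004 :=
  cov_of pb2 qb cl2 cl12 w14r96 _ _ _ (by decide +kernel)
theorem w14r97 : wins P2 Qn 12 560 600 2096552 16 2753952404 = true := by decide +kernel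
theorem w14s97 : Cov 14 2753953004 2787497836 :=
  cov_of pb2 qb cl2 cl12 w14r97 _ _ _ (by decide +kernel)
theorem w14r98 : wins P2 Qn 12 572 600 2096552 16 2787497236 = true := by decide +kernel
theorem w14s98 : Cov 14 2787497836 2821042668 :=
  cov_of pb2 qb cl2 cl12 w14r98 _ _ _ (by decide +kernel)
theorem w14r99 : wins P2 Qn 12 526 600 2096552 16 2821042068 = true := by decide +kernel
theorem w14s99 : Cov 14 2821042668 2854587500 :=
  cov_of pb2 qb cl2 cl12 w14r99 _ _ _ (by decide +kernel)
theorem w14r100 : wins P2 Qn 12 561 600 2096552 16 2854586900 = true := by decide +kernel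
theorem w14s100 : Cov 14 2854587500 2888132332 :=
  cov_of pb2 qb cl2 cl12 w14r100 _ _ _ (by decide +kernel)
theorem w14r101 : wins P2 Qn 12 544 600 2096552 16 2888131732 = true := by decide +kernel
theorem w14s101 : Cov 14 2888132332 2921677164 :=
  cov_of pb2 qb cl2 cl12 w14r101 _ _ _ (by decide +kernel)
theorem w14r102 : wins P2 Qn 12 556 600 2096552 16 2921676564 = true := by decide +kernel
theorem w14s102 : Cov 14 2921677164 2955221996 :=
  cov_of pb2 qb cl2 cl12 w14r102 _ _ _ (by decide +kernel)
theorem w14r103 : wins P2 Qn 12 599 600 2096552 16 2955221396 = true := by decide +kernel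
theorem w14s103 : Cov 14 2955221996 2988766828 :=
  cov_of pb2 qb cl2 cl12 w14r103 _ _ _ (by decide +kernel)
theorem w14r104 : wins P2 Qn 12 543 600 2096552 16 2988766228 = true := by decide +kernel
theorem w14s104 : Cov 14 2988766828 3022311660 :=
  cov_of pb2 qb cl2 cl12 w14r104 _ _ _ (by decide +kernel)
theorem w14r105 : wins P2 Qn 12 549 600 2096552 16 3022311060 = true := by decide +kernel
theorem w14s105 : Cov 14 3022311660 3055856492 :=
  cov_of pb2 qb cl2 cl12 w14r105 _ _ _ (by decide +kernel)
theorem w14r106 : wins P2 Qn 12 458 600 2096552 16 3055855892 = true := by decide +kernel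
theorem w14s106 : Cov 14 3055856492 3089401324 :=
  cov_of pb2 qb cl2 cl12 w14r106 _ _ _ (by decide +kernel)
theorem w14r107 : wins P2 Qn 12 672 600 2096552 16 3089400724 = true := by decide +kernel
theorem w14s107 : Cov 14 3089401324 3122946156 :=
  cov_of pb2 qb cl2 cl12 w14r107 _ _ _ (by decide +kernel)
theorem w14r108 : wins P2 Qn 12 572 600 2096552 16 3122945556 = true := by decide +kernel
theorem w14s108 : Cov 14 3122946156 3156490988 :=
  cov_of pb2 qb cl2 cl12 w14r108 _ _ _ (by decide +kernel)
theorem w14r109 : wins P2 Qn 12 528 600 2096552 16 3156490388 = true := by decide +kernel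
theorem w14s109 : Cov 14 3156490988 3190035820 :=
  cov_of pb2 qb cl2 cl12 w14r109 _ _ _ (by decide +kernel)
theorem w14r110 : wins P2 Qn 12 484 600 2096552 16 3190035220 = true := by decide +kernel
theorem w14s110 : Cov 14 3190035820 3223580652 :=
  cov_of pb2 qb cl2 cl12 w14r110 _ _ _ (by decide +kernel)
theorem w14r111 : wins P2 Qn 12 580 600 2096552 16 3223580052 = true := by decide +kernel
theorem w14s111 : Cov 14 3223580652 3257125484 :=
  cov_of pb2 qb cl2 cl12 w14r111 _ _ _ (by decide +kernel)
theorem w14r112 : wins P2 Qn 12 525 600 2096552 16 3257124884 = true := by decide +kernel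
theorem w14s112 : Cov 14 3257125484 3290670316 :=
  cov_of pb2 qb cl2 cl12 w14r112 _ _ _ (by decide +kernel)
theorem w14r113 : wins P2 Qn 12 522 600 2096552 16 3290669716 = true := by decide +kernel
theorem w14s113 : Cov 14 3290670316 3324215148 :=
  cov_of pb2 qb cl2 cl12 w14r113 _ _ _ (by decide +kernel)
theorem w14r114 : wins P2 Qn 12 529 600 2096552 16 3324214548 = true := by decide +kernel
theorem w14s114 : Cov 14 3324215148 3357759980 :=
  cov_of pb2 qb cl2 cl12 w14r114 _ _ _ (by decide +kernel)
theorem w14r115 : wins P2 Qn 12 480 600 2096552 16 3357759380 = true := by decide +kernel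
theorem w14s115 : Cov 14 3357759980 3391304812 :=
  cov_of pb2 qb cl2 cl12 w14r115 _ _ _ (by decide +kernel)
theorem w14r116 : wins P2 Qn 12 573 600 2096552 16 3391304212 = true := by decide +kernel
theorem w14s116 : Cov 14 3391304812 3424849644 :=
  cov_of pb2 qb cl2 cl12 w14r116 _ _ _ (by decide +kernel)
theorem w14r117 : wins P2 Qn 12 538 600 2096552 16 3424849044 = true := by decide +kernel
theorem w14s117 : Cov 14 3424849644 3458394476 :=
  cov_of pb2 qb cl2 cl12 w14r117 _ _ _ (by decide +kernel)
theorem w14r118 : wins P2 Qn 12 568 600 2096552 16 3458393876 = true := by decide +kernel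
theorem w14s118 : Cov 14 3458394476 3491939308 :=
  cov_of pb2 qb cl2 cl12 w14r118 _ _ _ (by decide +kernel)
theorem w14r119 : wins P2 Qn 12 489 600 2096552 16 3491938708 = true := by decide +kernel
theorem w14s119 : Cov 14 3491939308 3525484140 :=
  cov_of pb2 qb cl2 cl12 w14r119 _ _ _ (by decide +kernel)
theorem w14r120 : wins P2 Qn 12 701 600 2096552 16 3525483540 = true := by decide +kernel
theorem w14s120 : Cov 14 3525484140 3559028972 :=
  cov_of pb2 qb cl2 cl12 w14r120 _ _ _ (by decide +kernel)
theorem w14r121 : wins P2 Qn 12 653 600 2096552 16 3559028372 = true := by decide +kernel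
theorem w14s121 : Cov 14 3559028972 3592573804 :=
  cov_of pb2 qb cl2 cl12 w14r121 _ _ _ (by decide +kernel)
theorem w14r122 : wins P2 Qn 12 530 600 2096552 16 3592573204 = true := by decide +kernel
theorem w14s122 : Cov 14 3592573804 3626118636 :=
  cov_of pb2 qb cl2 cl12 w14r122 _ _ _ (by decide +kernel)
theorem w14r123 : wins P2 Qn 12 569 600 2096552 16 3626118036 = true := by decide +kernel
theorem w14s123 : Cov 14 3626118636 3659663468 :=
  cov_of pb2 qb cl2 cl12 w14r123 _ _ _ (by decide +kernel)
theorem w14r124 : wins P2 Qn 12 521 600 2096552 16 3659662868 = true := by decide +kernel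
theorem w14s124 : Cov 14 3659663468 3693208300 :=
  cov_of pb2 qb cl2 cl12 w14r124 _ _ _ (by decide +kernel)
theorem w14r125 : wins P2 Qn 12 629 600 2096552 16 3693207700 = true := by decide +kernel
theorem w14s125 : Cov 14 3693208300 3726753132 :=
  cov_of pb2 qb cl2 cl12 w14r125 _ _ _ (by decide +kernel)
theorem w14r126 : wins P2 Qn 12 622 600 2096552 16 3726752532 = true := by decide +kernel
theorem w14s126 : Cov 14 3726753132 3760297964 :=
  cov_of pb2 qb cl2 cl12 w14r126 _ _ _ (by decide +kernel)
theorem w14r127 : wins P2 Qn 12 669 600 2096552 16 3760297364 = true := by decide +kernel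
theorem w14s127 : Cov 14 3760297964 3793842796 :=
  cov_of pb2 qb cl2 cl12 w14r127 _ _ _ (by decide +kernel)
theorem w14r128 : wins P2 Qn 12 536 600 2096552 16 3793842196 = true := by decide +kernel
theorem w14s128 : Cov 14 3793842796 3827387628 :=
  cov_of pb2 qb cl2 cl12 w14r128 _ _ _ (by decide +kernel)
theorem w14r129 : wins P2 Qn 12 568 600 2096552 16 3827387028 = true := by decide +kernel
theorem w14s129 : Cov 14 3827387628 3860932460 :=
  cov_of pb2 qb cl2 cl12 w14r129 _ _ _ (by decide +kernel)
theorem w14r130 : wins P2 Qn 12 514 600 2096552 16 3860931860 = true := by decide +kernel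
theorem w14s130 : Cov 14 3860932460 3894477292 :=
  cov_of pb2 qb cl2 cl12 w14r130 _ _ _ (by decide +kernel)
theorem w14r131 : wins P2 Qn 12 588 600 2096552 16 3894476692 = true := by decide +kernel
theorem w14s131 : Cov 14 3894477292 3928022124 :=
  cov_of pb2 qb cl2 cl12 w14r131 _ _ _ (by decide +kernel)
theorem w14r132 : wins P2 Qn 12 652 600 2096552 16 3928021524 = true := by decide +kernel
theorem w14s132 : Cov 14 3928022124 3961566956 :=
  cov_of pb2 qb cl2 cl12 w14r132 _ _ _ (by decide +kernel)
theorem w14r133 : wins P2 Qn 12 562 600 2096552 16 3961566356 = true := by decide +kernel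
theorem w14s133 : Cov 14 3961566956 3995111788 :=
  cov_of pb2 qb cl2 cl12 w14r133 _ _ _ (by decide +kernel)
theorem w14r134 : wins P2 Qn 12 612 600 2096552 16 3995111188 = true := by decide +kernel
theorem w14s134 : Cov 14 3995111788 4028656620 :=
  cov_of pb2 qb cl2 cl12 w14r134 _ _ _ (by decide +kernel)
theorem w14r135 : wins P2 Qn 12 555 600 2096552 16 4028656020 = true := by decide +kernel
theorem w14s135 : Cov 14 4028656620 4062201452 :=
  cov_of pb2 qb cl2 cl12 w14r135 _ _ _ (by decide +kernel)
theorem w14r136 : wins P2 Qn 12 531 600 2096552 16 4062200852 = true := by decide +kernel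
theorem w14s136 : Cov 14 4062201452 4095746284 :=
  cov_of pb2 qb cl2 cl12 w14r136 _ _ _ (by decide +kernel)
theorem w14r137 : wins P2 Qn 12 567 600 2096552 16 4095745684 = true := by decide +kernel
theorem w14s137 : Cov 14 4095746284 4129291116 :=
  cov_of pb2 qb cl2 cl12 w14r137 _ _ _ (by decide +kernel)
theorem w14r138 : wins P2 Qn 12 598 600 2096552 16 4129290516 = true := by decide +kernel
theorem w14s138 : Cov 14 4129291116 4162835948 :=
  cov_of pb2 qb cl2 cl12 w14r138 _ _ _ (by decide +kernel)

theorem cov14a : Cov 14 160 4162835948 :=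
  (((((((w14s0.app w14s1).app (w14s2.app w14s3)).app ((w14s4.app w14s5).app (w14s6.app w14s7))).app (((w14s8.app w14s9).app (w14s10.app w14s11)).app ((w14s12.app w14s13).app (w14s14.app (w14s15.app w14s16))))).app ((((w14s17.app w14s18).app (w14s19.app w14s20)).app ((w14s21.app w14s22).app (w14s23.app w14s24))).app (((w14s25.app w14s26).app (w14s27.app w14s28)).app ((w14s29.app w14s30).app (w14s31.app (w14s32.app w14s33)))))).app (((((w14s34.app w14s35).app (w14s36.app w14s37)).app ((w14s38.app w14s39).app (w14s40.app w14s41))).app (((w14s42.app w14s43).app (w14s44.app w14s45)).app ((w14s46.app w14s47).app (w14s48.app (w14s49.app w14s50))))).app ((((w14s51.app w14s52).app (w14s53.app w14s54)).app ((w14s55.app w14s56).app (w14s57.app (w14s58.app w14s59)))).app (((w14s60.app w14s61).app (w14s62.app w14s63)).app ((w14s64.app w14s65).app (w14s66.app (w14s67.app w14s68))))))).app ((((((w14s69.app w14s70).app (w14s71.app w14s72)).app ((w14s73.app w14s74).app (w14s75.app w14s76))).app (((w14s77.app w14s78).app (w14s79.app w14s80)).app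 ((w14s81.app w14s82).app (w14s83.app (w14s84.app w14s85))))).app ((((w14s86.app w14s87).app (w14s88.app w14s89)).app ((w14s90.app w14s91).app (w14s92.app (w14s93.app w14s94)))).app (((w14s95.app w14s96).app (w14s97.app w14s98)).app ((w14s99.app w14s100).app (w14s101.app (w14s102.app w14s103)))))).app (((((w14s104.app w14s105).app (w14s106.app w14s107)).app ((w14s108.app w14s109).app (w14s110.app w14s111))).app (((w14s112.app w14s113).app (w14s114.app w14s115)).app ((w14s116.app w14s117).app (w14s118.app (w14s119.app w14s120))))).app ((((w14s121.app w14s122).app (w14s123.app w14s124)).app ((w14s125.app w14s126).app (w14s127.app (w14s128.app w14s129)))).app (((w14s130.app w14s131).app (w14s132.app w14s133)).app ((w14s134.app w14s135).app (w14s136.app (w14s137.app w14s138))))))))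

end Cfsg.Agent.Depth.F
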