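import Cfsg.Agent.Depth.F.P2
import Cfsg.Agent.Depth.F.Q

/-! The numbers `30 M + 14` as sums `(p + 1) + (q + 1)`, part 2. -/

set_option autoImplicit false
set_option Elab.async false

namespace Cfsg.Agent.Depth.F

theorem w14r139 : wins P2 Qn 12 560 600 2096552 16 4162835348 = true := by decide +kernel
theorem w14s139 : Cov 14 4162835948 4196380780 :=
  cov_of pb2 qb cl2 cl12 w14r139 _ _ _ (by decide +kernel)
theorem w14r140 : wins P2 Qn 12 636 600 2096552 16 4196380180 = true := by decide +kernel
theorem w14s140 : Cov 14 4196380780 4229925612 :=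
  cov_of pb2 qb cl2 cl12 w14r140 _ _ _ (by decide +kernel)
theorem w14r141 : wins P2 Qn 12 659 600 2096552 16 4229925012 = true := by decide +kernel
theorem w14s141 : Cov 14 4229925612 4263470444 :=
  cov_of pb2 qb cl2 cl12 w14r141 _ _ _ (by decide +kernel)
theorem w14r142 : wins P2 Qn 12 523 600 2096552 16 4263469844 = true := by decide +kernel
theorem w14s142 : Cov 14 4263470444 4297015276 :=
  cov_of pb2 qb cl2 cl12 w14r142 _ _ _ (by decide +kernel)
theorem w14r143 : wins P2 Qn 12 566 600 2096552 16 4297014676 = true := by decide +kernel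
theorem w14s143 : Cov 14 4297015276 4330560108 :=
  cov_of pb2 qb cl2 cl12 w14r143 _ _ _ (by decide +kernel)
theorem w14r144 : wins P2 Qn 12 606 600 2096552 16 4330559508 = true := by decide +kernel
theorem w14s144 : Cov 14 4330560108 4364104940 :=
  cov_of pb2 qb cl2 cl12 w14r144 _ _ _ (by decide +kernel)
theorem w14r145 : wins P2 Qn 12 559 600 2096552 16 4364104340 = true := by decide +kernel
theorem w14s145 : Cov 14 4364104940 4397649772 :=
  cov_of pb2 qb cl2 cl12 w14r145 _ _ _ (by decide +kernel)
theorem w14r146 : wins P2 Qn 12 655 600 2096552 16 4397649172 = true := by decide +kernel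
theorem w14s146 : Cov 14 4397649772 4431194604 :=
  cov_of pb2 qb cl2 cl12 w14r146 _ _ _ (by decide +kernel)
theorem w14r147 : wins P2 Qn 12 570 600 2096552 16 4431194004 = true := by decide +kernel
theorem w14s147 : Cov 14 4431194604 4464739436 :=
  cov_of pb2 qb cl2 cl12 w14r147 _ _ _ (by decide +kernel)
theorem w14r148 : wins P2 Qn 12 543 600 2096552 16 4464738836 = true := by decide +kernel
theorem w14s148 : Cov 14 4464739436 4498284268 :=
  cov_of pb2 qb cl2 cl12 w14r148 _ _ _ (by decide +kernel)
theorem w14r149 : wins P2 Qn 12 582 600 2096552 16 4498283668 = true := by decide +kernel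
theorem w14s149 : Cov 14 4498284268 4531829100 :=
  cov_of pb2 qb cl2 cl12 w14r149 _ _ _ (by decide +kernel)
theorem w14r150 : wins P2 Qn 12 498 600 2096552 16 4531828500 = true := by decide +kernel
theorem w14s150 : Cov 14 4531829100 4565373932 :=
  cov_of pb2 qb cl2 cl12 w14r150 _ _ _ (by decide +kernel)
theorem w14r151 : wins P2 Qn 12 591 600 2096552 16 4565373332 = true := by decide +kernel
theorem w14s151 : Cov 14 4565373932 4598918764 :=
  cov_of pb2 qb cl2 cl12 w14r151 _ _ _ (by decide +kernel)
theorem w14r152 : wins P2 Qn 12 613 600 2096552 16 4598918164 = true := by decide +kernel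
theorem w14s152 : Cov 14 4598918764 4632463596 :=
  cov_of pb2 qb cl2 cl12 w14r152 _ _ _ (by decide +kernel)
theorem w14r153 : wins P2 Qn 12 551 600 2096552 16 4632462996 = true := by decide +kernel
theorem w14s153 : Cov 14 4632463596 4666008428 :=
  cov_of pb2 qb cl2 cl12 w14r153 _ _ _ (by decide +kernel)
theorem w14r154 : wins P2 Qn 12 574 600 2096552 16 4666007828 = true := by decide +kernel
theorem w14s154 : Cov 14 4666008428 4699553260 :=
  cov_of pb2 qb cl2 cl12 w14r154 _ _ _ (by decide +kernel)
theorem w14r155 : wins P2 Qn 12 503 600 2096552 16 4699552660 = true := by decide +kernel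
theorem w14s155 : Cov 14 4699553260 4733098092 :=
  cov_of pb2 qb cl2 cl12 w14r155 _ _ _ (by decide +kernel)
theorem w14r156 : wins P2 Qn 12 575 600 2096552 16 4733097492 = true := by decide +kernel
theorem w14s156 : Cov 14 4733098092 4766642924 :=
  cov_of pb2 qb cl2 cl12 w14r156 _ _ _ (by decide +kernel)
theorem w14r157 : wins P2 Qn 12 592 600 2096552 16 4766642324 = true := by decide +kernel
theorem w14s157 : Cov 14 4766642924 4800187756 :=
  cov_of pb2 qb cl2 cl12 w14r157 _ _ _ (by decide +kernel)
theorem w14r158 : wins P2 Qn 12 571 600 2096552 16 4800187156 = true := by decide +kernel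
theorem w14s158 : Cov 14 4800187756 4833732588 :=
  cov_of pb2 qb cl2 cl12 w14r158 _ _ _ (by decide +kernel)
theorem w14r159 : wins P2 Qn 12 552 600 2096552 16 4833731988 = true := by decide +kernel
theorem w14s159 : Cov 14 4833732588 4867277420 :=
  cov_of pb2 qb cl2 cl12 w14r159 _ _ _ (by decide +kernel)
theorem w14r160 : wins P2 Qn 12 587 600 2096552 16 4867276820 = true := by decide +kernel
theorem w14s160 : Cov 14 4867277420 4900822252 :=
  cov_of pb2 qb cl2 cl12 w14r160 _ _ _ (by decide +kernel)
theorem w14r161 : wins P2 Qn 12 576 600 2096552 16 4900821652 = true := by decide +kernel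
theorem w14s161 : Cov 14 4900822252 4934367084 :=
  cov_of pb2 qb cl2 cl12 w14r161 _ _ _ (by decide +kernel)
theorem w14r162 : wins P2 Qn 12 646 600 2096552 16 4934366484 = true := by decide +kernel
theorem w14s162 : Cov 14 4934367084 4967911916 :=
  cov_of pb2 qb cl2 cl12 w14r162 _ _ _ (by decide +kernel)
theorem w14r163 : wins P2 Qn 12 563 600 2096552 16 4967911316 = true := by decide +kernel
theorem w14s163 : Cov 14 4967911916 5001456748 :=
  cov_of pb2 qb cl2 cl12 w14r163 _ _ _ (by decide +kernel)
theorem w14r164 : wins P2 Qn 12 564 600 2096552 16 5001456148 = true := by decide +kernel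
theorem w14s164 : Cov 14 5001456748 5035001580 :=
  cov_of pb2 qb cl2 cl12 w14r164 _ _ _ (by decide +kernel)
theorem w14r165 : wins P2 Qn 12 667 600 2096552 16 5035000980 = true := by decide +kernel
theorem w14s165 : Cov 14 5035001580 5068546412 :=
  cov_of pb2 qb cl2 cl12 w14r165 _ _ _ (by decide +kernel)
theorem w14r166 : wins P2 Qn 12 670 600 2096552 16 5068545812 = true := by decide +kernel
theorem w14s166 : Cov 14 5068546412 5102091244 :=
  cov_of pb2 qb cl2 cl12 w14r166 _ _ _ (by decide +kernel)
theorem w14r167 : wins P2 Qn 12 644 600 2096552 16 5102090644 = true := by decide +kernel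
theorem w14s167 : Cov 14 5102091244 5135636076 :=
  cov_of pb2 qb cl2 cl12 w14r167 _ _ _ (by decide +kernel)
theorem w14r168 : wins P2 Qn 12 575 600 2096552 16 5135635476 = true := by decide +kernel
theorem w14s168 : Cov 14 5135636076 5169180908 :=
  cov_of pb2 qb cl2 cl12 w14r168 _ _ _ (by decide +kernel)
theorem w14r169 : wins P2 Qn 12 519 600 2096552 16 5169180308 = true := by decide +kernel
theorem w14s169 : Cov 14 5169180908 5202725740 :=
  cov_of pb2 qb cl2 cl12 w14r169 _ _ _ (by decide +kernel)
theorem w14r170 : wins P2 Qn 12 547 600 2096552 16 5202725140 = true := by decide +kernel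
theorem w14s170 : Cov 14 5202725740 5236270572 :=
  cov_of pb2 qb cl2 cl12 w14r170 _ _ _ (by decide +kernel)
theorem w14r171 : wins P2 Qn 12 559 600 2096552 16 5236269972 = true := by decide +kernel
theorem w14s171 : Cov 14 5236270572 5269815404 :=
  cov_of pb2 qb cl2 cl12 w14r171 _ _ _ (by decide +kernel)
theorem w14r172 : wins P2 Qn 12 569 600 2096552 16 5269814804 = true := by decide +kernel
theorem w14s172 : Cov 14 5269815404 5303360236 :=
  cov_of pb2 qb cl2 cl12 w14r172 _ _ _ (by decide +kernel)
theorem w14r173 : wins P2 Qn 12 526 600 2096552 16 5303359636 = true := by decide +kernel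
theorem w14s173 : Cov 14 5303360236 5336905068 :=
  cov_of pb2 qb cl2 cl12 w14r173 _ _ _ (by decide +kernel)
theorem w14r174 : wins P2 Qn 12 545 600 2096552 16 5336904468 = true := by decide +kernel
theorem w14s174 : Cov 14 5336905068 5370449900 :=
  cov_of pb2 qb cl2 cl12 w14r174 _ _ _ (by decide +kernel)
theorem w14r175 : wins P2 Qn 12 544 600 2096552 16 5370449300 = true := by decide +kernel
theorem w14s175 : Cov 14 5370449900 5403994732 :=
  cov_of pb2 qb cl2 cl12 w14r175 _ _ _ (by decide +kernel)
theorem w14r176 : wins P2 Qn 12 546 600 2096552 16 5403994132 = true := by decide +kernel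
theorem w14s176 : Cov 14 5403994732 5437539564 :=
  cov_of pb2 qb cl2 cl12 w14r176 _ _ _ (by decide +kernel)
theorem w14r177 : wins P2 Qn 12 604 600 2096552 16 5437538964 = true := by decide +kernel
theorem w14s177 : Cov 14 5437539564 5471084396 :=
  cov_of pb2 qb cl2 cl12 w14r177 _ _ _ (by decide +kernel)
theorem w14r178 : wins P2 Qn 12 555 600 2096552 16 5471083796 = true := by decide +kernel
theorem w14s178 : Cov 14 5471084396 5504629228 :=
  cov_of pb2 qb cl2 cl12 w14r178 _ _ _ (by decide +kernel)
theorem w14r179 : wins P2 Qn 12 559 600 2096552 16 5504628628 = true := by decide +kernel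
theorem w14s179 : Cov 14 5504629228 5538174060 :=
  cov_of pb2 qb cl2 cl12 w14r179 _ _ _ (by decide +kernel)
theorem w14r180 : wins P2 Qn 12 553 600 2096552 16 5538173460 = true := by decide +kernel
theorem w14s180 : Cov 14 5538174060 5571718892 :=
  cov_of pb2 qb cl2 cl12 w14r180 _ _ _ (by decide +kernel)
theorem w14r181 : wins P2 Qn 12 566 600 2096552 16 5571718292 = true := by decide +kernel
theorem w14s181 : Cov 14 5571718892 5605263724 :=
  cov_of pb2 qb cl2 cl12 w14r181 _ _ _ (by decide +kernel)
theorem w14r182 : wins P2 Qn 12 631 600 2096552 16 5605263124 = true := by decide +kernel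
theorem w14s182 : Cov 14 5605263724 5638808556 :=
  cov_of pb2 qb cl2 cl12 w14r182 _ _ _ (by decide +kernel)
theorem w14r183 : wins P2 Qn 12 633 600 2096552 16 5638807956 = true := by decide +kernel
theorem w14s183 : Cov 14 5638808556 5672353388 :=
  cov_of pb2 qb cl2 cl12 w14r183 _ _ _ (by decide +kernel)
theorem w14r184 : wins P2 Qn 12 529 600 2096552 16 5672352788 = true := by decide +kernel
theorem w14s184 : Cov 14 5672353388 5705898220 :=
  cov_of pb2 qb cl2 cl12 w14r184 _ _ _ (by decide +kernel)
theorem w14r185 : wins P2 Qn 12 550 600 2096552 16 5705897620 = true := by decide +kernel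
theorem w14s185 : Cov 14 5705898220 5739443052 :=
  cov_of pb2 qb cl2 cl12 w14r185 _ _ _ (by decide +kernel)
theorem w14r186 : wins P2 Qn 12 613 600 2096552 16 5739442452 = true := by decide +kernel
theorem w14s186 : Cov 14 5739443052 5772987884 :=
  cov_of pb2 qb cl2 cl12 w14r186 _ _ _ (by decide +kernel)
theorem w14r187 : wins P2 Qn 12 647 600 2096552 16 5772987284 = true := by decide +kernel
theorem w14s187 : Cov 14 5772987884 5806532716 :=
  cov_of pb2 qb cl2 cl12 w14r187 _ _ _ (by decide +kernel)
theorem w14r188 : wins P2 Qn 12 620 600 2096552 16 5806532116 = true := by decide +kernel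
theorem w14s188 : Cov 14 5806532716 5840077548 :=
  cov_of pb2 qb cl2 cl12 w14r188 _ _ _ (by decide +kernel)
theorem w14r189 : wins P2 Qn 12 530 600 2096552 16 5840076948 = true := by decide +kernel
theorem w14s189 : Cov 14 5840077548 5873622380 :=
  cov_of pb2 qb cl2 cl12 w14r189 _ _ _ (by decide +kernel)
theorem w14r190 : wins P2 Qn 12 606 600 2096552 16 5873621780 = true := by decide +kernel
theorem w14s190 : Cov 14 5873622380 5907167212 :=
  cov_of pb2 qb cl2 cl12 w14r190 _ _ _ (by decide +kernel)
theorem w14r191 : wins P2 Qn 12 625 600 2096552 16 5907166612 = true := by decide +kernel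
theorem w14s191 : Cov 14 5907167212 5940712044 :=
  cov_of pb2 qb cl2 cl12 w14r191 _ _ _ (by decide +kernel)
theorem w14r192 : wins P2 Qn 12 596 600 2096552 16 5940711444 = true := by decide +kernel
theorem w14s192 : Cov 14 5940712044 5974256876 :=
  cov_of pb2 qb cl2 cl12 w14r192 _ _ _ (by decide +kernel)
theorem w14r193 : wins P2 Qn 12 602 600 2096552 16 5974256276 = true := by decide +kernel
theorem w14s193 : Cov 14 5974256876 6007801708 :=
  cov_of pb2 qb cl2 cl12 w14r193 _ _ _ (by decide +kernel)
theorem w14r194 : wins P2 Qn 12 641 600 2096552 16 6007801108 = true := by decide +kernel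
theorem w14s194 : Cov 14 6007801708 6041346540 :=
  cov_of pb2 qb cl2 cl12 w14r194 _ _ _ (by decide +kernel)
theorem w14r195 : wins P2 Qn 12 651 600 2096552 16 6041345940 = true := by decide +kernel
theorem w14s195 : Cov 14 6041346540 6074891372 :=
  cov_of pb2 qb cl2 cl12 w14r195 _ _ _ (by decide +kernel)
theorem w14r196 : wins P2 Qn 12 616 600 2096552 16 6074890772 = true := by decide +kernel
theorem w14s196 : Cov 14 6074891372 6108436204 :=
  cov_of pb2 qb cl2 cl12 w14r196 _ _ _ (by decide +kernel)
theorem w14r197 : wins P2 Qn 12 588 600 2096552 16 6108435604 = true := by decide +kernel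
theorem w14s197 : Cov 14 6108436204 6141981036 :=
  cov_of pb2 qb cl2 cl12 w14r197 _ _ _ (by decide +kernel)
theorem w14r198 : wins P2 Qn 12 584 600 2096552 16 6141980436 = true := by decide +kernel
theorem w14s198 : Cov 14 6141981036 6175525868 :=
  cov_of pb2 qb cl2 cl12 w14r198 _ _ _ (by decide +kernel)
theorem w14r199 : wins P2 Qn 12 502 600 2096552 16 6175525268 = true := by decide +kernel
theorem w14s199 : Cov 14 6175525868 6209070700 :=
  cov_of pb2 qb cl2 cl12 w14r199 _ _ _ (by decide +kernel)
theorem w14r200 : wins P2 Qn 12 569 600 2096552 16 6209070100 = true := by decide +kernel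
theorem w14s200 : Cov 14 6209070700 6242615532 :=
  cov_of pb2 qb cl2 cl12 w14r200 _ _ _ (by decide +kernel)
theorem w14r201 : wins P2 Qn 12 697 600 2096552 16 6242614932 = true := by decide +kernel
theorem w14s201 : Cov 14 6242615532 6276160364 :=
  cov_of pb2 qb cl2 cl12 w14r201 _ _ _ (by decide +kernel)
theorem w14r202 : wins P2 Qn 12 576 600 2096552 16 6276159764 = true := by decide +kernel
theorem w14s202 : Cov 14 6276160364 6309705196 :=
  cov_of pb2 qb cl2 cl12 w14r202 _ _ _ (by decide +kernel)
theorem w14r203 : wins P2 Qn 12 576 600 2096552 16 6309704596 = true := by decide +kernel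
theorem w14s203 : Cov 14 6309705196 6343250028 :=
  cov_of pb2 qb cl2 cl12 w14r203 _ _ _ (by decide +kernel)
theorem w14r204 : wins P2 Qn 12 536 600 2096552 16 6343249428 = true := by decide +kernel
theorem w14s204 : Cov 14 6343250028 6376794860 :=
  cov_of pb2 qb cl2 cl12 w14r204 _ _ _ (by decide +kernel)
theorem w14r205 : wins P2 Qn 12 570 600 2096552 16 6376794260 = true := by decide +kernel
theorem w14s205 : Cov 14 6376794860 6410339692 :=
  cov_of pb2 qb cl2 cl12 w14r205 _ _ _ (by decide +kernel)
theorem w14r206 : wins P2 Qn 12 624 600 2096552 16 6410339092 = true := by decide +kernel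
theorem w14s206 : Cov 14 6410339692 6443884524 :=
  cov_of pb2 qb cl2 cl12 w14r206 _ _ _ (by decide +kernel)
theorem w14r207 : wins P2 Qn 12 521 600 2096552 16 6443883924 = true := by decide +kernel
theorem w14s207 : Cov 14 6443884524 6477429356 :=
  cov_of pb2 qb cl2 cl12 w14r207 _ _ _ (by decide +kernel)
theorem w14r208 : wins P2 Qn 12 566 600 2096552 16 6477428756 = true := by decide +kernel
theorem w14s208 : Cov 14 6477429356 6510974188 :=
  cov_of pb2 qb cl2 cl12 w14r208 _ _ _ (by decide +kernel)
theorem w14r209 : wins P2 Qn 12 543 600 2096552 16 6510973588 = true := by decide +kernel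
theorem w14s209 : Cov 14 6510974188 6544519020 :=
  cov_of pb2 qb cl2 cl12 w14r209 _ _ _ (by decide +kernel)
theorem w14r210 : wins P2 Qn 12 619 600 2096552 16 6544518420 = true := by decide +kernel
theorem w14s210 : Cov 14 6544519020 6578063852 :=
  cov_of pb2 qb cl2 cl12 w14r210 _ _ _ (by decide +kernel)
theorem w14r211 : wins P2 Qn 12 610 600 2096552 16 6578063252 = true := by decide +kernel
theorem w14s211 : Cov 14 6578063852 6611608684 :=
  cov_of pb2 qb cl2 cl12 w14r211 _ _ _ (by decide +kernel)
theorem w14r212 : wins P2 Qn 12 586 600 2096552 16 6611608084 = true := by decide +kernel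
theorem w14s212 : Cov 14 6611608684 6645153516 :=
  cov_of pb2 qb cl2 cl12 w14r212 _ _ _ (by decide +kernel)
theorem w14r213 : wins P2 Qn 12 565 600 2096552 16 6645152916 = true := by decide +kernel
theorem w14s213 : Cov 14 6645153516 6678698348 :=
  cov_of pb2 qb cl2 cl12 w14r213 _ _ _ (by decide +kernel)
theorem w14r214 : wins P2 Qn 12 590 600 2096552 16 6678697748 = true := by decide +kernel
theorem w14s214 : Cov 14 6678698348 6712243180 :=
  cov_of pb2 qb cl2 cl12 w14r214 _ _ _ (by decide +kernel)
theorem w14r215 : wins P2 Qn 12 587 600 2096552 16 6712242580 = true := by decide +kernel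
theorem w14s215 : Cov 14 6712243180 6745788012 :=
  cov_of pb2 qb cl2 cl12 w14r215 _ _ _ (by decide +kernel)
theorem w14r216 : wins P2 Qn 12 540 600 2096552 16 6745787412 = true := by decide +kernel
theorem w14s216 : Cov 14 6745788012 6779332844 :=
  cov_of pb2 qb cl2 cl12 w14r216 _ _ _ (by decide +kernel)
theorem w14r217 : wins P2 Qn 12 666 600 2096552 16 6779332244 = true := by decide +kernel
theorem w14s217 : Cov 14 6779332844 6812877676 :=
  cov_of pb2 qb cl2 cl12 w14r217 _ _ _ (by decide +kernel)
theorem w14r218 : wins P2 Qn 12 555 600 2096552 16 6812877076 = true := by decide +kernel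
theorem w14s218 : Cov 14 6812877676 6846422508 :=
  cov_of pb2 qb cl2 cl12 w14r218 _ _ _ (by decide +kernel)
theorem w14r219 : wins P2 Qn 12 590 600 2096552 16 6846421908 = true := by decide +kernel
theorem w14s219 : Cov 14 6846422508 6879967340 :=
  cov_of pb2 qb cl2 cl12 w14r219 _ _ _ (by decide +kernel)
theorem w14r220 : wins P2 Qn 12 604 600 2096552 16 6879966740 = true := by decide +kernel
theorem w14s220 : Cov 14 6879967340 6913512172 :=
  cov_of pb2 qb cl2 cl12 w14r220 _ _ _ (by decide +kernel)
theorem w14r221 : wins P2 Qn 12 551 600 2096552 16 6913511572 = true := by decide +kernel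
theorem w14s221 : Cov 14 6913512172 6947057004 :=
  cov_of pb2 qb cl2 cl12 w14r221 _ _ _ (by decide +kernel)
theorem w14r222 : wins P2 Qn 12 589 600 2096552 16 6947056404 = true := by decide +kernel
theorem w14s222 : Cov 14 6947057004 6980601836 :=
  cov_of pb2 qb cl2 cl12 w14r222 _ _ _ (by decide +kernel)
theorem w14r223 : wins P2 Qn 12 560 600 2096552 16 6980601236 = true := by decide +kernel
theorem w14s223 : Cov 14 6980601836 7014146668 :=
  cov_of pb2 qb cl2 cl12 w14r223 _ _ _ (by decide +kernel)
theorem w14r224 : wins P2 Qn 12 611 600 2096552 16 7014146068 = true := by decide +kernel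
theorem w14s224 : Cov 14 7014146668 7047691500 :=
  cov_of pb2 qb cl2 cl12 w14r224 _ _ _ (by decide +kernel)
theorem w14r225 : wins P2 Qn 12 531 600 2096552 16 7047690900 = true := by decide +kernel
theorem w14s225 : Cov 14 7047691500 7081236332 :=
  cov_of pb2 qb cl2 cl12 w14r225 _ _ _ (by decide +kernel)
theorem w14r226 : wins P2 Qn 12 550 600 2096552 16 7081235732 = true := by decide +kernel
theorem w14s226 : Cov 14 7081236332 7114781164 :=
  cov_of pb2 qb cl2 cl12 w14r226 _ _ _ (by decide +kernel)
theorem w14r227 : wins P2 Qn 12 625 600 2096552 16 7114780564 = true := by decide +kernel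
theorem w14s227 : Cov 14 7114781164 7148325996 :=
  cov_of pb2 qb cl2 cl12 w14r227 _ _ _ (by decide +kernel)
theorem w14r228 : wins P2 Qn 12 555 600 2096552 16 7148325396 = true := by decide +kernel
theorem w14s228 : Cov 14 7148325996 7181870828 :=
  cov_of pb2 qb cl2 cl12 w14r228 _ _ _ (by decide +kernel)
theorem w14r229 : wins P2 Qn 12 546 600 2096552 16 7181870228 = true := by decide +kernel
theorem w14s229 : Cov 14 7181870828 7215415660 :=
  cov_of pb2 qb cl2 cl12 w14r229 _ _ _ (by decide +kernel)
theorem w14r230 : wins P2 Qn 12 520 600 2096552 16 7215415060 = true := by decide +kernel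
theorem w14s230 : Cov 14 7215415660 7248960492 :=
  cov_of pb2 qb cl2 cl12 w14r230 _ _ _ (by decide +kernel)
theorem w14r231 : wins P2 Qn 12 614 600 2096552 16 7248959892 = true := by decide +kernel
theorem w14s231 : Cov 14 7248960492 7282505324 :=
  cov_of pb2 qb cl2 cl12 w14r231 _ _ _ (by decide +kernel)
theorem w14r232 : wins P2 Qn 12 606 600 2096552 16 7282504724 = true := by decide +kernel
theorem w14s232 : Cov 14 7282505324 7316050156 :=
  cov_of pb2 qb cl2 cl12 w14r232 _ _ _ (by decide +kernel)
theorem w14r233 : wins P2 Qn 12 586 600 2096552 16 7316049556 = true := by decide +kernel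
theorem w14s233 : Cov 14 7316050156 7349594988 :=
  cov_of pb2 qb cl2 cl12 w14r233 _ _ _ (by decide +kernel)
theorem w14r234 : wins P2 Qn 12 641 600 2096552 16 7349594388 = true := by decide +kernel
theorem w14s234 : Cov 14 7349594988 7383139820 :=
  cov_of pb2 qb cl2 cl12 w14r234 _ _ _ (by decide +kernel)
theorem w14r235 : wins P2 Qn 12 566 600 2096552 16 7383139220 = true := by decide +kernel
theorem w14s235 : Cov 14 7383139820 7416684652 :=
  cov_of pb2 qb cl2 cl12 w14r235 _ _ _ (by decide +kernel)
theorem w14r236 : wins P2 Qn 12 596 600 2096552 16 7416684052 = true := by decide +kernel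
theorem w14s236 : Cov 14 7416684652 7450229484 :=
  cov_of pb2 qb cl2 cl12 w14r236 _ _ _ (by decide +kernel)
theorem w14r237 : wins P2 Qn 12 569 600 2096552 16 7450228884 = true := by decide +kernel
theorem w14s237 : Cov 14 7450229484 7483774316 :=
  cov_of pb2 qb cl2 cl12 w14r237 _ _ _ (by decide +kernel)
theorem w14r238 : wins P2 Qn 12 587 600 2096552 16 7483773716 = true := by decide +kernel
theorem w14s238 : Cov 14 7483774316 7517319148 :=
  cov_of pb2 qb cl2 cl12 w14r238 _ _ _ (by decide +kernel)
theorem w14r239 : wins P2 Qn 12 633 600 2096552 16 7517318548 = true := by decide +kernel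
theorem w14s239 : Cov 14 7517319148 7550863980 :=
  cov_of pb2 qb cl2 cl12 w14r239 _ _ _ (by decide +kernel)
theorem w14r240 : wins P2 Qn 12 591 600 2096552 16 7550863380 = true := by decide +kernel
theorem w14s240 : Cov 14 7550863980 7584408812 :=
  cov_of pb2 qb cl2 cl12 w14r240 _ _ _ (by decide +kernel)
theorem w14r241 : wins P2 Qn 12 606 600 2096552 16 7584408212 = true := by decide +kernel
theorem w14s241 : Cov 14 7584408812 7617953644 :=
  cov_of pb2 qb cl2 cl12 w14r241 _ _ _ (by decide +kernel)
theorem w14r242 : wins P2 Qn 12 531 600 2096552 16 7617953044 = true := by decide +kernel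
theorem w14s242 : Cov 14 7617953644 7651498476 :=
  cov_of pb2 qb cl2 cl12 w14r242 _ _ _ (by decide +kernel)
theorem w14r243 : wins P2 Qn 12 572 600 2096552 16 7651497876 = true := by decide +kernel
theorem w14s243 : Cov 14 7651498476 7685043308 :=
  cov_of pb2 qb cl2 cl12 w14r243 _ _ _ (by decide +kernel)
theorem w14r244 : wins P2 Qn 12 614 600 2096552 16 7685042708 = true := by decide +kernel
theorem w14s244 : Cov 14 7685043308 7718588140 :=
  cov_of pb2 qb cl2 cl12 w14r244 _ _ _ (by decide +kernel)
theorem w14r245 : wins P2 Qn 12 642 600 2096552 16 7718587540 = true := by decide +kernel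
theorem w14s245 : Cov 14 7718588140 7752132972 :=
  cov_of pb2 qb cl2 cl12 w14r245 _ _ _ (by decide +kernel)
theorem w14r246 : wins P2 Qn 12 567 600 2096552 16 7752132372 = true := by decide +kernel
theorem w14s246 : Cov 14 7752132972 7785677804 :=
  cov_of pb2 qb cl2 cl12 w14r246 _ _ _ (by decide +kernel)
theorem w14r247 : wins P2 Qn 12 630 600 2096552 16 7785677204 = true := by decide +kernel
theorem w14s247 : Cov 14 7785677804 7819222636 :=
  cov_of pb2 qb cl2 cl12 w14r247 _ _ _ (by decide +kernel)
theorem w14r248 : wins P2 Qn 12 594 600 2096552 16 7819222036 = true := by decide +kernel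
theorem w14s248 : Cov 14 7819222636 7852767468 :=
  cov_of pb2 qb cl2 cl12 w14r248 _ _ _ (by decide +kernel)
theorem w14r249 : wins P2 Qn 12 580 600 2096552 16 7852766868 = true := by decide +kernel
theorem w14s249 : Cov 14 7852767468 7886312300 :=
  cov_of pb2 qb cl2 cl12 w14r249 _ _ _ (by decide +kernel)
theorem w14r250 : wins P2 Qn 12 620 600 2096552 16 7886311700 = true := by decide +kernel
theorem w14s250 : Cov 14 7886312300 7919857132 :=
  cov_of pb2 qb cl2 cl12 w14r250 _ _ _ (by decide +kernel)
theorem w14r251 : wins P2 Qn 12 488 600 2096552 16 7919856532 = true := by decide +kernel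
theorem w14s251 : Cov 14 7919857132 7953401964 :=
  cov_of pb2 qb cl2 cl12 w14r251 _ _ _ (by decide +kernel)
theorem w14r252 : wins P2 Qn 12 589 600 2096552 16 7953401364 = true := by decide +kernel
theorem w14s252 : Cov 14 7953401964 7986946796 :=
  cov_of pb2 qb cl2 cl12 w14r252 _ _ _ (by decide +kernel)
theorem w14r253 : wins P2 Qn 12 658 600 2096552 16 7986946196 = true := by decide +kernel
theorem w14s253 : Cov 14 7986946796 8020491628 :=
  cov_of pb2 qb cl2 cl12 w14r253 _ _ _ (by decide +kernel)
theorem w14r254 : wins P2 Qn 12 690 600 2096552 16 8020491028 = true := by decide +kernel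
theorem w14s254 : Cov 14 8020491628 8054036460 :=
  cov_of pb2 qb cl2 cl12 w14r254 _ _ _ (by decide +kernel)
theorem w14r255 : wins P2 Qn 12 575 600 2096552 16 8054035860 = true := by decide +kernel
theorem w14s255 : Cov 14 8054036460 8087581292 :=
  cov_of pb2 qb cl2 cl12 w14r255 _ _ _ (by decide +kernel)
theorem w14r256 : wins P2 Qn 12 510 600 2096552 16 8087580692 = true := by decide +kernel
theorem w14s256 : Cov 14 8087581292 8121126124 :=
  cov_of pb2 qb cl2 cl12 w14r256 _ _ _ (by decide +kernel)
theorem w14r257 : wins P2 Qn 12 575 600 2096552 16 8121125524 = true := by decide +kernel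
theorem w14s257 : Cov 14 8121126124 8154670956 :=
  cov_of pb2 qb cl2 cl12 w14r257 _ _ _ (by decide +kernel)
theorem w14r258 : wins P2 Qn 12 634 600 2096552 16 8154670356 = true := by decide +kernel
theorem w14s258 : Cov 14 8154670956 8188215788 :=
  cov_of pb2 qb cl2 cl12 w14r258 _ _ _ (by decide +kernel)
theorem w14r259 : wins P2 Qn 12 770 600 2096552 16 8188215188 = true := by decide +kernel
theorem w14s259 : Cov 14 8188215788 8221760620 :=
  cov_of pb2 qb cl2 cl12 w14r259 _ _ _ (by decide +kernel)
theorem w14r260 : wins P2 Qn 12 627 600 2096552 16 8221760020 = true := by decide +kernel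
theorem w14s260 : Cov 14 8221760620 8255305452 :=
  cov_of pb2 qb cl2 cl12 w14r260 _ _ _ (by decide +kernel)
theorem w14r261 : wins P2 Qn 12 602 600 2096552 16 8255304852 = true := by decide +kernel
theorem w14s261 : Cov 14 8255305452 8288850284 :=
  cov_of pb2 qb cl2 cl12 w14r261 _ _ _ (by decide +kernel)
theorem w14r262 : wins P2 Qn 12 629 600 2096552 16 8288849684 = true := by decide +kernel
theorem w14s262 : Cov 14 8288850284 8322395116 :=
  cov_of pb2 qb cl2 cl12 w14r262 _ _ _ (by decide +kernel)
theorem w14r263 : wins P2 Qn 12 539 600 2096552 6 8322394516 = true := by decide +kernel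
theorem w14s263 : Cov 14 8322395116 8334974428 :=
  cov_of pb2 qb cl2 cl12 w14r263 _ _ _ (by decide +kernel)

theorem cov14b : Cov 14 4162835948 8334974428 :=
  ((((((w14s139.app (w14s140.app w14s141)).app ((w14s142.app w14s143).app (w14s144.app w14s145))).app (((w14s146.app w14s147).app (w14s148.app w14s149)).app ((w14s150.app w14s151).app (w14s152.app w14s153)))).app ((((w14s154.app w14s155).app (w14s156.app w14s157)).app ((w14s158.app w14s159).app (w14s160.app w14s161))).app (((w14s162.app w14s163).app (w14s164.app w14s165)).app ((w14s166.app w14s167).app (w14s168.app w14s169))))).app ((((w14s170.app (w14s171.app w14s172)).app ((w14s173.app w14s174).app (w14s175.app w14s176))).app (((w14s177.app w14s178).app (w14s179.app w14s180)).app ((w14s181.app w14s182).app (w14s183.app w14s184)))).app ((((w14s185.app w14s186).app (w14s187.app w14s188)).app ((w14s189.app w14s190).app (w14s191.app w14s192))).app (((w14s193.app w14s194).app (w14s195.app w14s196)).app ((w14s197.app w14s198).app (w14s199.app w14s200)))))).app (((((w14s201.app (w14s202.app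 w14s203)).app ((w14s204.app w14s205).app (w14s206.app w14s207))).app (((w14s208.app w14s209).app (w14s210.app w14s211)).app ((w14s212.app w14s213).app (w14s214.app w14s215)))).app ((((w14s216.app w14s217).app (w14s218.app w14s219)).app ((w14s220.app w14s221).app (w14s222.app w14s223))).app (((w14s224.app w14s225).app (w14s226.app w14s227)).app ((w14s228.app w14s229).app (w14s230.app w14s231))))).app (((((w14s232.app w14s233).app (w14s234.app w14s235)).app ((w14s236.app w14s237).app (w14s238.app w14s239))).app (((w14s240.app w14s241).app (w14s242.app w14s243)).app ((w14s244.app w14s245).app (w14s246.app w14s247)))).app ((((w14s248.app w14s249).app (w14s250.app w14s251)).app ((w14s252.app w14s253).app (w14s254.app w14s255))).app (((w14s256.app w14s257).app (w14s258.app w14s259)).app ((w14s260.app w14s261).app (w14s262.app w14s263)))))))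

end Cfsg.Agent.Depth.F
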