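import Cfsg.Agent.Depth.F.P0
import Cfsg.Agent.Depth.F.Q

/-! The numbers `30 M + 20` as sums `(p + 1) + (q + 1)`, part 1. -/

set_option autoImplicit false
set_option Elab.async false

namespace Cfsg.Agent.Depth.F

theorem w20r0 : wins P0 (Nat.factorial 708) 20 25 30 100 1 130 = true := by decide +kernel
theorem w20s0 : Cov 20 160 260 :=
  cov_of pb0 qb0 cl0 cl20 w20r0 _ _ _ (by decide +kernel)
theorem w20r1 : wins P0 (Nat.factorial 708) 20 16 30 200 1 230 = true := by decide +kernel
theorem w20s1 : Cov 20 260 460 :=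
  cov_of pb0 qb0 cl0 cl20 w20r1 _ _ _ (by decide +kernel)
theorem w20r2 : wins P0 (Nat.factorial 708) 20 26 30 400 1 430 = true := by decide +kernel
theorem w20s2 : Cov 20 460 860 :=
  cov_of pb0 qb0 cl0 cl20 w20r2 _ _ _ (by decide +kernel)
theorem w20r3 : wins P0 (Nat.factorial 708) 20 38 30 800 1 830 = true := by decide +kernel
theorem w20s3 : Cov 20 860 1660 :=
  cov_of pb0 qb0 cl0 cl20 w20r3 _ _ _ (by decide +kernel)
theorem w20r4 : wins P0 (Nat.factorial 708) 20 48 30 1600 1 1630 = true := by decide +kernel
theorem w20s4 : Cov 20 1660 3260 :=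
  cov_of pb0 qb0 cl0 cl20 w20r4 _ _ _ (by decide +kernel)
theorem w20r5 : wins P0 (Nat.factorial 708) 20 60 30 3200 1 3230 = true := by decide +kernel
theorem w20s5 : Cov 20 3260 6460 :=
  cov_of pb0 qb0 cl0 cl20 w20r5 _ _ _ (by decide +kernel)
theorem w20r6 : wins P0 (Nat.factorial 708) 20 67 30 6400 1 6430 = true := by decide +kernel
theorem w20s6 : Cov 20 6460 12860 :=
  cov_of pb0 qb0 cl0 cl20 w20r6 _ _ _ (by decide +kernel)
theorem w20r7 : wins P0 (Nat.factorial 708) 20 74 30 12800 1 12830 = true := by decide +kernel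
theorem w20s7 : Cov 20 12860 25660 :=
  cov_of pb0 qb0 cl0 cl20 w20r7 _ _ _ (by decide +kernel)
theorem w20r8 : wins P0 Qn 20 91 30 25600 1 25630 = true := by decide +kernel
theorem w20s8 : Cov 20 25660 51260 :=
  cov_of pb0 qb cl0 cl20 w20r8 _ _ _ (by decide +kernel)
theorem w20r9 : wins P0 Qn 20 136 30 51200 1 51230 = true := by decide +kernel
theorem w20s9 : Cov 20 51260 102460 :=
  cov_of pb0 qb cl0 cl20 w20r9 _ _ _ (by decide +kernel)
theorem w20r10 : wins P0 Qn 20 208 30 102400 1 102430 = true := by decide +kernel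
theorem w20s10 : Cov 20 102460 204860 :=
  cov_of pb0 qb cl0 cl20 w20r10 _ _ _ (by decide +kernel)
theorem w20r11 : wins P0 Qn 20 245 30 204800 1 204830 = true := by decide +kernel
theorem w20s11 : Cov 20 204860 409660 :=
  cov_of pb0 qb cl0 cl20 w20r11 _ _ _ (by decide +kernel)
theorem w20r12 : wins P0 Qn 20 231 30 409600 1 409630 = true := by decide +kernel
theorem w20s12 : Cov 20 409660 819260 :=
  cov_of pb0 qb cl0 cl20 w20r12 _ _ _ (by decide +kernel)
theorem w20r13 : wins P0 Qn 20 258 30 819200 1 819230 = true := by decide +kernel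
theorem w20s13 : Cov 20 819260 1638460 :=
  cov_of pb0 qb cl0 cl20 w20r13 _ _ _ (by decide +kernel)
theorem w20r14 : wins P0 Qn 20 254 30 1638400 1 1638430 = true := by decide +kernel
theorem w20s14 : Cov 20 1638460 3276860 :=
  cov_of pb0 qb cl0 cl20 w20r14 _ _ _ (by decide +kernel)
theorem w20r15 : wins P0 Qn 20 456 600 2096552 16 3276260 = true := by decide +kernel
theorem w20s15 : Cov 20 3276860 36821692 :=
  cov_of pb0 qb cl0 cl20 w20r15 _ _ _ (by decide +kernel)
theorem w20r16 : wins P0 Qn 20 585 600 2096552 16 36821092 = true := by decide +kernel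
theorem w20s16 : Cov 20 36821692 70366524 :=
  cov_of pb0 qb cl0 cl20 w20r16 _ _ _ (by decide +kernel)
theorem w20r17 : wins P0 Qn 20 452 600 2096552 16 70365924 = true := by decide +kernel
theorem w20s17 : Cov 20 70366524 103911356 :=
  cov_of pb0 qb cl0 cl20 w20r17 _ _ _ (by decide +kernel)
theorem w20r18 : wins P0 Qn 20 542 600 2096552 16 103910756 = true := by decide +kernel
theorem w20s18 : Cov 20 103911356 137456188 :=
  cov_of pb0 qb cl0 cl20 w20r18 _ _ _ (by decide +kernel)
theorem w20r19 : wins P0 Qn 20 554 600 2096552 16 137455588 = true := by decide +kernel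
theorem w20s19 : Cov 20 137456188 171001020 :=
  cov_of pb0 qb cl0 cl20 w20r19 _ _ _ (by decide +kernel)
theorem w20r20 : wins P0 Qn 20 603 600 2096552 16 171000420 = true := by decide +kernel
theorem w20s20 : Cov 20 171001020 204545852 :=
  cov_of pb0 qb cl0 cl20 w20r20 _ _ _ (by decide +kernel)
theorem w20r21 : wins P0 Qn 20 460 600 2096552 16 204545252 = true := by decide +kernel
theorem w20s21 : Cov 20 204545852 238090684 :=
  cov_of pb0 qb cl0 cl20 w20r21 _ _ _ (by decide +kernel)
theorem w20r22 : wins P0 Qn 20 513 600 2096552 16 238090084 = true := by decide +kernel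
theorem w20s22 : Cov 20 238090684 271635516 :=
  cov_of pb0 qb cl0 cl20 w20r22 _ _ _ (by decide +kernel)
theorem w20r23 : wins P0 Qn 20 478 600 2096552 16 271634916 = true := by decide +kernel
theorem w20s23 : Cov 20 271635516 305180348 :=
  cov_of pb0 qb cl0 cl20 w20r23 _ _ _ (by decide +kernel)
theorem w20r24 : wins P0 Qn 20 446 600 2096552 16 305179748 = true := by decide +kernel
theorem w20s24 : Cov 20 305180348 338725180 :=
  cov_of pb0 qb cl0 cl20 w20r24 _ _ _ (by decide +kernel)
theorem w20r25 : wins P0 Qn 20 542 600 2096552 16 338724580 = true := by decide +kernel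
theorem w20s25 : Cov 20 338725180 372270012 :=
  cov_of pb0 qb cl0 cl20 w20r25 _ _ _ (by decide +kernel)
theorem w20r26 : wins P0 Qn 20 517 600 2096552 16 372269412 = true := by decide +kernel
theorem w20s26 : Cov 20 372270012 405814844 :=
  cov_of pb0 qb cl0 cl20 w20r26 _ _ _ (by decide +kernel)
theorem w20r27 : wins P0 Qn 20 512 600 2096552 16 405814244 = true := by decide +kernel
theorem w20s27 : Cov 20 405814844 439359676 :=
  cov_of pb0 qb cl0 cl20 w20r27 _ _ _ (by decide +kernel)
theorem w20r28 : wins P0 Qn 20 538 600 2096552 16 439359076 = true := by decide +kernel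
theorem w20s28 : Cov 20 439359676 472904508 :=
  cov_of pb0 qb cl0 cl20 w20r28 _ _ _ (by decide +kernel)
theorem w20r29 : wins P0 Qn 20 553 600 2096552 16 472903908 = true := by decide +kernel
theorem w20s29 : Cov 20 472904508 506449340 :=
  cov_of pb0 qb cl0 cl20 w20r29 _ _ _ (by decide +kernel)
theorem w20r30 : wins P0 Qn 20 497 600 2096552 16 506448740 = true := by decide +kernel
theorem w20s30 : Cov 20 506449340 539994172 :=
  cov_of pb0 qb cl0 cl20 w20r30 _ _ _ (by decide +kernel)
theorem w20r31 : wins P0 Qn 20 524 600 2096552 16 539993572 = true := by decide +kernel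
theorem w20s31 : Cov 20 539994172 573539004 :=
  cov_of pb0 qb cl0 cl20 w20r31 _ _ _ (by decide +kernel)
theorem w20r32 : wins P0 Qn 20 530 600 2096552 16 573538404 = true := by decide +kernel
theorem w20s32 : Cov 20 573539004 607083836 :=
  cov_of pb0 qb cl0 cl20 w20r32 _ _ _ (by decide +kernel)
theorem w20r33 : wins P0 Qn 20 577 600 2096552 16 607083236 = true := by decide +kernel
theorem w20s33 : Cov 20 607083836 640628668 :=
  cov_of pb0 qb cl0 cl20 w20r33 _ _ _ (by decide +kernel)
theorem w20r34 : wins P0 Qn 20 579 600 2096552 16 640628068 = true := by decide +kernel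
theorem w20s34 : Cov 20 640628668 674173500 :=
  cov_of pb0 qb cl0 cl20 w20r34 _ _ _ (by decide +kernel)
theorem w20r35 : wins P0 Qn 20 467 600 2096552 16 674172900 = true := by decide +kernel
theorem w20s35 : Cov 20 674173500 707718332 :=
  cov_of pb0 qb cl0 cl20 w20r35 _ _ _ (by decide +kernel)
theorem w20r36 : wins P0 Qn 20 562 600 2096552 16 707717732 = true := by decide +kernel
theorem w20s36 : Cov 20 707718332 741263164 :=
  cov_of pb0 qb cl0 cl20 w20r36 _ _ _ (by decide +kernel)
theorem w20r37 : wins P0 Qn 20 497 600 2096552 16 741262564 = true := by decide +kernel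
theorem w20s37 : Cov 20 741263164 774807996 :=
  cov_of pb0 qb cl0 cl20 w20r37 _ _ _ (by decide +kernel)
theorem w20r38 : wins P0 Qn 20 520 600 2096552 16 774807396 = true := by decide +kernel
theorem w20s38 : Cov 20 774807996 808352828 :=
  cov_of pb0 qb cl0 cl20 w20r38 _ _ _ (by decide +kernel)
theorem w20r39 : wins P0 Qn 20 459 600 2096552 16 808352228 = true := by decide +kernel
theorem w20s39 : Cov 20 808352828 841897660 :=
  cov_of pb0 qb cl0 cl20 w20r39 _ _ _ (by decide +kernel)
theorem w20r40 : wins P0 Qn 20 514 600 2096552 16 841897060 = true := by decide +kernel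
theorem w20s40 : Cov 20 841897660 875442492 :=
  cov_of pb0 qb cl0 cl20 w20r40 _ _ _ (by decide +kernel)
theorem w20r41 : wins P0 Qn 20 590 600 2096552 16 875441892 = true := by decide +kernel
theorem w20s41 : Cov 20 875442492 908987324 :=
  cov_of pb0 qb cl0 cl20 w20r41 _ _ _ (by decide +kernel)
theorem w20r42 : wins P0 Qn 20 597 600 2096552 16 908986724 = true := by decide +kernel
theorem w20s42 : Cov 20 908987324 942532156 :=
  cov_of pb0 qb cl0 cl20 w20r42 _ _ _ (by decide +kernel)
theorem w20r43 : wins P0 Qn 20 510 600 2096552 16 942531556 = true := by decide +kernel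
theorem w20s43 : Cov 20 942532156 976076988 :=
  cov_of pb0 qb cl0 cl20 w20r43 _ _ _ (by decide +kernel)
theorem w20r44 : wins P0 Qn 20 528 600 2096552 16 976076388 = true := by decide +kernel
theorem w20s44 : Cov 20 976076988 1009621820 :=
  cov_of pb0 qb cl0 cl20 w20r44 _ _ _ (by decide +kernel)
theorem w20r45 : wins P0 Qn 20 534 600 2096552 16 1009621220 = true := by decide +kernel
theorem w20s45 : Cov 20 1009621820 1043166652 :=
  cov_of pb0 qb cl0 cl20 w20r45 _ _ _ (by decide +kernel)
theorem w20r46 : wins P0 Qn 20 580 600 2096552 16 1043166052 = true := by decide +kernel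
theorem w20s46 : Cov 20 1043166652 1076711484 :=
  cov_of pb0 qb cl0 cl20 w20r46 _ _ _ (by decide +kernel)
theorem w20r47 : wins P0 Qn 20 545 600 2096552 16 1076710884 = true := by decide +kernel
theorem w20s47 : Cov 20 1076711484 1110256316 :=
  cov_of pb0 qb cl0 cl20 w20r47 _ _ _ (by decide +kernel)
theorem w20r48 : wins P0 Qn 20 593 600 2096552 16 1110255716 = true := by decide +kernel
theorem w20s48 : Cov 20 1110256316 1143801148 :=
  cov_of pb0 qb cl0 cl20 w20r48 _ _ _ (by decide +kernel)
theorem w20r49 : wins P0 Qn 20 481 600 2096552 16 1143800548 = true := by decide +kernel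
theorem w20s49 : Cov 20 1143801148 1177345980 :=
  cov_of pb0 qb cl0 cl20 w20r49 _ _ _ (by decide +kernel)
theorem w20r50 : wins P0 Qn 20 497 600 2096552 16 1177345380 = true := by decide +kernel
theorem w20s50 : Cov 20 1177345980 1210890812 :=
  cov_of pb0 qb cl0 cl20 w20r50 _ _ _ (by decide +kernel)
theorem w20r51 : wins P0 Qn 20 548 600 2096552 16 1210890212 = true := by decide +kernel
theorem w20s51 : Cov 20 1210890812 1244435644 :=
  cov_of pb0 qb cl0 cl20 w20r51 _ _ _ (by decide +kernel)
theorem w20r52 : wins P0 Qn 20 650 600 2096552 16 1244435044 = true := by decide +kernel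
theorem w20s52 : Cov 20 1244435644 1277980476 :=
  cov_of pb0 qb cl0 cl20 w20r52 _ _ _ (by decide +kernel)
theorem w20r53 : wins P0 Qn 20 504 600 2096552 16 1277979876 = true := by decide +kernel
theorem w20s53 : Cov 20 1277980476 1311525308 :=
  cov_of pb0 qb cl0 cl20 w20r53 _ _ _ (by decide +kernel)
theorem w20r54 : wins P0 Qn 20 606 600 2096552 16 1311524708 = true := by decide +kernel
theorem w20s54 : Cov 20 1311525308 1345070140 :=
  cov_of pb0 qb cl0 cl20 w20r54 _ _ _ (by decide +kernel)
theorem w20r55 : wins P0 Qn 20 632 600 2096552 16 1345069540 = true := by decide +kernel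
theorem w20s55 : Cov 20 1345070140 1378614972 :=
  cov_of pb0 qb cl0 cl20 w20r55 _ _ _ (by decide +kernel)
theorem w20r56 : wins P0 Qn 20 555 600 2096552 16 1378614372 = true := by decide +kernel
theorem w20s56 : Cov 20 1378614972 1412159804 :=
  cov_of pb0 qb cl0 cl20 w20r56 _ _ _ (by decide +kernel)
theorem w20r57 : wins P0 Qn 20 574 600 2096552 16 1412159204 = true := by decide +kernel
theorem w20s57 : Cov 20 1412159804 1445704636 :=
  cov_of pb0 qb cl0 cl20 w20r57 _ _ _ (by decide +kernel)
theorem w20r58 : wins P0 Qn 20 583 600 2096552 16 1445704036 = true := by decide +kernel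
theorem w20s58 : Cov 20 1445704636 1479249468 :=
  cov_of pb0 qb cl0 cl20 w20r58 _ _ _ (by decide +kernel)
theorem w20r59 : wins P0 Qn 20 580 600 2096552 16 1479248868 = true := by decide +kernel
theorem w20s59 : Cov 20 1479249468 1512794300 :=
  cov_of pb0 qb cl0 cl20 w20r59 _ _ _ (by decide +kernel)
theorem w20r60 : wins P0 Qn 20 572 600 2096552 16 1512793700 = true := by decide +kernel
theorem w20s60 : Cov 20 1512794300 1546339132 :=
  cov_of pb0 qb cl0 cl20 w20r60 _ _ _ (by decide +kernel)
theorem w20r61 : wins P0 Qn 20 550 600 2096552 16 1546338532 = true := by decide +kernel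
theorem w20s61 : Cov 20 1546339132 1579883964 :=
  cov_of pb0 qb cl0 cl20 w20r61 _ _ _ (by decide +kernel)
theorem w20r62 : wins P0 Qn 20 634 600 2096552 16 1579883364 = true := by decide +kernel
theorem w20s62 : Cov 20 1579883964 1613428796 :=
  cov_of pb0 qb cl0 cl20 w20r62 _ _ _ (by decide +kernel)
theorem w20r63 : wins P0 Qn 20 572 600 2096552 16 1613428196 = true := by decide +kernel
theorem w20s63 : Cov 20 1613428796 1646973628 :=
  cov_of pb0 qb cl0 cl20 w20r63 _ _ _ (by decide +kernel)
theorem w20r64 : wins P0 Qn 20 515 600 2096552 16 1646973028 = true := by decide +kernel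
theorem w20s64 : Cov 20 1646973628 1680518460 :=
  cov_of pb0 qb cl0 cl20 w20r64 _ _ _ (by decide +kernel)
theorem w20r65 : wins P0 Qn 20 563 600 2096552 16 1680517860 = true := by decide +kernel
theorem w20s65 : Cov 20 1680518460 1714063292 :=
  cov_of pb0 qb cl0 cl20 w20r65 _ _ _ (by decide +kernel)
theorem w20r66 : wins P0 Qn 20 619 600 2096552 16 1714062692 = true := by decide +kernel
theorem w20s66 : Cov 20 1714063292 1747608124 :=
  cov_of pb0 qb cl0 cl20 w20r66 _ _ _ (by decide +kernel)
theorem w20r67 : wins P0 Qn 20 567 600 2096552 16 1747607524 = true := by decide +kernel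
theorem w20s67 : Cov 20 1747608124 1781152956 :=
  cov_of pb0 qb cl0 cl20 w20r67 _ _ _ (by decide +kernel)
theorem w20r68 : wins P0 Qn 20 577 600 2096552 16 1781152356 = true := by decide +kernel
theorem w20s68 : Cov 20 1781152956 1814697788 :=
  cov_of pb0 qb cl0 cl20 w20r68 _ _ _ (by decide +kernel)
theorem w20r69 : wins P0 Qn 20 589 600 2096552 16 1814697188 = true := by decide +kernel
theorem w20s69 : Cov 20 1814697788 1848242620 :=
  cov_of pb0 qb cl0 cl20 w20r69 _ _ _ (by decide +kernel)
theorem w20r70 : wins P0 Qn 20 570 600 2096552 16 1848242020 = true := by decide +kernel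
theorem w20s70 : Cov 20 1848242620 1881787452 :=
  cov_of pb0 qb cl0 cl20 w20r70 _ _ _ (by decide +kernel)
theorem w20r71 : wins P0 Qn 20 602 600 2096552 16 1881786852 = true := by decide +kernel
theorem w20s71 : Cov 20 1881787452 1915332284 :=
  cov_of pb0 qb cl0 cl20 w20r71 _ _ _ (by decide +kernel)
theorem w20r72 : wins P0 Qn 20 562 600 2096552 16 1915331684 = true := by decide +kernel
theorem w20s72 : Cov 20 1915332284 1948877116 :=
  cov_of pb0 qb cl0 cl20 w20r72 _ _ _ (by decide +kernel)
theorem w20r73 : wins P0 Qn 20 603 600 2096552 16 1948876516 = true := by decide +kernel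
theorem w20s73 : Cov 20 1948877116 1982421948 :=
  cov_of pb0 qb cl0 cl20 w20r73 _ _ _ (by decide +kernel)
theorem w20r74 : wins P0 Qn 20 564 600 2096552 16 1982421348 = true := by decide +kernel
theorem w20s74 : Cov 20 1982421948 2015966780 :=
  cov_of pb0 qb cl0 cl20 w20r74 _ _ _ (by decide +kernel)
theorem w20r75 : wins P0 Qn 20 582 600 2096552 16 2015966180 = true := by decide +kernel
theorem w20s75 : Cov 20 2015966780 2049511612 :=
  cov_of pb0 qb cl0 cl20 w20r75 _ _ _ (by decide +kernel)
theorem w20r76 : wins P0 Qn 20 601 600 2096552 16 2049511012 = true := by decide +kernel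
theorem w20s76 : Cov 20 2049511612 2083056444 :=
  cov_of pb0 qb cl0 cl20 w20r76 _ _ _ (by decide +kernel)
theorem w20r77 : wins P0 Qn 20 552 600 2096552 16 2083055844 = true := by decide +kernel
theorem w20s77 : Cov 20 2083056444 2116601276 :=
  cov_of pb0 qb cl0 cl20 w20r77 _ _ _ (by decide +kernel)
theorem w20r78 : wins P0 Qn 20 535 600 2096552 16 2116600676 = true := by decide +kernel
theorem w20s78 : Cov 20 2116601276 2150146108 :=
  cov_of pb0 qb cl0 cl20 w20r78 _ _ _ (by decide +kernel)
theorem w20r79 : wins P0 Qn 20 588 600 2096552 16 2150145508 = true := by decide +kernel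
theorem w20s79 : Cov 20 2150146108 2183690940 :=
  cov_of pb0 qb cl0 cl20 w20r79 _ _ _ (by decide +kernel)
theorem w20r80 : wins P0 Qn 20 584 600 2096552 16 2183690340 = true := by decide +kernel
theorem w20s80 : Cov 20 2183690940 2217235772 :=
  cov_of pb0 qb cl0 cl20 w20r80 _ _ _ (by decide +kernel)
theorem w20r81 : wins P0 Qn 20 479 600 2096552 16 2217235172 = true := by decide +kernel
theorem w20s81 : Cov 20 2217235772 2250780604 :=
  cov_of pb0 qb cl0 cl20 w20r81 _ _ _ (by decide +kernel)
theorem w20r82 : wins P0 Qn 20 557 600 2096552 16 2250780004 = true := by decide +kernel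
theorem w20s82 : Cov 20 2250780604 2284325436 :=
  cov_of pb0 qb cl0 cl20 w20r82 _ _ _ (by decide +kernel)
theorem w20r83 : wins P0 Qn 20 581 600 2096552 16 2284324836 = true := by decide +kernel
theorem w20s83 : Cov 20 2284325436 2317870268 :=
  cov_of pb0 qb cl0 cl20 w20r83 _ _ _ (by decide +kernel)
theorem w20r84 : wins P0 Qn 20 491 600 2096552 16 2317869668 = true := by decide +kernel
theorem w20s84 : Cov 20 2317870268 2351415100 :=
  cov_of pb0 qb cl0 cl20 w20r84 _ _ _ (by decide +kernel)
theorem w20r85 : wins P0 Qn 20 535 600 2096552 16 2351414500 = true := by decide +kernel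
theorem w20s85 : Cov 20 2351415100 2384959932 :=
  cov_of pb0 qb cl0 cl20 w20r85 _ _ _ (by decide +kernel)
theorem w20r86 : wins P0 Qn 20 582 600 2096552 16 2384959332 = true := by decide +kernel
theorem w20s86 : Cov 20 2384959932 2418504764 :=
  cov_of pb0 qb cl0 cl20 w20r86 _ _ _ (by decide +kernel)
theorem w20r87 : wins P0 Qn 20 684 600 2096552 16 2418504164 = true := by decide +kernel
theorem w20s87 : Cov 20 2418504764 2452049596 :=
  cov_of pb0 qb cl0 cl20 w20r87 _ _ _ (by decide +kernel)
theorem w20r88 : wins P0 Qn 20 577 600 2096552 16 2452048996 = true := by decide +kernel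
theorem w20s88 : Cov 20 2452049596 2485594428 :=
  cov_of pb0 qb cl0 cl20 w20r88 _ _ _ (by decide +kernel)
theorem w20r89 : wins P0 Qn 20 586 600 2096552 16 2485593828 = true := by decide +kernel
theorem w20s89 : Cov 20 2485594428 2519139260 :=
  cov_of pb0 qb cl0 cl20 w20r89 _ _ _ (by decide +kernel)
theorem w20r90 : wins P0 Qn 20 596 600 2096552 16 2519138660 = true := by decide +kernel
theorem w20s90 : Cov 20 2519139260 2552684092 :=
  cov_of pb0 qb cl0 cl20 w20r90 _ _ _ (by decide +kernel)
theorem w20r91 : wins P0 Qn 20 591 600 2096552 16 2552683492 = true := by decide +kernel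
theorem w20s91 : Cov 20 2552684092 2586228924 :=
  cov_of pb0 qb cl0 cl20 w20r91 _ _ _ (by decide +kernel)
theorem w20r92 : wins P0 Qn 20 553 600 2096552 16 2586228324 = true := by decide +kernel
theorem w20s92 : Cov 20 2586228924 2619773756 :=
  cov_of pb0 qb cl0 cl20 w20r92 _ _ _ (by decide +kernel)
theorem w20r93 : wins P0 Qn 20 548 600 2096552 16 2619773156 = true := by decide +kernel
theorem w20s93 : Cov 20 2619773756 2653318588 :=
  cov_of pb0 qb cl0 cl20 w20r93 _ _ _ (by decide +kernel)
theorem w20r94 : wins P0 Qn 20 502 600 2096552 16 2653317988 = true := by decide +kernel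
theorem w20s94 : Cov 20 2653318588 2686863420 :=
  cov_of pb0 qb cl0 cl20 w20r94 _ _ _ (by decide +kernel)
theorem w20r95 : wins P0 Qn 20 601 600 2096552 16 2686862820 = true := by decide +kernel
theorem w20s95 : Cov 20 2686863420 2720408252 :=
  cov_of pb0 qb cl0 cl20 w20r95 _ _ _ (by decide +kernel)
theorem w20r96 : wins P0 Qn 20 601 600 2096552 16 2720407652 = true := by decide +kernel
theorem w20s96 : Cov 20 2720408252 2753953084 :=
  cov_of pb0 qb cl0 cl20 w20r96 _ _ _ (by decide +kernel)
theorem w20r97 : wins P0 Qn 20 544 600 2096552 16 2753952484 = true := by decide +kernel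
theorem w20s97 : Cov 20 2753953084 2787497916 :=
  cov_of pb0 qb cl0 cl20 w20r97 _ _ _ (by decide +kernel)
theorem w20r98 : wins P0 Qn 20 681 600 2096552 16 2787497316 = true := by decide +kernel
theorem w20s98 : Cov 20 2787497916 2821042748 :=
  cov_of pb0 qb cl0 cl20 w20r98 _ _ _ (by decide +kernel)
theorem w20r99 : wins P0 Qn 20 522 600 2096552 16 2821042148 = true := by decide +kernel
theorem w20s99 : Cov 20 2821042748 2854587580 :=
  cov_of pb0 qb cl0 cl20 w20r99 _ _ _ (by decide +kernel)
theorem w20r100 : wins P0 Qn 20 598 600 2096552 16 2854586980 = true := by decide +kernel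
theorem w20s100 : Cov 20 2854587580 2888132412 :=
  cov_of pb0 qb cl0 cl20 w20r100 _ _ _ (by decide +kernel)
theorem w20r101 : wins P0 Qn 20 589 600 2096552 16 2888131812 = true := by decide +kernel
theorem w20s101 : Cov 20 2888132412 2921677244 :=
  cov_of pb0 qb cl0 cl20 w20r101 _ _ _ (by decide +kernel)
theorem w20r102 : wins P0 Qn 20 600 600 2096552 16 2921676644 = true := by decide +kernel
theorem w20s102 : Cov 20 2921677244 2955222076 :=
  cov_of pb0 qb cl0 cl20 w20r102 _ _ _ (by decide +kernel)
theorem w20r103 : wins P0 Qn 20 587 600 2096552 16 2955221476 = true := by decide +kernel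
theorem w20s103 : Cov 20 2955222076 2988766908 :=
  cov_of pb0 qb cl0 cl20 w20r103 _ _ _ (by decide +kernel)
theorem w20r104 : wins P0 Qn 20 579 600 2096552 16 2988766308 = true := by decide +kernel
theorem w20s104 : Cov 20 2988766908 3022311740 :=
  cov_of pb0 qb cl0 cl20 w20r104 _ _ _ (by decide +kernel)
theorem w20r105 : wins P0 Qn 20 588 600 2096552 16 3022311140 = true := by decide +kernel
theorem w20s105 : Cov 20 3022311740 3055856572 :=
  cov_of pb0 qb cl0 cl20 w20r105 _ _ _ (by decide +kernel)
theorem w20r106 : wins P0 Qn 20 561 600 2096552 16 3055855972 = true := by decide +kernel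
theorem w20s106 : Cov 20 3055856572 3089401404 :=
  cov_of pb0 qb cl0 cl20 w20r106 _ _ _ (by decide +kernel)
theorem w20r107 : wins P0 Qn 20 645 600 2096552 16 3089400804 = true := by decide +kernel
theorem w20s107 : Cov 20 3089401404 3122946236 :=
  cov_of pb0 qb cl0 cl20 w20r107 _ _ _ (by decide +kernel)
theorem w20r108 : wins P0 Qn 20 552 600 2096552 16 3122945636 = true := by decide +kernel
theorem w20s108 : Cov 20 3122946236 3156491068 :=
  cov_of pb0 qb cl0 cl20 w20r108 _ _ _ (by decide +kernel)
theorem w20r109 : wins P0 Qn 20 583 600 2096552 16 3156490468 = true := by decide +kernel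
theorem w20s109 : Cov 20 3156491068 3190035900 :=
  cov_of pb0 qb cl0 cl20 w20r109 _ _ _ (by decide +kernel)
theorem w20r110 : wins P0 Qn 20 560 600 2096552 16 3190035300 = true := by decide +kernel
theorem w20s110 : Cov 20 3190035900 3223580732 :=
  cov_of pb0 qb cl0 cl20 w20r110 _ _ _ (by decide +kernel)
theorem w20r111 : wins P0 Qn 20 547 600 2096552 16 3223580132 = true := by decide +kernel
theorem w20s111 : Cov 20 3223580732 3257125564 :=
  cov_of pb0 qb cl0 cl20 w20r111 _ _ _ (by decide +kernel)
theorem w20r112 : wins P0 Qn 20 498 600 2096552 16 3257124964 = true := by decide +kernel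
theorem w20s112 : Cov 20 3257125564 3290670396 :=
  cov_of pb0 qb cl0 cl20 w20r112 _ _ _ (by decide +kernel)
theorem w20r113 : wins P0 Qn 20 536 600 2096552 16 3290669796 = true := by decide +kernel
theorem w20s113 : Cov 20 3290670396 3324215228 :=
  cov_of pb0 qb cl0 cl20 w20r113 _ _ _ (by decide +kernel)
theorem w20r114 : wins P0 Qn 20 602 600 2096552 16 3324214628 = true := by decide +kernel
theorem w20s114 : Cov 20 3324215228 3357760060 :=
  cov_of pb0 qb cl0 cl20 w20r114 _ _ _ (by decide +kernel)
theorem w20r115 : wins P0 Qn 20 573 600 2096552 16 3357759460 = true := by decide +kernel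
theorem w20s115 : Cov 20 3357760060 3391304892 :=
  cov_of pb0 qb cl0 cl20 w20r115 _ _ _ (by decide +kernel)
theorem w20r116 : wins P0 Qn 20 642 600 2096552 16 3391304292 = true := by decide +kernel
theorem w20s116 : Cov 20 3391304892 3424849724 :=
  cov_of pb0 qb cl0 cl20 w20r116 _ _ _ (by decide +kernel)
theorem w20r117 : wins P0 Qn 20 602 600 2096552 16 3424849124 = true := by decide +kernel
theorem w20s117 : Cov 20 3424849724 3458394556 :=
  cov_of pb0 qb cl0 cl20 w20r117 _ _ _ (by decide +kernel)
theorem w20r118 : wins P0 Qn 20 554 600 2096552 16 3458393956 = true := by decide +kernel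
theorem w20s118 : Cov 20 3458394556 3491939388 :=
  cov_of pb0 qb cl0 cl20 w20r118 _ _ _ (by decide +kernel)
theorem w20r119 : wins P0 Qn 20 538 600 2096552 16 3491938788 = true := by decide +kernel
theorem w20s119 : Cov 20 3491939388 3525484220 :=
  cov_of pb0 qb cl0 cl20 w20r119 _ _ _ (by decide +kernel)
theorem w20r120 : wins P0 Qn 20 577 600 2096552 16 3525483620 = true := by decide +kernel
theorem w20s120 : Cov 20 3525484220 3559029052 :=
  cov_of pb0 qb cl0 cl20 w20r120 _ _ _ (by decide +kernel)
theorem w20r121 : wins P0 Qn 20 568 600 2096552 16 3559028452 = true := by decide +kernel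
theorem w20s121 : Cov 20 3559029052 3592573884 :=
  cov_of pb0 qb cl0 cl20 w20r121 _ _ _ (by decide +kernel)
theorem w20r122 : wins P0 Qn 20 635 600 2096552 16 3592573284 = true := by decide +kernel
theorem w20s122 : Cov 20 3592573884 3626118716 :=
  cov_of pb0 qb cl0 cl20 w20r122 _ _ _ (by decide +kernel)
theorem w20r123 : wins P0 Qn 20 621 600 2096552 16 3626118116 = true := by decide +kernel
theorem w20s123 : Cov 20 3626118716 3659663548 :=
  cov_of pb0 qb cl0 cl20 w20r123 _ _ _ (by decide +kernel)
theorem w20r124 : wins P0 Qn 20 577 600 2096552 16 3659662948 = true := by decide +kernel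
theorem w20s124 : Cov 20 3659663548 3693208380 :=
  cov_of pb0 qb cl0 cl20 w20r124 _ _ _ (by decide +kernel)
theorem w20r125 : wins P0 Qn 20 576 600 2096552 16 3693207780 = true := by decide +kernel
theorem w20s125 : Cov 20 3693208380 3726753212 :=
  cov_of pb0 qb cl0 cl20 w20r125 _ _ _ (by decide +kernel)
theorem w20r126 : wins P0 Qn 20 558 600 2096552 16 3726752612 = true := by decide +kernel
theorem w20s126 : Cov 20 3726753212 3760298044 :=
  cov_of pb0 qb cl0 cl20 w20r126 _ _ _ (by decide +kernel)
theorem w20r127 : wins P0 Qn 20 644 600 2096552 16 3760297444 = true := by decide +kernel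
theorem w20s127 : Cov 20 3760298044 3793842876 :=
  cov_of pb0 qb cl0 cl20 w20r127 _ _ _ (by decide +kernel)
theorem w20r128 : wins P0 Qn 20 571 600 2096552 16 3793842276 = true := by decide +kernel
theorem w20s128 : Cov 20 3793842876 3827387708 :=
  cov_of pb0 qb cl0 cl20 w20r128 _ _ _ (by decide +kernel)
theorem w20r129 : wins P0 Qn 20 596 600 2096552 16 3827387108 = true := by decide +kernel
theorem w20s129 : Cov 20 3827387708 3860932540 :=
  cov_of pb0 qb cl0 cl20 w20r129 _ _ _ (by decide +kernel)
theorem w20r130 : wins P0 Qn 20 528 600 2096552 16 3860931940 = true := by decide +kernel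
theorem w20s130 : Cov 20 3860932540 3894477372 :=
  cov_of pb0 qb cl0 cl20 w20r130 _ _ _ (by decide +kernel)
theorem w20r131 : wins P0 Qn 20 588 600 2096552 16 3894476772 = true := by decide +kernel
theorem w20s131 : Cov 20 3894477372 3928022204 :=
  cov_of pb0 qb cl0 cl20 w20r131 _ _ _ (by decide +kernel)
theorem w20r132 : wins P0 Qn 20 557 600 2096552 16 3928021604 = true := by decide +kernel
theorem w20s132 : Cov 20 3928022204 3961567036 :=
  cov_of pb0 qb cl0 cl20 w20r132 _ _ _ (by decide +kernel)
theorem w20r133 : wins P0 Qn 20 587 600 2096552 16 3961566436 = true := by decide +kernel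
theorem w20s133 : Cov 20 3961567036 3995111868 :=
  cov_of pb0 qb cl0 cl20 w20r133 _ _ _ (by decide +kernel)
theorem w20r134 : wins P0 Qn 20 555 600 2096552 16 3995111268 = true := by decide +kernel
theorem w20s134 : Cov 20 3995111868 4028656700 :=
  cov_of pb0 qb cl0 cl20 w20r134 _ _ _ (by decide +kernel)
theorem w20r135 : wins P0 Qn 20 565 600 2096552 16 4028656100 = true := by decide +kernel
theorem w20s135 : Cov 20 4028656700 4062201532 :=
  cov_of pb0 qb cl0 cl20 w20r135 _ _ _ (by decide +kernel)
theorem w20r136 : wins P0 Qn 20 521 600 2096552 16 4062200932 = true := by decide +kernel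
theorem w20s136 : Cov 20 4062201532 4095746364 :=
  cov_of pb0 qb cl0 cl20 w20r136 _ _ _ (by decide +kernel)
theorem w20r137 : wins P0 Qn 20 611 600 2096552 16 4095745764 = true := by decide +kernel
theorem w20s137 : Cov 20 4095746364 4129291196 :=
  cov_of pb0 qb cl0 cl20 w20r137 _ _ _ (by decide +kernel)
theorem w20r138 : wins P0 Qn 20 589 600 2096552 16 4129290596 = true := by decide +kernel
theorem w20s138 : Cov 20 4129291196 4162836028 :=
  cov_of pb0 qb cl0 cl20 w20r138 _ _ _ (by decide +kernel)

theorem cov20a : Cov 20 160 4162836028 :=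
  (((((((w20s0.app w20s1).app (w20s2.app w20s3)).app ((w20s4.app w20s5).app (w20s6.app w20s7))).app (((w20s8.app w20s9).app (w20s10.app w20s11)).app ((w20s12.app w20s13).app (w20s14.app (w20s15.app w20s16))))).app ((((w20s17.app w20s18).app (w20s19.app w20s20)).app ((w20s21.app w20s22).app (w20s23.app w20s24))).app (((w20s25.app w20s26).app (w20s27.app w20s28)).app ((w20s29.app w20s30).app (w20s31.app (w20s32.app w20s33)))))).app (((((w20s34.app w20s35).app (w20s36.app w20s37)).app ((w20s38.app w20s39).app (w20s40.app w20s41))).app (((w20s42.app w20s43).app (w20s44.app w20s45)).app ((w20s46.app w20s47).app (w20s48.app (w20s49.app w20s50))))).app ((((w20s51.app w20s52).app (w20s53.app w20s54)).app ((w20s55.app w20s56).app (w20s57.app (w20s58.app w20s59)))).app (((w20s60.app w20s61).app (w20s62.app w20s63)).app ((w20s64.app w20s65).app (w20s66.app (w20s67.app w20s68))))))).app ((((((w20s69.app w20s70).app (w20s71.app w20s72)).app ((w20s73.app w20s74).app (w20s75.app w20s76))).app (((w20s77.app w20s78).app (w20s79.app w20s80)).app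 ((w20s81.app w20s82).app (w20s83.app (w20s84.app w20s85))))).app ((((w20s86.app w20s87).app (w20s88.app w20s89)).app ((w20s90.app w20s91).app (w20s92.app (w20s93.app w20s94)))).app (((w20s95.app w20s96).app (w20s97.app w20s98)).app ((w20s99.app w20s100).app (w20s101.app (w20s102.app w20s103)))))).app (((((w20s104.app w20s105).app (w20s106.app w20s107)).app ((w20s108.app w20s109).app (w20s110.app w20s111))).app (((w20s112.app w20s113).app (w20s114.app w20s115)).app ((w20s116.app w20s117).app (w20s118.app (w20s119.app w20s120))))).app ((((w20s121.app w20s122).app (w20s123.app w20s124)).app ((w20s125.app w20s126).app (w20s127.app (w20s128.app w20s129)))).app (((w20s130.app w20s131).app (w20s132.app w20s133)).app ((w20s134.app w20s135).app (w20s136.app (w20s137.app w20s138))))))))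

end Cfsg.Agent.Depth.F
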