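import Cfsg.Agent.Depth.F.P0
import Cfsg.Agent.Depth.F.Q

/-! The numbers `30 M + 20` as sums `(p + 1) + (q + 1)`, part 2. -/

set_option autoImplicit false
set_option Elab.async false

namespace Cfsg.Agent.Depth.F

theorem w20r139 : wins P0 Qn 20 585 600 2096552 16 4162835428 = true := by decide +kernel
theorem w20s139 : Cov 20 4162836028 4196380860 :=
  cov_of pb0 qb cl0 cl20 w20r139 _ _ _ (by decide +kernel)
theorem w20r140 : wins P0 Qn 20 573 600 2096552 16 4196380260 = true := by decide +kernel
theorem w20s140 : Cov 20 4196380860 4229925692 :=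
  cov_of pb0 qb cl0 cl20 w20r140 _ _ _ (by decide +kernel)
theorem w20r141 : wins P0 Qn 20 583 600 2096552 16 4229925092 = true := by decide +kernel
theorem w20s141 : Cov 20 4229925692 4263470524 :=
  cov_of pb0 qb cl0 cl20 w20r141 _ _ _ (by decide +kernel)
theorem w20r142 : wins P0 Qn 20 595 600 2096552 16 4263469924 = true := by decide +kernel
theorem w20s142 : Cov 20 4263470524 4297015356 :=
  cov_of pb0 qb cl0 cl20 w20r142 _ _ _ (by decide +kernel)
theorem w20r143 : wins P0 Qn 20 485 600 2096552 16 4297014756 = true := by decide +kernel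
theorem w20s143 : Cov 20 4297015356 4330560188 :=
  cov_of pb0 qb cl0 cl20 w20r143 _ _ _ (by decide +kernel)
theorem w20r144 : wins P0 Qn 20 691 600 2096552 16 4330559588 = true := by decide +kernel
theorem w20s144 : Cov 20 4330560188 4364105020 :=
  cov_of pb0 qb cl0 cl20 w20r144 _ _ _ (by decide +kernel)
theorem w20r145 : wins P0 Qn 20 651 600 2096552 16 4364104420 = true := by decide +kernel
theorem w20s145 : Cov 20 4364105020 4397649852 :=
  cov_of pb0 qb cl0 cl20 w20r145 _ _ _ (by decide +kernel)
theorem w20r146 : wins P0 Qn 20 585 600 2096552 16 4397649252 = true := by decide +kernel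
theorem w20s146 : Cov 20 4397649852 4431194684 :=
  cov_of pb0 qb cl0 cl20 w20r146 _ _ _ (by decide +kernel)
theorem w20r147 : wins P0 Qn 20 537 600 2096552 16 4431194084 = true := by decide +kernel
theorem w20s147 : Cov 20 4431194684 4464739516 :=
  cov_of pb0 qb cl0 cl20 w20r147 _ _ _ (by decide +kernel)
theorem w20r148 : wins P0 Qn 20 616 600 2096552 16 4464738916 = true := by decide +kernel
theorem w20s148 : Cov 20 4464739516 4498284348 :=
  cov_of pb0 qb cl0 cl20 w20r148 _ _ _ (by decide +kernel)
theorem w20r149 : wins P0 Qn 20 579 600 2096552 16 4498283748 = true := by decide +kernel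
theorem w20s149 : Cov 20 4498284348 4531829180 :=
  cov_of pb0 qb cl0 cl20 w20r149 _ _ _ (by decide +kernel)
theorem w20r150 : wins P0 Qn 20 692 600 2096552 16 4531828580 = true := by decide +kernel
theorem w20s150 : Cov 20 4531829180 4565374012 :=
  cov_of pb0 qb cl0 cl20 w20r150 _ _ _ (by decide +kernel)
theorem w20r151 : wins P0 Qn 20 628 600 2096552 16 4565373412 = true := by decide +kernel
theorem w20s151 : Cov 20 4565374012 4598918844 :=
  cov_of pb0 qb cl0 cl20 w20r151 _ _ _ (by decide +kernel)
theorem w20r152 : wins P0 Qn 20 617 600 2096552 16 4598918244 = true := by decide +kernel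
theorem w20s152 : Cov 20 4598918844 4632463676 :=
  cov_of pb0 qb cl0 cl20 w20r152 _ _ _ (by decide +kernel)
theorem w20r153 : wins P0 Qn 20 566 600 2096552 16 4632463076 = true := by decide +kernel
theorem w20s153 : Cov 20 4632463676 4666008508 :=
  cov_of pb0 qb cl0 cl20 w20r153 _ _ _ (by decide +kernel)
theorem w20r154 : wins P0 Qn 20 589 600 2096552 16 4666007908 = true := by decide +kernel
theorem w20s154 : Cov 20 4666008508 4699553340 :=
  cov_of pb0 qb cl0 cl20 w20r154 _ _ _ (by decide +kernel)
theorem w20r155 : wins P0 Qn 20 549 600 2096552 16 4699552740 = true := by decide +kernel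
theorem w20s155 : Cov 20 4699553340 4733098172 :=
  cov_of pb0 qb cl0 cl20 w20r155 _ _ _ (by decide +kernel)
theorem w20r156 : wins P0 Qn 20 702 600 2096552 16 4733097572 = true := by decide +kernel
theorem w20s156 : Cov 20 4733098172 4766643004 :=
  cov_of pb0 qb cl0 cl20 w20r156 _ _ _ (by decide +kernel)
theorem w20r157 : wins P0 Qn 20 613 600 2096552 16 4766642404 = true := by decide +kernel
theorem w20s157 : Cov 20 4766643004 4800187836 :=
  cov_of pb0 qb cl0 cl20 w20r157 _ _ _ (by decide +kernel)
theorem w20r158 : wins P0 Qn 20 542 600 2096552 16 4800187236 = true := by decide +kernel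
theorem w20s158 : Cov 20 4800187836 4833732668 :=
  cov_of pb0 qb cl0 cl20 w20r158 _ _ _ (by decide +kernel)
theorem w20r159 : wins P0 Qn 20 649 600 2096552 16 4833732068 = true := by decide +kernel
theorem w20s159 : Cov 20 4833732668 4867277500 :=
  cov_of pb0 qb cl0 cl20 w20r159 _ _ _ (by decide +kernel)
theorem w20r160 : wins P0 Qn 20 560 600 2096552 16 4867276900 = true := by decide +kernel
theorem w20s160 : Cov 20 4867277500 4900822332 :=
  cov_of pb0 qb cl0 cl20 w20r160 _ _ _ (by decide +kernel)
theorem w20r161 : wins P0 Qn 20 703 600 2096552 16 4900821732 = true := by decide +kernel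
theorem w20s161 : Cov 20 4900822332 4934367164 :=
  cov_of pb0 qb cl0 cl20 w20r161 _ _ _ (by decide +kernel)
theorem w20r162 : wins P0 Qn 20 577 600 2096552 16 4934366564 = true := by decide +kernel
theorem w20s162 : Cov 20 4934367164 4967911996 :=
  cov_of pb0 qb cl0 cl20 w20r162 _ _ _ (by decide +kernel)
theorem w20r163 : wins P0 Qn 20 609 600 2096552 16 4967911396 = true := by decide +kernel
theorem w20s163 : Cov 20 4967911996 5001456828 :=
  cov_of pb0 qb cl0 cl20 w20r163 _ _ _ (by decide +kernel)
theorem w20r164 : wins P0 Qn 20 604 600 2096552 16 5001456228 = true := by decide +kernel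
theorem w20s164 : Cov 20 5001456828 5035001660 :=
  cov_of pb0 qb cl0 cl20 w20r164 _ _ _ (by decide +kernel)
theorem w20r165 : wins P0 Qn 20 556 600 2096552 16 5035001060 = true := by decide +kernel
theorem w20s165 : Cov 20 5035001660 5068546492 :=
  cov_of pb0 qb cl0 cl20 w20r165 _ _ _ (by decide +kernel)
theorem w20r166 : wins P0 Qn 20 675 600 2096552 16 5068545892 = true := by decide +kernel
theorem w20s166 : Cov 20 5068546492 5102091324 :=
  cov_of pb0 qb cl0 cl20 w20r166 _ _ _ (by decide +kernel)
theorem w20r167 : wins P0 Qn 20 620 600 2096552 16 5102090724 = true := by decide +kernel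
theorem w20s167 : Cov 20 5102091324 5135636156 :=
  cov_of pb0 qb cl0 cl20 w20r167 _ _ _ (by decide +kernel)
theorem w20r168 : wins P0 Qn 20 737 600 2096552 16 5135635556 = true := by decide +kernel
theorem w20s168 : Cov 20 5135636156 5169180988 :=
  cov_of pb0 qb cl0 cl20 w20r168 _ _ _ (by decide +kernel)
theorem w20r169 : wins P0 Qn 20 638 600 2096552 16 5169180388 = true := by decide +kernel
theorem w20s169 : Cov 20 5169180988 5202725820 :=
  cov_of pb0 qb cl0 cl20 w20r169 _ _ _ (by decide +kernel)
theorem w20r170 : wins P0 Qn 20 546 600 2096552 16 5202725220 = true := by decide +kernel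
theorem w20s170 : Cov 20 5202725820 5236270652 :=
  cov_of pb0 qb cl0 cl20 w20r170 _ _ _ (by decide +kernel)
theorem w20r171 : wins P0 Qn 20 524 600 2096552 16 5236270052 = true := by decide +kernel
theorem w20s171 : Cov 20 5236270652 5269815484 :=
  cov_of pb0 qb cl0 cl20 w20r171 _ _ _ (by decide +kernel)
theorem w20r172 : wins P0 Qn 20 585 600 2096552 16 5269814884 = true := by decide +kernel
theorem w20s172 : Cov 20 5269815484 5303360316 :=
  cov_of pb0 qb cl0 cl20 w20r172 _ _ _ (by decide +kernel)
theorem w20r173 : wins P0 Qn 20 584 600 2096552 16 5303359716 = true := by decide +kernel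
theorem w20s173 : Cov 20 5303360316 5336905148 :=
  cov_of pb0 qb cl0 cl20 w20r173 _ _ _ (by decide +kernel)
theorem w20r174 : wins P0 Qn 20 557 600 2096552 16 5336904548 = true := by decide +kernel
theorem w20s174 : Cov 20 5336905148 5370449980 :=
  cov_of pb0 qb cl0 cl20 w20r174 _ _ _ (by decide +kernel)
theorem w20r175 : wins P0 Qn 20 582 600 2096552 16 5370449380 = true := by decide +kernel
theorem w20s175 : Cov 20 5370449980 5403994812 :=
  cov_of pb0 qb cl0 cl20 w20r175 _ _ _ (by decide +kernel)
theorem w20r176 : wins P0 Qn 20 623 600 2096552 16 5403994212 = true := by decide +kernel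
theorem w20s176 : Cov 20 5403994812 5437539644 :=
  cov_of pb0 qb cl0 cl20 w20r176 _ _ _ (by decide +kernel)
theorem w20r177 : wins P0 Qn 20 613 600 2096552 16 5437539044 = true := by decide +kernel
theorem w20s177 : Cov 20 5437539644 5471084476 :=
  cov_of pb0 qb cl0 cl20 w20r177 _ _ _ (by decide +kernel)
theorem w20r178 : wins P0 Qn 20 555 600 2096552 16 5471083876 = true := by decide +kernel
theorem w20s178 : Cov 20 5471084476 5504629308 :=
  cov_of pb0 qb cl0 cl20 w20r178 _ _ _ (by decide +kernel)
theorem w20r179 : wins P0 Qn 20 629 600 2096552 16 5504628708 = true := by decide +kernel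
theorem w20s179 : Cov 20 5504629308 5538174140 :=
  cov_of pb0 qb cl0 cl20 w20r179 _ _ _ (by decide +kernel)
theorem w20r180 : wins P0 Qn 20 591 600 2096552 16 5538173540 = true := by decide +kernel
theorem w20s180 : Cov 20 5538174140 5571718972 :=
  cov_of pb0 qb cl0 cl20 w20r180 _ _ _ (by decide +kernel)
theorem w20r181 : wins P0 Qn 20 543 600 2096552 16 5571718372 = true := by decide +kernel
theorem w20s181 : Cov 20 5571718972 5605263804 :=
  cov_of pb0 qb cl0 cl20 w20r181 _ _ _ (by decide +kernel)
theorem w20r182 : wins P0 Qn 20 580 600 2096552 16 5605263204 = true := by decide +kernel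
theorem w20s182 : Cov 20 5605263804 5638808636 :=
  cov_of pb0 qb cl0 cl20 w20r182 _ _ _ (by decide +kernel)
theorem w20r183 : wins P0 Qn 20 611 600 2096552 16 5638808036 = true := by decide +kernel
theorem w20s183 : Cov 20 5638808636 5672353468 :=
  cov_of pb0 qb cl0 cl20 w20r183 _ _ _ (by decide +kernel)
theorem w20r184 : wins P0 Qn 20 652 600 2096552 16 5672352868 = true := by decide +kernel
theorem w20s184 : Cov 20 5672353468 5705898300 :=
  cov_of pb0 qb cl0 cl20 w20r184 _ _ _ (by decide +kernel)
theorem w20r185 : wins P0 Qn 20 500 600 2096552 16 5705897700 = true := by decide +kernel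
theorem w20s185 : Cov 20 5705898300 5739443132 :=
  cov_of pb0 qb cl0 cl20 w20r185 _ _ _ (by decide +kernel)
theorem w20r186 : wins P0 Qn 20 576 600 2096552 16 5739442532 = true := by decide +kernel
theorem w20s186 : Cov 20 5739443132 5772987964 :=
  cov_of pb0 qb cl0 cl20 w20r186 _ _ _ (by decide +kernel)
theorem w20r187 : wins P0 Qn 20 599 600 2096552 16 5772987364 = true := by decide +kernel
theorem w20s187 : Cov 20 5772987964 5806532796 :=
  cov_of pb0 qb cl0 cl20 w20r187 _ _ _ (by decide +kernel)
theorem w20r188 : wins P0 Qn 20 578 600 2096552 16 5806532196 = true := by decide +kernel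
theorem w20s188 : Cov 20 5806532796 5840077628 :=
  cov_of pb0 qb cl0 cl20 w20r188 _ _ _ (by decide +kernel)
theorem w20r189 : wins P0 Qn 20 542 600 2096552 16 5840077028 = true := by decide +kernel
theorem w20s189 : Cov 20 5840077628 5873622460 :=
  cov_of pb0 qb cl0 cl20 w20r189 _ _ _ (by decide +kernel)
theorem w20r190 : wins P0 Qn 20 521 600 2096552 16 5873621860 = true := by decide +kernel
theorem w20s190 : Cov 20 5873622460 5907167292 :=
  cov_of pb0 qb cl0 cl20 w20r190 _ _ _ (by decide +kernel)
theorem w20r191 : wins P0 Qn 20 583 600 2096552 16 5907166692 = true := by decide +kernel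
theorem w20s191 : Cov 20 5907167292 5940712124 :=
  cov_of pb0 qb cl0 cl20 w20r191 _ _ _ (by decide +kernel)
theorem w20r192 : wins P0 Qn 20 545 600 2096552 16 5940711524 = true := by decide +kernel
theorem w20s192 : Cov 20 5940712124 5974256956 :=
  cov_of pb0 qb cl0 cl20 w20r192 _ _ _ (by decide +kernel)
theorem w20r193 : wins P0 Qn 20 570 600 2096552 16 5974256356 = true := by decide +kernel
theorem w20s193 : Cov 20 5974256956 6007801788 :=
  cov_of pb0 qb cl0 cl20 w20r193 _ _ _ (by decide +kernel)
theorem w20r194 : wins P0 Qn 20 647 600 2096552 16 6007801188 = true := by decide +kernel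
theorem w20s194 : Cov 20 6007801788 6041346620 :=
  cov_of pb0 qb cl0 cl20 w20r194 _ _ _ (by decide +kernel)
theorem w20r195 : wins P0 Qn 20 545 600 2096552 16 6041346020 = true := by decide +kernel
theorem w20s195 : Cov 20 6041346620 6074891452 :=
  cov_of pb0 qb cl0 cl20 w20r195 _ _ _ (by decide +kernel)
theorem w20r196 : wins P0 Qn 20 632 600 2096552 16 6074890852 = true := by decide +kernel
theorem w20s196 : Cov 20 6074891452 6108436284 :=
  cov_of pb0 qb cl0 cl20 w20r196 _ _ _ (by decide +kernel)
theorem w20r197 : wins P0 Qn 20 553 600 2096552 16 6108435684 = true := by decide +kernel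
theorem w20s197 : Cov 20 6108436284 6141981116 :=
  cov_of pb0 qb cl0 cl20 w20r197 _ _ _ (by decide +kernel)
theorem w20r198 : wins P0 Qn 20 560 600 2096552 16 6141980516 = true := by decide +kernel
theorem w20s198 : Cov 20 6141981116 6175525948 :=
  cov_of pb0 qb cl0 cl20 w20r198 _ _ _ (by decide +kernel)
theorem w20r199 : wins P0 Qn 20 531 600 2096552 16 6175525348 = true := by decide +kernel
theorem w20s199 : Cov 20 6175525948 6209070780 :=
  cov_of pb0 qb cl0 cl20 w20r199 _ _ _ (by decide +kernel)
theorem w20r200 : wins P0 Qn 20 613 600 2096552 16 6209070180 = true := by decide +kernel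
theorem w20s200 : Cov 20 6209070780 6242615612 :=
  cov_of pb0 qb cl0 cl20 w20r200 _ _ _ (by decide +kernel)
theorem w20r201 : wins P0 Qn 20 656 600 2096552 16 6242615012 = true := by decide +kernel
theorem w20s201 : Cov 20 6242615612 6276160444 :=
  cov_of pb0 qb cl0 cl20 w20r201 _ _ _ (by decide +kernel)
theorem w20r202 : wins P0 Qn 20 574 600 2096552 16 6276159844 = true := by decide +kernel
theorem w20s202 : Cov 20 6276160444 6309705276 :=
  cov_of pb0 qb cl0 cl20 w20r202 _ _ _ (by decide +kernel)
theorem w20r203 : wins P0 Qn 20 574 600 2096552 16 6309704676 = true := by decide +kernel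
theorem w20s203 : Cov 20 6309705276 6343250108 :=
  cov_of pb0 qb cl0 cl20 w20r203 _ _ _ (by decide +kernel)
theorem w20r204 : wins P0 Qn 20 499 600 2096552 16 6343249508 = true := by decide +kernel
theorem w20s204 : Cov 20 6343250108 6376794940 :=
  cov_of pb0 qb cl0 cl20 w20r204 _ _ _ (by decide +kernel)
theorem w20r205 : wins P0 Qn 20 610 600 2096552 16 6376794340 = true := by decide +kernel
theorem w20s205 : Cov 20 6376794940 6410339772 :=
  cov_of pb0 qb cl0 cl20 w20r205 _ _ _ (by decide +kernel)
theorem w20r206 : wins P0 Qn 20 641 600 2096552 16 6410339172 = true := by decide +kernel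
theorem w20s206 : Cov 20 6410339772 6443884604 :=
  cov_of pb0 qb cl0 cl20 w20r206 _ _ _ (by decide +kernel)
theorem w20r207 : wins P0 Qn 20 550 600 2096552 16 6443884004 = true := by decide +kernel
theorem w20s207 : Cov 20 6443884604 6477429436 :=
  cov_of pb0 qb cl0 cl20 w20r207 _ _ _ (by decide +kernel)
theorem w20r208 : wins P0 Qn 20 543 600 2096552 16 6477428836 = true := by decide +kernel
theorem w20s208 : Cov 20 6477429436 6510974268 :=
  cov_of pb0 qb cl0 cl20 w20r208 _ _ _ (by decide +kernel)
theorem w20r209 : wins P0 Qn 20 616 600 2096552 16 6510973668 = true := by decide +kernel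
theorem w20s209 : Cov 20 6510974268 6544519100 :=
  cov_of pb0 qb cl0 cl20 w20r209 _ _ _ (by decide +kernel)
theorem w20r210 : wins P0 Qn 20 604 600 2096552 16 6544518500 = true := by decide +kernel
theorem w20s210 : Cov 20 6544519100 6578063932 :=
  cov_of pb0 qb cl0 cl20 w20r210 _ _ _ (by decide +kernel)
theorem w20r211 : wins P0 Qn 20 650 600 2096552 16 6578063332 = true := by decide +kernel
theorem w20s211 : Cov 20 6578063932 6611608764 :=
  cov_of pb0 qb cl0 cl20 w20r211 _ _ _ (by decide +kernel)
theorem w20r212 : wins P0 Qn 20 571 600 2096552 16 6611608164 = true := by decide +kernel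
theorem w20s212 : Cov 20 6611608764 6645153596 :=
  cov_of pb0 qb cl0 cl20 w20r212 _ _ _ (by decide +kernel)
theorem w20r213 : wins P0 Qn 20 537 600 2096552 16 6645152996 = true := by decide +kernel
theorem w20s213 : Cov 20 6645153596 6678698428 :=
  cov_of pb0 qb cl0 cl20 w20r213 _ _ _ (by decide +kernel)
theorem w20r214 : wins P0 Qn 20 539 600 2096552 16 6678697828 = true := by decide +kernel
theorem w20s214 : Cov 20 6678698428 6712243260 :=
  cov_of pb0 qb cl0 cl20 w20r214 _ _ _ (by decide +kernel)
theorem w20r215 : wins P0 Qn 20 571 600 2096552 16 6712242660 = true := by decide +kernel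
theorem w20s215 : Cov 20 6712243260 6745788092 :=
  cov_of pb0 qb cl0 cl20 w20r215 _ _ _ (by decide +kernel)
theorem w20r216 : wins P0 Qn 20 737 600 2096552 16 6745787492 = true := by decide +kernel
theorem w20s216 : Cov 20 6745788092 6779332924 :=
  cov_of pb0 qb cl0 cl20 w20r216 _ _ _ (by decide +kernel)
theorem w20r217 : wins P0 Qn 20 590 600 2096552 16 6779332324 = true := by decide +kernel
theorem w20s217 : Cov 20 6779332924 6812877756 :=
  cov_of pb0 qb cl0 cl20 w20r217 _ _ _ (by decide +kernel)
theorem w20r218 : wins P0 Qn 20 717 600 2096552 16 6812877156 = true := by decide +kernel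
theorem w20s218 : Cov 20 6812877756 6846422588 :=
  cov_of pb0 qb cl0 cl20 w20r218 _ _ _ (by decide +kernel)
theorem w20r219 : wins P0 Qn 20 581 600 2096552 16 6846421988 = true := by decide +kernel
theorem w20s219 : Cov 20 6846422588 6879967420 :=
  cov_of pb0 qb cl0 cl20 w20r219 _ _ _ (by decide +kernel)
theorem w20r220 : wins P0 Qn 20 605 600 2096552 16 6879966820 = true := by decide +kernel
theorem w20s220 : Cov 20 6879967420 6913512252 :=
  cov_of pb0 qb cl0 cl20 w20r220 _ _ _ (by decide +kernel)
theorem w20r221 : wins P0 Qn 20 615 600 2096552 16 6913511652 = true := by decide +kernel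
theorem w20s221 : Cov 20 6913512252 6947057084 :=
  cov_of pb0 qb cl0 cl20 w20r221 _ _ _ (by decide +kernel)
theorem w20r222 : wins P0 Qn 20 609 600 2096552 16 6947056484 = true := by decide +kernel
theorem w20s222 : Cov 20 6947057084 6980601916 :=
  cov_of pb0 qb cl0 cl20 w20r222 _ _ _ (by decide +kernel)
theorem w20r223 : wins P0 Qn 20 617 600 2096552 16 6980601316 = true := by decide +kernel
theorem w20s223 : Cov 20 6980601916 7014146748 :=
  cov_of pb0 qb cl0 cl20 w20r223 _ _ _ (by decide +kernel)
theorem w20r224 : wins P0 Qn 20 658 600 2096552 16 7014146148 = true := by decide +kernel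
theorem w20s224 : Cov 20 7014146748 7047691580 :=
  cov_of pb0 qb cl0 cl20 w20r224 _ _ _ (by decide +kernel)
theorem w20r225 : wins P0 Qn 20 568 600 2096552 16 7047690980 = true := by decide +kernel
theorem w20s225 : Cov 20 7047691580 7081236412 :=
  cov_of pb0 qb cl0 cl20 w20r225 _ _ _ (by decide +kernel)
theorem w20r226 : wins P0 Qn 20 591 600 2096552 16 7081235812 = true := by decide +kernel
theorem w20s226 : Cov 20 7081236412 7114781244 :=
  cov_of pb0 qb cl0 cl20 w20r226 _ _ _ (by decide +kernel)
theorem w20r227 : wins P0 Qn 20 577 600 2096552 16 7114780644 = true := by decide +kernel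
theorem w20s227 : Cov 20 7114781244 7148326076 :=
  cov_of pb0 qb cl0 cl20 w20r227 _ _ _ (by decide +kernel)
theorem w20r228 : wins P0 Qn 20 612 600 2096552 16 7148325476 = true := by decide +kernel
theorem w20s228 : Cov 20 7148326076 7181870908 :=
  cov_of pb0 qb cl0 cl20 w20r228 _ _ _ (by decide +kernel)
theorem w20r229 : wins P0 Qn 20 556 600 2096552 16 7181870308 = true := by decide +kernel
theorem w20s229 : Cov 20 7181870908 7215415740 :=
  cov_of pb0 qb cl0 cl20 w20r229 _ _ _ (by decide +kernel)
theorem w20r230 : wins P0 Qn 20 616 600 2096552 16 7215415140 = true := by decide +kernel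
theorem w20s230 : Cov 20 7215415740 7248960572 :=
  cov_of pb0 qb cl0 cl20 w20r230 _ _ _ (by decide +kernel)
theorem w20r231 : wins P0 Qn 20 618 600 2096552 16 7248959972 = true := by decide +kernel
theorem w20s231 : Cov 20 7248960572 7282505404 :=
  cov_of pb0 qb cl0 cl20 w20r231 _ _ _ (by decide +kernel)
theorem w20r232 : wins P0 Qn 20 536 600 2096552 16 7282504804 = true := by decide +kernel
theorem w20s232 : Cov 20 7282505404 7316050236 :=
  cov_of pb0 qb cl0 cl20 w20r232 _ _ _ (by decide +kernel)
theorem w20r233 : wins P0 Qn 20 562 600 2096552 16 7316049636 = true := by decide +kernel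
theorem w20s233 : Cov 20 7316050236 7349595068 :=
  cov_of pb0 qb cl0 cl20 w20r233 _ _ _ (by decide +kernel)
theorem w20r234 : wins P0 Qn 20 555 600 2096552 16 7349594468 = true := by decide +kernel
theorem w20s234 : Cov 20 7349595068 7383139900 :=
  cov_of pb0 qb cl0 cl20 w20r234 _ _ _ (by decide +kernel)
theorem w20r235 : wins P0 Qn 20 559 600 2096552 16 7383139300 = true := by decide +kernel
theorem w20s235 : Cov 20 7383139900 7416684732 :=
  cov_of pb0 qb cl0 cl20 w20r235 _ _ _ (by decide +kernel)
theorem w20r236 : wins P0 Qn 20 563 600 2096552 16 7416684132 = true := by decide +kernel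
theorem w20s236 : Cov 20 7416684732 7450229564 :=
  cov_of pb0 qb cl0 cl20 w20r236 _ _ _ (by decide +kernel)
theorem w20r237 : wins P0 Qn 20 536 600 2096552 16 7450228964 = true := by decide +kernel
theorem w20s237 : Cov 20 7450229564 7483774396 :=
  cov_of pb0 qb cl0 cl20 w20r237 _ _ _ (by decide +kernel)
theorem w20r238 : wins P0 Qn 20 570 600 2096552 16 7483773796 = true := by decide +kernel
theorem w20s238 : Cov 20 7483774396 7517319228 :=
  cov_of pb0 qb cl0 cl20 w20r238 _ _ _ (by decide +kernel)
theorem w20r239 : wins P0 Qn 20 546 600 2096552 16 7517318628 = true := by decide +kernel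
theorem w20s239 : Cov 20 7517319228 7550864060 :=
  cov_of pb0 qb cl0 cl20 w20r239 _ _ _ (by decide +kernel)
theorem w20r240 : wins P0 Qn 20 590 600 2096552 16 7550863460 = true := by decide +kernel
theorem w20s240 : Cov 20 7550864060 7584408892 :=
  cov_of pb0 qb cl0 cl20 w20r240 _ _ _ (by decide +kernel)
theorem w20r241 : wins P0 Qn 20 725 600 2096552 16 7584408292 = true := by decide +kernel
theorem w20s241 : Cov 20 7584408892 7617953724 :=
  cov_of pb0 qb cl0 cl20 w20r241 _ _ _ (by decide +kernel)
theorem w20r242 : wins P0 Qn 20 607 600 2096552 16 7617953124 = true := by decide +kernel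
theorem w20s242 : Cov 20 7617953724 7651498556 :=
  cov_of pb0 qb cl0 cl20 w20r242 _ _ _ (by decide +kernel)
theorem w20r243 : wins P0 Qn 20 542 600 2096552 16 7651497956 = true := by decide +kernel
theorem w20s243 : Cov 20 7651498556 7685043388 :=
  cov_of pb0 qb cl0 cl20 w20r243 _ _ _ (by decide +kernel)
theorem w20r244 : wins P0 Qn 20 663 600 2096552 16 7685042788 = true := by decide +kernel
theorem w20s244 : Cov 20 7685043388 7718588220 :=
  cov_of pb0 qb cl0 cl20 w20r244 _ _ _ (by decide +kernel)
theorem w20r245 : wins P0 Qn 20 601 600 2096552 16 7718587620 = true := by decide +kernel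
theorem w20s245 : Cov 20 7718588220 7752133052 :=
  cov_of pb0 qb cl0 cl20 w20r245 _ _ _ (by decide +kernel)
theorem w20r246 : wins P0 Qn 20 582 600 2096552 16 7752132452 = true := by decide +kernel
theorem w20s246 : Cov 20 7752133052 7785677884 :=
  cov_of pb0 qb cl0 cl20 w20r246 _ _ _ (by decide +kernel)
theorem w20r247 : wins P0 Qn 20 695 600 2096552 16 7785677284 = true := by decide +kernel
theorem w20s247 : Cov 20 7785677884 7819222716 :=
  cov_of pb0 qb cl0 cl20 w20r247 _ _ _ (by decide +kernel)
theorem w20r248 : wins P0 Qn 20 526 600 2096552 16 7819222116 = true := by decide +kernel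
theorem w20s248 : Cov 20 7819222716 7852767548 :=
  cov_of pb0 qb cl0 cl20 w20r248 _ _ _ (by decide +kernel)
theorem w20r249 : wins P0 Qn 20 686 600 2096552 16 7852766948 = true := by decide +kernel
theorem w20s249 : Cov 20 7852767548 7886312380 :=
  cov_of pb0 qb cl0 cl20 w20r249 _ _ _ (by decide +kernel)
theorem w20r250 : wins P0 Qn 20 556 600 2096552 16 7886311780 = true := by decide +kernel
theorem w20s250 : Cov 20 7886312380 7919857212 :=
  cov_of pb0 qb cl0 cl20 w20r250 _ _ _ (by decide +kernel)
theorem w20r251 : wins P0 Qn 20 588 600 2096552 16 7919856612 = true := by decide +kernel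
theorem w20s251 : Cov 20 7919857212 7953402044 :=
  cov_of pb0 qb cl0 cl20 w20r251 _ _ _ (by decide +kernel)
theorem w20r252 : wins P0 Qn 20 569 600 2096552 16 7953401444 = true := by decide +kernel
theorem w20s252 : Cov 20 7953402044 7986946876 :=
  cov_of pb0 qb cl0 cl20 w20r252 _ _ _ (by decide +kernel)
theorem w20r253 : wins P0 Qn 20 574 600 2096552 16 7986946276 = true := by decide +kernel
theorem w20s253 : Cov 20 7986946876 8020491708 :=
  cov_of pb0 qb cl0 cl20 w20r253 _ _ _ (by decide +kernel)
theorem w20r254 : wins P0 Qn 20 571 600 2096552 16 8020491108 = true := by decide +kernel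
theorem w20s254 : Cov 20 8020491708 8054036540 :=
  cov_of pb0 qb cl0 cl20 w20r254 _ _ _ (by decide +kernel)
theorem w20r255 : wins P0 Qn 20 719 600 2096552 16 8054035940 = true := by decide +kernel
theorem w20s255 : Cov 20 8054036540 8087581372 :=
  cov_of pb0 qb cl0 cl20 w20r255 _ _ _ (by decide +kernel)
theorem w20r256 : wins P0 Qn 20 552 600 2096552 16 8087580772 = true := by decide +kernel
theorem w20s256 : Cov 20 8087581372 8121126204 :=
  cov_of pb0 qb cl0 cl20 w20r256 _ _ _ (by decide +kernel)
theorem w20r257 : wins P0 Qn 20 529 600 2096552 16 8121125604 = true := by decide +kernel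
theorem w20s257 : Cov 20 8121126204 8154671036 :=
  cov_of pb0 qb cl0 cl20 w20r257 _ _ _ (by decide +kernel)
theorem w20r258 : wins P0 Qn 20 529 600 2096552 16 8154670436 = true := by decide +kernel
theorem w20s258 : Cov 20 8154671036 8188215868 :=
  cov_of pb0 qb cl0 cl20 w20r258 _ _ _ (by decide +kernel)
theorem w20r259 : wins P0 Qn 20 516 600 2096552 16 8188215268 = true := by decide +kernel
theorem w20s259 : Cov 20 8188215868 8221760700 :=
  cov_of pb0 qb cl0 cl20 w20r259 _ _ _ (by decide +kernel)
theorem w20r260 : wins P0 Qn 20 602 600 2096552 16 8221760100 = true := by decide +kernel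
theorem w20s260 : Cov 20 8221760700 8255305532 :=
  cov_of pb0 qb cl0 cl20 w20r260 _ _ _ (by decide +kernel)
theorem w20r261 : wins P0 Qn 20 624 600 2096552 16 8255304932 = true := by decide +kernel
theorem w20s261 : Cov 20 8255305532 8288850364 :=
  cov_of pb0 qb cl0 cl20 w20r261 _ _ _ (by decide +kernel)
theorem w20r262 : wins P0 Qn 20 633 600 2096552 16 8288849764 = true := by decide +kernel
theorem w20s262 : Cov 20 8288850364 8322395196 :=
  cov_of pb0 qb cl0 cl20 w20r262 _ _ _ (by decide +kernel)
theorem w20r263 : wins P0 Qn 20 473 600 2096552 6 8322394596 = true := by decide +kernel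
theorem w20s263 : Cov 20 8322395196 8334974508 :=
  cov_of pb0 qb cl0 cl20 w20r263 _ _ _ (by decide +kernel)

theorem cov20b : Cov 20 4162836028 8334974508 :=
  ((((((w20s139.app (w20s140.app w20s141)).app ((w20s142.app w20s143).app (w20s144.app w20s145))).app (((w20s146.app w20s147).app (w20s148.app w20s149)).app ((w20s150.app w20s151).app (w20s152.app w20s153)))).app ((((w20s154.app w20s155).app (w20s156.app w20s157)).app ((w20s158.app w20s159).app (w20s160.app w20s161))).app (((w20s162.app w20s163).app (w20s164.app w20s165)).app ((w20s166.app w20s167).app (w20s168.app w20s169))))).app ((((w20s170.app (w20s171.app w20s172)).app ((w20s173.app w20s174).app (w20s175.app w20s176))).app (((w20s177.app w20s178).app (w20s179.app w20s180)).app ((w20s181.app w20s182).app (w20s183.app w20s184)))).app ((((w20s185.app w20s186).app (w20s187.app w20s188)).app ((w20s189.app w20s190).app (w20s191.app w20s192))).app (((w20s193.app w20s194).app (w20s195.app w20s196)).app ((w20s197.app w20s198).app (w20s199.app w20s200)))))).app (((((w20s201.app (w20s202.app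 w20s203)).app ((w20s204.app w20s205).app (w20s206.app w20s207))).app (((w20s208.app w20s209).app (w20s210.app w20s211)).app ((w20s212.app w20s213).app (w20s214.app w20s215)))).app ((((w20s216.app w20s217).app (w20s218.app w20s219)).app ((w20s220.app w20s221).app (w20s222.app w20s223))).app (((w20s224.app w20s225).app (w20s226.app w20s227)).app ((w20s228.app w20s229).app (w20s230.app w20s231))))).app (((((w20s232.app w20s233).app (w20s234.app w20s235)).app ((w20s236.app w20s237).app (w20s238.app w20s239))).app (((w20s240.app w20s241).app (w20s242.app w20s243)).app ((w20s244.app w20s245).app (w20s246.app w20s247)))).app ((((w20s248.app w20s249).app (w20s250.app w20s251)).app ((w20s252.app w20s253).app (w20s254.app w20s255))).app (((w20s256.app w20s257).app (w20s258.app w20s259)).app ((w20s260.app w20s261).app (w20s262.app w20s263)))))))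

end Cfsg.Agent.Depth.F
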