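import Cfsg.Agent.Depth.F.P12
import Cfsg.Agent.Depth.F.Q

/-! The numbers `30 M + 24` as sums `(p + 1) + (q + 1)`, part 1. -/

set_option autoImplicit false
set_option Elab.async false

namespace Cfsg.Agent.Depth.F

theorem w24r0 : wins P12 (Nat.factorial 708) 12 13 30 100 1 130 = true := by decide +kernel
theorem w24s0 : Cov 24 160 260 :=
  cov_of pb12 qb0 cl12 cl12 w24r0 _ _ _ (by decide +kernel)
theorem w24r1 : wins P12 (Nat.factorial 708) 12 27 30 200 1 230 = true := by decide +kernel
theorem w24s1 : Cov 24 260 460 :=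
  cov_of pb12 qb0 cl12 cl12 w24r1 _ _ _ (by decide +kernel)
theorem w24r2 : wins P12 (Nat.factorial 708) 12 28 30 400 1 430 = true := by decide +kernel
theorem w24s2 : Cov 24 460 860 :=
  cov_of pb12 qb0 cl12 cl12 w24r2 _ _ _ (by decide +kernel)
theorem w24r3 : wins P12 (Nat.factorial 708) 12 54 30 800 1 830 = true := by decide +kernel
theorem w24s3 : Cov 24 860 1660 :=
  cov_of pb12 qb0 cl12 cl12 w24r3 _ _ _ (by decide +kernel)
theorem w24r4 : wins P12 (Nat.factorial 708) 12 46 30 1600 1 1630 = true := by decide +kernel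
theorem w24s4 : Cov 24 1660 3260 :=
  cov_of pb12 qb0 cl12 cl12 w24r4 _ _ _ (by decide +kernel)
theorem w24r5 : wins P12 (Nat.factorial 708) 12 61 30 3200 1 3230 = true := by decide +kernel
theorem w24s5 : Cov 24 3260 6460 :=
  cov_of pb12 qb0 cl12 cl12 w24r5 _ _ _ (by decide +kernel)
theorem w24r6 : wins P12 (Nat.factorial 708) 12 81 30 6400 1 6430 = true := by decide +kernel
theorem w24s6 : Cov 24 6460 12860 :=
  cov_of pb12 qb0 cl12 cl12 w24r6 _ _ _ (by decide +kernel)
theorem w24r7 : wins P12 (Nat.factorial 708) 12 83 30 12800 1 12830 = true := by decide +kernel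
theorem w24s7 : Cov 24 12860 25660 :=
  cov_of pb12 qb0 cl12 cl12 w24r7 _ _ _ (by decide +kernel)
theorem w24r8 : wins P12 Qn 12 103 30 25600 1 25630 = true := by decide +kernel
theorem w24s8 : Cov 24 25660 51260 :=
  cov_of pb12 qb cl12 cl12 w24r8 _ _ _ (by decide +kernel)
theorem w24r9 : wins P12 Qn 12 133 30 51200 1 51230 = true := by decide +kernel
theorem w24s9 : Cov 24 51260 102460 :=
  cov_of pb12 qb cl12 cl12 w24r9 _ _ _ (by decide +kernel)
theorem w24r10 : wins P12 Qn 12 205 30 102400 1 102430 = true := by decide +kernel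
theorem w24s10 : Cov 24 102460 204860 :=
  cov_of pb12 qb cl12 cl12 w24r10 _ _ _ (by decide +kernel)
theorem w24r11 : wins P12 Qn 12 231 30 204800 1 204830 = true := by decide +kernel
theorem w24s11 : Cov 24 204860 409660 :=
  cov_of pb12 qb cl12 cl12 w24r11 _ _ _ (by decide +kernel)
theorem w24r12 : wins P12 Qn 12 293 30 409600 1 409630 = true := by decide +kernel
theorem w24s12 : Cov 24 409660 819260 :=
  cov_of pb12 qb cl12 cl12 w24r12 _ _ _ (by decide +kernel)
theorem w24r13 : wins P12 Qn 12 256 30 819200 1 819230 = true := by decide +kernel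
theorem w24s13 : Cov 24 819260 1638460 :=
  cov_of pb12 qb cl12 cl12 w24r13 _ _ _ (by decide +kernel)
theorem w24r14 : wins P12 Qn 12 277 30 1638400 1 1638430 = true := by decide +kernel
theorem w24s14 : Cov 24 1638460 3276860 :=
  cov_of pb12 qb cl12 cl12 w24r14 _ _ _ (by decide +kernel)
theorem w24r15 : wins P12 Qn 12 428 600 2096552 16 3276260 = true := by decide +kernel
theorem w24s15 : Cov 24 3276860 36821692 :=
  cov_of pb12 qb cl12 cl12 w24r15 _ _ _ (by decide +kernel)
theorem w24r16 : wins P12 Qn 12 492 600 2096552 16 36821092 = true := by decide +kernel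
theorem w24s16 : Cov 24 36821692 70366524 :=
  cov_of pb12 qb cl12 cl12 w24r16 _ _ _ (by decide +kernel)
theorem w24r17 : wins P12 Qn 12 551 600 2096552 16 70365924 = true := by decide +kernel
theorem w24s17 : Cov 24 70366524 103911356 :=
  cov_of pb12 qb cl12 cl12 w24r17 _ _ _ (by decide +kernel)
theorem w24r18 : wins P12 Qn 12 620 600 2096552 16 103910756 = true := by decide +kernel
theorem w24s18 : Cov 24 103911356 137456188 :=
  cov_of pb12 qb cl12 cl12 w24r18 _ _ _ (by decide +kernel)
theorem w24r19 : wins P12 Qn 12 491 600 2096552 16 137455588 = true := by decide +kernel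
theorem w24s19 : Cov 24 137456188 171001020 :=
  cov_of pb12 qb cl12 cl12 w24r19 _ _ _ (by decide +kernel)
theorem w24r20 : wins P12 Qn 12 505 600 2096552 16 171000420 = true := by decide +kernel
theorem w24s20 : Cov 24 171001020 204545852 :=
  cov_of pb12 qb cl12 cl12 w24r20 _ _ _ (by decide +kernel)
theorem w24r21 : wins P12 Qn 12 565 600 2096552 16 204545252 = true := by decide +kernel
theorem w24s21 : Cov 24 204545852 238090684 :=
  cov_of pb12 qb cl12 cl12 w24r21 _ _ _ (by decide +kernel)
theorem w24r22 : wins P12 Qn 12 623 600 2096552 16 238090084 = true := by decide +kernel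
theorem w24s22 : Cov 24 238090684 271635516 :=
  cov_of pb12 qb cl12 cl12 w24r22 _ _ _ (by decide +kernel)
theorem w24r23 : wins P12 Qn 12 485 600 2096552 16 271634916 = true := by decide +kernel
theorem w24s23 : Cov 24 271635516 305180348 :=
  cov_of pb12 qb cl12 cl12 w24r23 _ _ _ (by decide +kernel)
theorem w24r24 : wins P12 Qn 12 555 600 2096552 16 305179748 = true := by decide +kernel
theorem w24s24 : Cov 24 305180348 338725180 :=
  cov_of pb12 qb cl12 cl12 w24r24 _ _ _ (by decide +kernel)
theorem w24r25 : wins P12 Qn 12 569 600 2096552 16 338724580 = true := by decide +kernel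
theorem w24s25 : Cov 24 338725180 372270012 :=
  cov_of pb12 qb cl12 cl12 w24r25 _ _ _ (by decide +kernel)
theorem w24r26 : wins P12 Qn 12 519 600 2096552 16 372269412 = true := by decide +kernel
theorem w24s26 : Cov 24 372270012 405814844 :=
  cov_of pb12 qb cl12 cl12 w24r26 _ _ _ (by decide +kernel)
theorem w24r27 : wins P12 Qn 12 541 600 2096552 16 405814244 = true := by decide +kernel
theorem w24s27 : Cov 24 405814844 439359676 :=
  cov_of pb12 qb cl12 cl12 w24r27 _ _ _ (by decide +kernel)
theorem w24r28 : wins P12 Qn 12 514 600 2096552 16 439359076 = true := by decide +kernel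
theorem w24s28 : Cov 24 439359676 472904508 :=
  cov_of pb12 qb cl12 cl12 w24r28 _ _ _ (by decide +kernel)
theorem w24r29 : wins P12 Qn 12 571 600 2096552 16 472903908 = true := by decide +kernel
theorem w24s29 : Cov 24 472904508 506449340 :=
  cov_of pb12 qb cl12 cl12 w24r29 _ _ _ (by decide +kernel)
theorem w24r30 : wins P12 Qn 12 492 600 2096552 16 506448740 = true := by decide +kernel
theorem w24s30 : Cov 24 506449340 539994172 :=
  cov_of pb12 qb cl12 cl12 w24r30 _ _ _ (by decide +kernel)
theorem w24r31 : wins P12 Qn 12 502 600 2096552 16 539993572 = true := by decide +kernel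
theorem w24s31 : Cov 24 539994172 573539004 :=
  cov_of pb12 qb cl12 cl12 w24r31 _ _ _ (by decide +kernel)
theorem w24r32 : wins P12 Qn 12 595 600 2096552 16 573538404 = true := by decide +kernel
theorem w24s32 : Cov 24 573539004 607083836 :=
  cov_of pb12 qb cl12 cl12 w24r32 _ _ _ (by decide +kernel)
theorem w24r33 : wins P12 Qn 12 550 600 2096552 16 607083236 = true := by decide +kernel
theorem w24s33 : Cov 24 607083836 640628668 :=
  cov_of pb12 qb cl12 cl12 w24r33 _ _ _ (by decide +kernel)
theorem w24r34 : wins P12 Qn 12 612 600 2096552 16 640628068 = true := by decide +kernel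
theorem w24s34 : Cov 24 640628668 674173500 :=
  cov_of pb12 qb cl12 cl12 w24r34 _ _ _ (by decide +kernel)
theorem w24r35 : wins P12 Qn 12 542 600 2096552 16 674172900 = true := by decide +kernel
theorem w24s35 : Cov 24 674173500 707718332 :=
  cov_of pb12 qb cl12 cl12 w24r35 _ _ _ (by decide +kernel)
theorem w24r36 : wins P12 Qn 12 514 600 2096552 16 707717732 = true := by decide +kernel
theorem w24s36 : Cov 24 707718332 741263164 :=
  cov_of pb12 qb cl12 cl12 w24r36 _ _ _ (by decide +kernel)
theorem w24r37 : wins P12 Qn 12 445 600 2096552 16 741262564 = true := by decide +kernel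
theorem w24s37 : Cov 24 741263164 774807996 :=
  cov_of pb12 qb cl12 cl12 w24r37 _ _ _ (by decide +kernel)
theorem w24r38 : wins P12 Qn 12 596 600 2096552 16 774807396 = true := by decide +kernel
theorem w24s38 : Cov 24 774807996 808352828 :=
  cov_of pb12 qb cl12 cl12 w24r38 _ _ _ (by decide +kernel)
theorem w24r39 : wins P12 Qn 12 569 600 2096552 16 808352228 = true := by decide +kernel
theorem w24s39 : Cov 24 808352828 841897660 :=
  cov_of pb12 qb cl12 cl12 w24r39 _ _ _ (by decide +kernel)
theorem w24r40 : wins P12 Qn 12 493 600 2096552 16 841897060 = true := by decide +kernel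
theorem w24s40 : Cov 24 841897660 875442492 :=
  cov_of pb12 qb cl12 cl12 w24r40 _ _ _ (by decide +kernel)
theorem w24r41 : wins P12 Qn 12 513 600 2096552 16 875441892 = true := by decide +kernel
theorem w24s41 : Cov 24 875442492 908987324 :=
  cov_of pb12 qb cl12 cl12 w24r41 _ _ _ (by decide +kernel)
theorem w24r42 : wins P12 Qn 12 541 600 2096552 16 908986724 = true := by decide +kernel
theorem w24s42 : Cov 24 908987324 942532156 :=
  cov_of pb12 qb cl12 cl12 w24r42 _ _ _ (by decide +kernel)
theorem w24r43 : wins P12 Qn 12 591 600 2096552 16 942531556 = true := by decide +kernel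
theorem w24s43 : Cov 24 942532156 976076988 :=
  cov_of pb12 qb cl12 cl12 w24r43 _ _ _ (by decide +kernel)
theorem w24r44 : wins P12 Qn 12 576 600 2096552 16 976076388 = true := by decide +kernel
theorem w24s44 : Cov 24 976076988 1009621820 :=
  cov_of pb12 qb cl12 cl12 w24r44 _ _ _ (by decide +kernel)
theorem w24r45 : wins P12 Qn 12 488 600 2096552 16 1009621220 = true := by decide +kernel
theorem w24s45 : Cov 24 1009621820 1043166652 :=
  cov_of pb12 qb cl12 cl12 w24r45 _ _ _ (by decide +kernel)
theorem w24r46 : wins P12 Qn 12 630 600 2096552 16 1043166052 = true := by decide +kernel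
theorem w24s46 : Cov 24 1043166652 1076711484 :=
  cov_of pb12 qb cl12 cl12 w24r46 _ _ _ (by decide +kernel)
theorem w24r47 : wins P12 Qn 12 537 600 2096552 16 1076710884 = true := by decide +kernel
theorem w24s47 : Cov 24 1076711484 1110256316 :=
  cov_of pb12 qb cl12 cl12 w24r47 _ _ _ (by decide +kernel)
theorem w24r48 : wins P12 Qn 12 477 600 2096552 16 1110255716 = true := by decide +kernel
theorem w24s48 : Cov 24 1110256316 1143801148 :=
  cov_of pb12 qb cl12 cl12 w24r48 _ _ _ (by decide +kernel)
theorem w24r49 : wins P12 Qn 12 576 600 2096552 16 1143800548 = true := by decide +kernel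
theorem w24s49 : Cov 24 1143801148 1177345980 :=
  cov_of pb12 qb cl12 cl12 w24r49 _ _ _ (by decide +kernel)
theorem w24r50 : wins P12 Qn 12 580 600 2096552 16 1177345380 = true := by decide +kernel
theorem w24s50 : Cov 24 1177345980 1210890812 :=
  cov_of pb12 qb cl12 cl12 w24r50 _ _ _ (by decide +kernel)
theorem w24r51 : wins P12 Qn 12 546 600 2096552 16 1210890212 = true := by decide +kernel
theorem w24s51 : Cov 24 1210890812 1244435644 :=
  cov_of pb12 qb cl12 cl12 w24r51 _ _ _ (by decide +kernel)
theorem w24r52 : wins P12 Qn 12 511 600 2096552 16 1244435044 = true := by decide +kernel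
theorem w24s52 : Cov 24 1244435644 1277980476 :=
  cov_of pb12 qb cl12 cl12 w24r52 _ _ _ (by decide +kernel)
theorem w24r53 : wins P12 Qn 12 532 600 2096552 16 1277979876 = true := by decide +kernel
theorem w24s53 : Cov 24 1277980476 1311525308 :=
  cov_of pb12 qb cl12 cl12 w24r53 _ _ _ (by decide +kernel)
theorem w24r54 : wins P12 Qn 12 556 600 2096552 16 1311524708 = true := by decide +kernel
theorem w24s54 : Cov 24 1311525308 1345070140 :=
  cov_of pb12 qb cl12 cl12 w24r54 _ _ _ (by decide +kernel)
theorem w24r55 : wins P12 Qn 12 524 600 2096552 16 1345069540 = true := by decide +kernel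
theorem w24s55 : Cov 24 1345070140 1378614972 :=
  cov_of pb12 qb cl12 cl12 w24r55 _ _ _ (by decide +kernel)
theorem w24r56 : wins P12 Qn 12 587 600 2096552 16 1378614372 = true := by decide +kernel
theorem w24s56 : Cov 24 1378614972 1412159804 :=
  cov_of pb12 qb cl12 cl12 w24r56 _ _ _ (by decide +kernel)
theorem w24r57 : wins P12 Qn 12 531 600 2096552 16 1412159204 = true := by decide +kernel
theorem w24s57 : Cov 24 1412159804 1445704636 :=
  cov_of pb12 qb cl12 cl12 w24r57 _ _ _ (by decide +kernel)
theorem w24r58 : wins P12 Qn 12 595 600 2096552 16 1445704036 = true := by decide +kernel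
theorem w24s58 : Cov 24 1445704636 1479249468 :=
  cov_of pb12 qb cl12 cl12 w24r58 _ _ _ (by decide +kernel)
theorem w24r59 : wins P12 Qn 12 593 600 2096552 16 1479248868 = true := by decide +kernel
theorem w24s59 : Cov 24 1479249468 1512794300 :=
  cov_of pb12 qb cl12 cl12 w24r59 _ _ _ (by decide +kernel)
theorem w24r60 : wins P12 Qn 12 527 600 2096552 16 1512793700 = true := by decide +kernel
theorem w24s60 : Cov 24 1512794300 1546339132 :=
  cov_of pb12 qb cl12 cl12 w24r60 _ _ _ (by decide +kernel)
theorem w24r61 : wins P12 Qn 12 527 600 2096552 16 1546338532 = true := by decide +kernel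
theorem w24s61 : Cov 24 1546339132 1579883964 :=
  cov_of pb12 qb cl12 cl12 w24r61 _ _ _ (by decide +kernel)
theorem w24r62 : wins P12 Qn 12 570 600 2096552 16 1579883364 = true := by decide +kernel
theorem w24s62 : Cov 24 1579883964 1613428796 :=
  cov_of pb12 qb cl12 cl12 w24r62 _ _ _ (by decide +kernel)
theorem w24r63 : wins P12 Qn 12 501 600 2096552 16 1613428196 = true := by decide +kernel
theorem w24s63 : Cov 24 1613428796 1646973628 :=
  cov_of pb12 qb cl12 cl12 w24r63 _ _ _ (by decide +kernel)
theorem w24r64 : wins P12 Qn 12 531 600 2096552 16 1646973028 = true := by decide +kernel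
theorem w24s64 : Cov 24 1646973628 1680518460 :=
  cov_of pb12 qb cl12 cl12 w24r64 _ _ _ (by decide +kernel)
theorem w24r65 : wins P12 Qn 12 615 600 2096552 16 1680517860 = true := by decide +kernel
theorem w24s65 : Cov 24 1680518460 1714063292 :=
  cov_of pb12 qb cl12 cl12 w24r65 _ _ _ (by decide +kernel)
theorem w24r66 : wins P12 Qn 12 451 600 2096552 16 1714062692 = true := by decide +kernel
theorem w24s66 : Cov 24 1714063292 1747608124 :=
  cov_of pb12 qb cl12 cl12 w24r66 _ _ _ (by decide +kernel)
theorem w24r67 : wins P12 Qn 12 510 600 2096552 16 1747607524 = true := by decide +kernel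
theorem w24s67 : Cov 24 1747608124 1781152956 :=
  cov_of pb12 qb cl12 cl12 w24r67 _ _ _ (by decide +kernel)
theorem w24r68 : wins P12 Qn 12 568 600 2096552 16 1781152356 = true := by decide +kernel
theorem w24s68 : Cov 24 1781152956 1814697788 :=
  cov_of pb12 qb cl12 cl12 w24r68 _ _ _ (by decide +kernel)
theorem w24r69 : wins P12 Qn 12 570 600 2096552 16 1814697188 = true := by decide +kernel
theorem w24s69 : Cov 24 1814697788 1848242620 :=
  cov_of pb12 qb cl12 cl12 w24r69 _ _ _ (by decide +kernel)
theorem w24r70 : wins P12 Qn 12 550 600 2096552 16 1848242020 = true := by decide +kernel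
theorem w24s70 : Cov 24 1848242620 1881787452 :=
  cov_of pb12 qb cl12 cl12 w24r70 _ _ _ (by decide +kernel)
theorem w24r71 : wins P12 Qn 12 557 600 2096552 16 1881786852 = true := by decide +kernel
theorem w24s71 : Cov 24 1881787452 1915332284 :=
  cov_of pb12 qb cl12 cl12 w24r71 _ _ _ (by decide +kernel)
theorem w24r72 : wins P12 Qn 12 519 600 2096552 16 1915331684 = true := by decide +kernel
theorem w24s72 : Cov 24 1915332284 1948877116 :=
  cov_of pb12 qb cl12 cl12 w24r72 _ _ _ (by decide +kernel)
theorem w24r73 : wins P12 Qn 12 609 600 2096552 16 1948876516 = true := by decide +kernel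
theorem w24s73 : Cov 24 1948877116 1982421948 :=
  cov_of pb12 qb cl12 cl12 w24r73 _ _ _ (by decide +kernel)
theorem w24r74 : wins P12 Qn 12 601 600 2096552 16 1982421348 = true := by decide +kernel
theorem w24s74 : Cov 24 1982421948 2015966780 :=
  cov_of pb12 qb cl12 cl12 w24r74 _ _ _ (by decide +kernel)
theorem w24r75 : wins P12 Qn 12 525 600 2096552 16 2015966180 = true := by decide +kernel
theorem w24s75 : Cov 24 2015966780 2049511612 :=
  cov_of pb12 qb cl12 cl12 w24r75 _ _ _ (by decide +kernel)
theorem w24r76 : wins P12 Qn 12 552 600 2096552 16 2049511012 = true := by decide +kernel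
theorem w24s76 : Cov 24 2049511612 2083056444 :=
  cov_of pb12 qb cl12 cl12 w24r76 _ _ _ (by decide +kernel)
theorem w24r77 : wins P12 Qn 12 515 600 2096552 16 2083055844 = true := by decide +kernel
theorem w24s77 : Cov 24 2083056444 2116601276 :=
  cov_of pb12 qb cl12 cl12 w24r77 _ _ _ (by decide +kernel)
theorem w24r78 : wins P12 Qn 12 677 600 2096552 16 2116600676 = true := by decide +kernel
theorem w24s78 : Cov 24 2116601276 2150146108 :=
  cov_of pb12 qb cl12 cl12 w24r78 _ _ _ (by decide +kernel)
theorem w24r79 : wins P12 Qn 12 561 600 2096552 16 2150145508 = true := by decide +kernel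
theorem w24s79 : Cov 24 2150146108 2183690940 :=
  cov_of pb12 qb cl12 cl12 w24r79 _ _ _ (by decide +kernel)
theorem w24r80 : wins P12 Qn 12 486 600 2096552 16 2183690340 = true := by decide +kernel
theorem w24s80 : Cov 24 2183690940 2217235772 :=
  cov_of pb12 qb cl12 cl12 w24r80 _ _ _ (by decide +kernel)
theorem w24r81 : wins P12 Qn 12 491 600 2096552 16 2217235172 = true := by decide +kernel
theorem w24s81 : Cov 24 2217235772 2250780604 :=
  cov_of pb12 qb cl12 cl12 w24r81 _ _ _ (by decide +kernel)
theorem w24r82 : wins P12 Qn 12 605 600 2096552 16 2250780004 = true := by decide +kernel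
theorem w24s82 : Cov 24 2250780604 2284325436 :=
  cov_of pb12 qb cl12 cl12 w24r82 _ _ _ (by decide +kernel)
theorem w24r83 : wins P12 Qn 12 561 600 2096552 16 2284324836 = true := by decide +kernel
theorem w24s83 : Cov 24 2284325436 2317870268 :=
  cov_of pb12 qb cl12 cl12 w24r83 _ _ _ (by decide +kernel)
theorem w24r84 : wins P12 Qn 12 584 600 2096552 16 2317869668 = true := by decide +kernel
theorem w24s84 : Cov 24 2317870268 2351415100 :=
  cov_of pb12 qb cl12 cl12 w24r84 _ _ _ (by decide +kernel)
theorem w24r85 : wins P12 Qn 12 570 600 2096552 16 2351414500 = true := by decide +kernel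
theorem w24s85 : Cov 24 2351415100 2384959932 :=
  cov_of pb12 qb cl12 cl12 w24r85 _ _ _ (by decide +kernel)
theorem w24r86 : wins P12 Qn 12 634 600 2096552 16 2384959332 = true := by decide +kernel
theorem w24s86 : Cov 24 2384959932 2418504764 :=
  cov_of pb12 qb cl12 cl12 w24r86 _ _ _ (by decide +kernel)
theorem w24r87 : wins P12 Qn 12 555 600 2096552 16 2418504164 = true := by decide +kernel
theorem w24s87 : Cov 24 2418504764 2452049596 :=
  cov_of pb12 qb cl12 cl12 w24r87 _ _ _ (by decide +kernel)
theorem w24r88 : wins P12 Qn 12 622 600 2096552 16 2452048996 = true := by decide +kernel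
theorem w24s88 : Cov 24 2452049596 2485594428 :=
  cov_of pb12 qb cl12 cl12 w24r88 _ _ _ (by decide +kernel)
theorem w24r89 : wins P12 Qn 12 525 600 2096552 16 2485593828 = true := by decide +kernel
theorem w24s89 : Cov 24 2485594428 2519139260 :=
  cov_of pb12 qb cl12 cl12 w24r89 _ _ _ (by decide +kernel)
theorem w24r90 : wins P12 Qn 12 589 600 2096552 16 2519138660 = true := by decide +kernel
theorem w24s90 : Cov 24 2519139260 2552684092 :=
  cov_of pb12 qb cl12 cl12 w24r90 _ _ _ (by decide +kernel)
theorem w24r91 : wins P12 Qn 12 509 600 2096552 16 2552683492 = true := by decide +kernel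
theorem w24s91 : Cov 24 2552684092 2586228924 :=
  cov_of pb12 qb cl12 cl12 w24r91 _ _ _ (by decide +kernel)
theorem w24r92 : wins P12 Qn 12 675 600 2096552 16 2586228324 = true := by decide +kernel
theorem w24s92 : Cov 24 2586228924 2619773756 :=
  cov_of pb12 qb cl12 cl12 w24r92 _ _ _ (by decide +kernel)
theorem w24r93 : wins P12 Qn 12 539 600 2096552 16 2619773156 = true := by decide +kernel
theorem w24s93 : Cov 24 2619773756 2653318588 :=
  cov_of pb12 qb cl12 cl12 w24r93 _ _ _ (by decide +kernel)
theorem w24r94 : wins P12 Qn 12 527 600 2096552 16 2653317988 = true := by decide +kernel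
theorem w24s94 : Cov 24 2653318588 2686863420 :=
  cov_of pb12 qb cl12 cl12 w24r94 _ _ _ (by decide +kernel)
theorem w24r95 : wins P12 Qn 12 533 600 2096552 16 2686862820 = true := by decide +kernel
theorem w24s95 : Cov 24 2686863420 2720408252 :=
  cov_of pb12 qb cl12 cl12 w24r95 _ _ _ (by decide +kernel)
theorem w24r96 : wins P12 Qn 12 565 600 2096552 16 2720407652 = true := by decide +kernel
theorem w24s96 : Cov 24 2720408252 2753953084 :=
  cov_of pb12 qb cl12 cl12 w24r96 _ _ _ (by decide +kernel)
theorem w24r97 : wins P12 Qn 12 650 600 2096552 16 2753952484 = true := by decide +kernel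
theorem w24s97 : Cov 24 2753953084 2787497916 :=
  cov_of pb12 qb cl12 cl12 w24r97 _ _ _ (by decide +kernel)
theorem w24r98 : wins P12 Qn 12 521 600 2096552 16 2787497316 = true := by decide +kernel
theorem w24s98 : Cov 24 2787497916 2821042748 :=
  cov_of pb12 qb cl12 cl12 w24r98 _ _ _ (by decide +kernel)
theorem w24r99 : wins P12 Qn 12 568 600 2096552 16 2821042148 = true := by decide +kernel
theorem w24s99 : Cov 24 2821042748 2854587580 :=
  cov_of pb12 qb cl12 cl12 w24r99 _ _ _ (by decide +kernel)
theorem w24r100 : wins P12 Qn 12 578 600 2096552 16 2854586980 = true := by decide +kernel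
theorem w24s100 : Cov 24 2854587580 2888132412 :=
  cov_of pb12 qb cl12 cl12 w24r100 _ _ _ (by decide +kernel)
theorem w24r101 : wins P12 Qn 12 575 600 2096552 16 2888131812 = true := by decide +kernel
theorem w24s101 : Cov 24 2888132412 2921677244 :=
  cov_of pb12 qb cl12 cl12 w24r101 _ _ _ (by decide +kernel)
theorem w24r102 : wins P12 Qn 12 557 600 2096552 16 2921676644 = true := by decide +kernel
theorem w24s102 : Cov 24 2921677244 2955222076 :=
  cov_of pb12 qb cl12 cl12 w24r102 _ _ _ (by decide +kernel)
theorem w24r103 : wins P12 Qn 12 593 600 2096552 16 2955221476 = true := by decide +kernel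
theorem w24s103 : Cov 24 2955222076 2988766908 :=
  cov_of pb12 qb cl12 cl12 w24r103 _ _ _ (by decide +kernel)
theorem w24r104 : wins P12 Qn 12 580 600 2096552 16 2988766308 = true := by decide +kernel
theorem w24s104 : Cov 24 2988766908 3022311740 :=
  cov_of pb12 qb cl12 cl12 w24r104 _ _ _ (by decide +kernel)
theorem w24r105 : wins P12 Qn 12 606 600 2096552 16 3022311140 = true := by decide +kernel
theorem w24s105 : Cov 24 3022311740 3055856572 :=
  cov_of pb12 qb cl12 cl12 w24r105 _ _ _ (by decide +kernel)
theorem w24r106 : wins P12 Qn 12 634 600 2096552 16 3055855972 = true := by decide +kernel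
theorem w24s106 : Cov 24 3055856572 3089401404 :=
  cov_of pb12 qb cl12 cl12 w24r106 _ _ _ (by decide +kernel)
theorem w24r107 : wins P12 Qn 12 592 600 2096552 16 3089400804 = true := by decide +kernel
theorem w24s107 : Cov 24 3089401404 3122946236 :=
  cov_of pb12 qb cl12 cl12 w24r107 _ _ _ (by decide +kernel)
theorem w24r108 : wins P12 Qn 12 540 600 2096552 16 3122945636 = true := by decide +kernel
theorem w24s108 : Cov 24 3122946236 3156491068 :=
  cov_of pb12 qb cl12 cl12 w24r108 _ _ _ (by decide +kernel)
theorem w24r109 : wins P12 Qn 12 526 600 2096552 16 3156490468 = true := by decide +kernel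
theorem w24s109 : Cov 24 3156491068 3190035900 :=
  cov_of pb12 qb cl12 cl12 w24r109 _ _ _ (by decide +kernel)
theorem w24r110 : wins P12 Qn 12 611 600 2096552 16 3190035300 = true := by decide +kernel
theorem w24s110 : Cov 24 3190035900 3223580732 :=
  cov_of pb12 qb cl12 cl12 w24r110 _ _ _ (by decide +kernel)
theorem w24r111 : wins P12 Qn 12 506 600 2096552 16 3223580132 = true := by decide +kernel
theorem w24s111 : Cov 24 3223580732 3257125564 :=
  cov_of pb12 qb cl12 cl12 w24r111 _ _ _ (by decide +kernel)
theorem w24r112 : wins P12 Qn 12 679 600 2096552 16 3257124964 = true := by decide +kernel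
theorem w24s112 : Cov 24 3257125564 3290670396 :=
  cov_of pb12 qb cl12 cl12 w24r112 _ _ _ (by decide +kernel)
theorem w24r113 : wins P12 Qn 12 544 600 2096552 16 3290669796 = true := by decide +kernel
theorem w24s113 : Cov 24 3290670396 3324215228 :=
  cov_of pb12 qb cl12 cl12 w24r113 _ _ _ (by decide +kernel)
theorem w24r114 : wins P12 Qn 12 512 600 2096552 16 3324214628 = true := by decide +kernel
theorem w24s114 : Cov 24 3324215228 3357760060 :=
  cov_of pb12 qb cl12 cl12 w24r114 _ _ _ (by decide +kernel)
theorem w24r115 : wins P12 Qn 12 535 600 2096552 16 3357759460 = true := by decide +kernel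
theorem w24s115 : Cov 24 3357760060 3391304892 :=
  cov_of pb12 qb cl12 cl12 w24r115 _ _ _ (by decide +kernel)
theorem w24r116 : wins P12 Qn 12 538 600 2096552 16 3391304292 = true := by decide +kernel
theorem w24s116 : Cov 24 3391304892 3424849724 :=
  cov_of pb12 qb cl12 cl12 w24r116 _ _ _ (by decide +kernel)
theorem w24r117 : wins P12 Qn 12 648 600 2096552 16 3424849124 = true := by decide +kernel
theorem w24s117 : Cov 24 3424849724 3458394556 :=
  cov_of pb12 qb cl12 cl12 w24r117 _ _ _ (by decide +kernel)
theorem w24r118 : wins P12 Qn 12 611 600 2096552 16 3458393956 = true := by decide +kernel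
theorem w24s118 : Cov 24 3458394556 3491939388 :=
  cov_of pb12 qb cl12 cl12 w24r118 _ _ _ (by decide +kernel)
theorem w24r119 : wins P12 Qn 12 612 600 2096552 16 3491938788 = true := by decide +kernel
theorem w24s119 : Cov 24 3491939388 3525484220 :=
  cov_of pb12 qb cl12 cl12 w24r119 _ _ _ (by decide +kernel)
theorem w24r120 : wins P12 Qn 12 554 600 2096552 16 3525483620 = true := by decide +kernel
theorem w24s120 : Cov 24 3525484220 3559029052 :=
  cov_of pb12 qb cl12 cl12 w24r120 _ _ _ (by decide +kernel)
theorem w24r121 : wins P12 Qn 12 573 600 2096552 16 3559028452 = true := by decide +kernel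
theorem w24s121 : Cov 24 3559029052 3592573884 :=
  cov_of pb12 qb cl12 cl12 w24r121 _ _ _ (by decide +kernel)
theorem w24r122 : wins P12 Qn 12 507 600 2096552 16 3592573284 = true := by decide +kernel
theorem w24s122 : Cov 24 3592573884 3626118716 :=
  cov_of pb12 qb cl12 cl12 w24r122 _ _ _ (by decide +kernel)
theorem w24r123 : wins P12 Qn 12 545 600 2096552 16 3626118116 = true := by decide +kernel
theorem w24s123 : Cov 24 3626118716 3659663548 :=
  cov_of pb12 qb cl12 cl12 w24r123 _ _ _ (by decide +kernel)
theorem w24r124 : wins P12 Qn 12 567 600 2096552 16 3659662948 = true := by decide +kernel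
theorem w24s124 : Cov 24 3659663548 3693208380 :=
  cov_of pb12 qb cl12 cl12 w24r124 _ _ _ (by decide +kernel)
theorem w24r125 : wins P12 Qn 12 549 600 2096552 16 3693207780 = true := by decide +kernel
theorem w24s125 : Cov 24 3693208380 3726753212 :=
  cov_of pb12 qb cl12 cl12 w24r125 _ _ _ (by decide +kernel)
theorem w24r126 : wins P12 Qn 12 542 600 2096552 16 3726752612 = true := by decide +kernel
theorem w24s126 : Cov 24 3726753212 3760298044 :=
  cov_of pb12 qb cl12 cl12 w24r126 _ _ _ (by decide +kernel)
theorem w24r127 : wins P12 Qn 12 553 600 2096552 16 3760297444 = true := by decide +kernel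
theorem w24s127 : Cov 24 3760298044 3793842876 :=
  cov_of pb12 qb cl12 cl12 w24r127 _ _ _ (by decide +kernel)
theorem w24r128 : wins P12 Qn 12 524 600 2096552 16 3793842276 = true := by decide +kernel
theorem w24s128 : Cov 24 3793842876 3827387708 :=
  cov_of pb12 qb cl12 cl12 w24r128 _ _ _ (by decide +kernel)
theorem w24r129 : wins P12 Qn 12 556 600 2096552 16 3827387108 = true := by decide +kernel
theorem w24s129 : Cov 24 3827387708 3860932540 :=
  cov_of pb12 qb cl12 cl12 w24r129 _ _ _ (by decide +kernel)
theorem w24r130 : wins P12 Qn 12 604 600 2096552 16 3860931940 = true := by decide +kernel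
theorem w24s130 : Cov 24 3860932540 3894477372 :=
  cov_of pb12 qb cl12 cl12 w24r130 _ _ _ (by decide +kernel)
theorem w24r131 : wins P12 Qn 12 597 600 2096552 16 3894476772 = true := by decide +kernel
theorem w24s131 : Cov 24 3894477372 3928022204 :=
  cov_of pb12 qb cl12 cl12 w24r131 _ _ _ (by decide +kernel)
theorem w24r132 : wins P12 Qn 12 554 600 2096552 16 3928021604 = true := by decide +kernel
theorem w24s132 : Cov 24 3928022204 3961567036 :=
  cov_of pb12 qb cl12 cl12 w24r132 _ _ _ (by decide +kernel)
theorem w24r133 : wins P12 Qn 12 689 600 2096552 16 3961566436 = true := by decide +kernel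
theorem w24s133 : Cov 24 3961567036 3995111868 :=
  cov_of pb12 qb cl12 cl12 w24r133 _ _ _ (by decide +kernel)
theorem w24r134 : wins P12 Qn 12 578 600 2096552 16 3995111268 = true := by decide +kernel
theorem w24s134 : Cov 24 3995111868 4028656700 :=
  cov_of pb12 qb cl12 cl12 w24r134 _ _ _ (by decide +kernel)
theorem w24r135 : wins P12 Qn 12 550 600 2096552 16 4028656100 = true := by decide +kernel
theorem w24s135 : Cov 24 4028656700 4062201532 :=
  cov_of pb12 qb cl12 cl12 w24r135 _ _ _ (by decide +kernel)
theorem w24r136 : wins P12 Qn 12 502 600 2096552 16 4062200932 = true := by decide +kernel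
theorem w24s136 : Cov 24 4062201532 4095746364 :=
  cov_of pb12 qb cl12 cl12 w24r136 _ _ _ (by decide +kernel)
theorem w24r137 : wins P12 Qn 12 577 600 2096552 16 4095745764 = true := by decide +kernel
theorem w24s137 : Cov 24 4095746364 4129291196 :=
  cov_of pb12 qb cl12 cl12 w24r137 _ _ _ (by decide +kernel)
theorem w24r138 : wins P12 Qn 12 579 600 2096552 16 4129290596 = true := by decide +kernel
theorem w24s138 : Cov 24 4129291196 4162836028 :=
  cov_of pb12 qb cl12 cl12 w24r138 _ _ _ (by decide +kernel)

theorem cov24a : Cov 24 160 4162836028 :=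
  (((((((w24s0.app w24s1).app (w24s2.app w24s3)).app ((w24s4.app w24s5).app (w24s6.app w24s7))).app (((w24s8.app w24s9).app (w24s10.app w24s11)).app ((w24s12.app w24s13).app (w24s14.app (w24s15.app w24s16))))).app ((((w24s17.app w24s18).app (w24s19.app w24s20)).app ((w24s21.app w24s22).app (w24s23.app w24s24))).app (((w24s25.app w24s26).app (w24s27.app w24s28)).app ((w24s29.app w24s30).app (w24s31.app (w24s32.app w24s33)))))).app (((((w24s34.app w24s35).app (w24s36.app w24s37)).app ((w24s38.app w24s39).app (w24s40.app w24s41))).app (((w24s42.app w24s43).app (w24s44.app w24s45)).app ((w24s46.app w24s47).app (w24s48.app (w24s49.app w24s50))))).app ((((w24s51.app w24s52).app (w24s53.app w24s54)).app ((w24s55.app w24s56).app (w24s57.app (w24s58.app w24s59)))).app (((w24s60.app w24s61).app (w24s62.app w24s63)).app ((w24s64.app w24s65).app (w24s66.app (w24s67.app w24s68))))))).app ((((((w24s69.app w24s70).app (w24s71.app w24s72)).app ((w24s73.app w24s74).app (w24s75.app w24s76))).app (((w24s77.app w24s78).app (w24s79.app w24s80)).app ((w24s81.app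 w24s82).app (w24s83.app (w24s84.app w24s85))))).app ((((w24s86.app w24s87).app (w24s88.app w24s89)).app ((w24s90.app w24s91).app (w24s92.app (w24s93.app w24s94)))).app (((w24s95.app w24s96).app (w24s97.app w24s98)).app ((w24s99.app w24s100).app (w24s101.app (w24s102.app w24s103)))))).app (((((w24s104.app w24s105).app (w24s106.app w24s107)).app ((w24s108.app w24s109).app (w24s110.app w24s111))).app (((w24s112.app w24s113).app (w24s114.app w24s115)).app ((w24s116.app w24s117).app (w24s118.app (w24s119.app w24s120))))).app ((((w24s121.app w24s122).app (w24s123.app w24s124)).app ((w24s125.app w24s126).app (w24s127.app (w24s128.app w24s129)))).app (((w24s130.app w24s131).app (w24s132.app w24s133)).app ((w24s134.app w24s135).app (w24s136.app (w24s137.app w24s138))))))))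

end Cfsg.Agent.Depth.F
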