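import Cfsg.Agent.Depth.F.P12
import Cfsg.Agent.Depth.F.Q

/-! The numbers `30 M + 24` as sums `(p + 1) + (q + 1)`, part 2. -/

set_option autoImplicit false
set_option Elab.async false

namespace Cfsg.Agent.Depth.F

theorem w24r139 : wins P12 Qn 12 652 600 2096552 16 4162835428 = true := by decide +kernel
theorem w24s139 : Cov 24 4162836028 4196380860 :=
  cov_of pb12 qb cl12 cl12 w24r139 _ _ _ (by decide +kernel)
theorem w24r140 : wins P12 Qn 12 609 600 2096552 16 4196380260 = true := by decide +kernel
theorem w24s140 : Cov 24 4196380860 4229925692 :=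
  cov_of pb12 qb cl12 cl12 w24r140 _ _ _ (by decide +kernel)
theorem w24r141 : wins P12 Qn 12 564 600 2096552 16 4229925092 = true := by decide +kernel
theorem w24s141 : Cov 24 4229925692 4263470524 :=
  cov_of pb12 qb cl12 cl12 w24r141 _ _ _ (by decide +kernel)
theorem w24r142 : wins P12 Qn 12 635 600 2096552 16 4263469924 = true := by decide +kernel
theorem w24s142 : Cov 24 4263470524 4297015356 :=
  cov_of pb12 qb cl12 cl12 w24r142 _ _ _ (by decide +kernel)
theorem w24r143 : wins P12 Qn 12 611 600 2096552 16 4297014756 = true := by decide +kernel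
theorem w24s143 : Cov 24 4297015356 4330560188 :=
  cov_of pb12 qb cl12 cl12 w24r143 _ _ _ (by decide +kernel)
theorem w24r144 : wins P12 Qn 12 552 600 2096552 16 4330559588 = true := by decide +kernel
theorem w24s144 : Cov 24 4330560188 4364105020 :=
  cov_of pb12 qb cl12 cl12 w24r144 _ _ _ (by decide +kernel)
theorem w24r145 : wins P12 Qn 12 565 600 2096552 16 4364104420 = true := by decide +kernel
theorem w24s145 : Cov 24 4364105020 4397649852 :=
  cov_of pb12 qb cl12 cl12 w24r145 _ _ _ (by decide +kernel)
theorem w24r146 : wins P12 Qn 12 575 600 2096552 16 4397649252 = true := by decide +kernel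
theorem w24s146 : Cov 24 4397649852 4431194684 :=
  cov_of pb12 qb cl12 cl12 w24r146 _ _ _ (by decide +kernel)
theorem w24r147 : wins P12 Qn 12 598 600 2096552 16 4431194084 = true := by decide +kernel
theorem w24s147 : Cov 24 4431194684 4464739516 :=
  cov_of pb12 qb cl12 cl12 w24r147 _ _ _ (by decide +kernel)
theorem w24r148 : wins P12 Qn 12 609 600 2096552 16 4464738916 = true := by decide +kernel
theorem w24s148 : Cov 24 4464739516 4498284348 :=
  cov_of pb12 qb cl12 cl12 w24r148 _ _ _ (by decide +kernel)
theorem w24r149 : wins P12 Qn 12 544 600 2096552 16 4498283748 = true := by decide +kernel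
theorem w24s149 : Cov 24 4498284348 4531829180 :=
  cov_of pb12 qb cl12 cl12 w24r149 _ _ _ (by decide +kernel)
theorem w24r150 : wins P12 Qn 12 580 600 2096552 16 4531828580 = true := by decide +kernel
theorem w24s150 : Cov 24 4531829180 4565374012 :=
  cov_of pb12 qb cl12 cl12 w24r150 _ _ _ (by decide +kernel)
theorem w24r151 : wins P12 Qn 12 584 600 2096552 16 4565373412 = true := by decide +kernel
theorem w24s151 : Cov 24 4565374012 4598918844 :=
  cov_of pb12 qb cl12 cl12 w24r151 _ _ _ (by decide +kernel)
theorem w24r152 : wins P12 Qn 12 624 600 2096552 16 4598918244 = true := by decide +kernel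
theorem w24s152 : Cov 24 4598918844 4632463676 :=
  cov_of pb12 qb cl12 cl12 w24r152 _ _ _ (by decide +kernel)
theorem w24r153 : wins P12 Qn 12 563 600 2096552 16 4632463076 = true := by decide +kernel
theorem w24s153 : Cov 24 4632463676 4666008508 :=
  cov_of pb12 qb cl12 cl12 w24r153 _ _ _ (by decide +kernel)
theorem w24r154 : wins P12 Qn 12 593 600 2096552 16 4666007908 = true := by decide +kernel
theorem w24s154 : Cov 24 4666008508 4699553340 :=
  cov_of pb12 qb cl12 cl12 w24r154 _ _ _ (by decide +kernel)
theorem w24r155 : wins P12 Qn 12 495 600 2096552 16 4699552740 = true := by decide +kernel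
theorem w24s155 : Cov 24 4699553340 4733098172 :=
  cov_of pb12 qb cl12 cl12 w24r155 _ _ _ (by decide +kernel)
theorem w24r156 : wins P12 Qn 12 539 600 2096552 16 4733097572 = true := by decide +kernel
theorem w24s156 : Cov 24 4733098172 4766643004 :=
  cov_of pb12 qb cl12 cl12 w24r156 _ _ _ (by decide +kernel)
theorem w24r157 : wins P12 Qn 12 597 600 2096552 16 4766642404 = true := by decide +kernel
theorem w24s157 : Cov 24 4766643004 4800187836 :=
  cov_of pb12 qb cl12 cl12 w24r157 _ _ _ (by decide +kernel)
theorem w24r158 : wins P12 Qn 12 709 600 2096552 16 4800187236 = true := by decide +kernel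
theorem w24s158 : Cov 24 4800187836 4833732668 :=
  cov_of pb12 qb cl12 cl12 w24r158 _ _ _ (by decide +kernel)
theorem w24r159 : wins P12 Qn 12 634 600 2096552 16 4833732068 = true := by decide +kernel
theorem w24s159 : Cov 24 4833732668 4867277500 :=
  cov_of pb12 qb cl12 cl12 w24r159 _ _ _ (by decide +kernel)
theorem w24r160 : wins P12 Qn 12 615 600 2096552 16 4867276900 = true := by decide +kernel
theorem w24s160 : Cov 24 4867277500 4900822332 :=
  cov_of pb12 qb cl12 cl12 w24r160 _ _ _ (by decide +kernel)
theorem w24r161 : wins P12 Qn 12 616 600 2096552 16 4900821732 = true := by decide +kernel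
theorem w24s161 : Cov 24 4900822332 4934367164 :=
  cov_of pb12 qb cl12 cl12 w24r161 _ _ _ (by decide +kernel)
theorem w24r162 : wins P12 Qn 12 566 600 2096552 16 4934366564 = true := by decide +kernel
theorem w24s162 : Cov 24 4934367164 4967911996 :=
  cov_of pb12 qb cl12 cl12 w24r162 _ _ _ (by decide +kernel)
theorem w24r163 : wins P12 Qn 12 649 600 2096552 16 4967911396 = true := by decide +kernel
theorem w24s163 : Cov 24 4967911996 5001456828 :=
  cov_of pb12 qb cl12 cl12 w24r163 _ _ _ (by decide +kernel)
theorem w24r164 : wins P12 Qn 12 596 600 2096552 16 5001456228 = true := by decide +kernel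
theorem w24s164 : Cov 24 5001456828 5035001660 :=
  cov_of pb12 qb cl12 cl12 w24r164 _ _ _ (by decide +kernel)
theorem w24r165 : wins P12 Qn 12 617 600 2096552 16 5035001060 = true := by decide +kernel
theorem w24s165 : Cov 24 5035001660 5068546492 :=
  cov_of pb12 qb cl12 cl12 w24r165 _ _ _ (by decide +kernel)
theorem w24r166 : wins P12 Qn 12 590 600 2096552 16 5068545892 = true := by decide +kernel
theorem w24s166 : Cov 24 5068546492 5102091324 :=
  cov_of pb12 qb cl12 cl12 w24r166 _ _ _ (by decide +kernel)
theorem w24r167 : wins P12 Qn 12 564 600 2096552 16 5102090724 = true := by decide +kernel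
theorem w24s167 : Cov 24 5102091324 5135636156 :=
  cov_of pb12 qb cl12 cl12 w24r167 _ _ _ (by decide +kernel)
theorem w24r168 : wins P12 Qn 12 574 600 2096552 16 5135635556 = true := by decide +kernel
theorem w24s168 : Cov 24 5135636156 5169180988 :=
  cov_of pb12 qb cl12 cl12 w24r168 _ _ _ (by decide +kernel)
theorem w24r169 : wins P12 Qn 12 578 600 2096552 16 5169180388 = true := by decide +kernel
theorem w24s169 : Cov 24 5169180988 5202725820 :=
  cov_of pb12 qb cl12 cl12 w24r169 _ _ _ (by decide +kernel)
theorem w24r170 : wins P12 Qn 12 585 600 2096552 16 5202725220 = true := by decide +kernel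
theorem w24s170 : Cov 24 5202725820 5236270652 :=
  cov_of pb12 qb cl12 cl12 w24r170 _ _ _ (by decide +kernel)
theorem w24r171 : wins P12 Qn 12 556 600 2096552 16 5236270052 = true := by decide +kernel
theorem w24s171 : Cov 24 5236270652 5269815484 :=
  cov_of pb12 qb cl12 cl12 w24r171 _ _ _ (by decide +kernel)
theorem w24r172 : wins P12 Qn 12 639 600 2096552 16 5269814884 = true := by decide +kernel
theorem w24s172 : Cov 24 5269815484 5303360316 :=
  cov_of pb12 qb cl12 cl12 w24r172 _ _ _ (by decide +kernel)
theorem w24r173 : wins P12 Qn 12 485 600 2096552 16 5303359716 = true := by decide +kernel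
theorem w24s173 : Cov 24 5303360316 5336905148 :=
  cov_of pb12 qb cl12 cl12 w24r173 _ _ _ (by decide +kernel)
theorem w24r174 : wins P12 Qn 12 593 600 2096552 16 5336904548 = true := by decide +kernel
theorem w24s174 : Cov 24 5336905148 5370449980 :=
  cov_of pb12 qb cl12 cl12 w24r174 _ _ _ (by decide +kernel)
theorem w24r175 : wins P12 Qn 12 674 600 2096552 16 5370449380 = true := by decide +kernel
theorem w24s175 : Cov 24 5370449980 5403994812 :=
  cov_of pb12 qb cl12 cl12 w24r175 _ _ _ (by decide +kernel)
theorem w24r176 : wins P12 Qn 12 549 600 2096552 16 5403994212 = true := by decide +kernel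
theorem w24s176 : Cov 24 5403994812 5437539644 :=
  cov_of pb12 qb cl12 cl12 w24r176 _ _ _ (by decide +kernel)
theorem w24r177 : wins P12 Qn 12 543 600 2096552 16 5437539044 = true := by decide +kernel
theorem w24s177 : Cov 24 5437539644 5471084476 :=
  cov_of pb12 qb cl12 cl12 w24r177 _ _ _ (by decide +kernel)
theorem w24r178 : wins P12 Qn 12 600 600 2096552 16 5471083876 = true := by decide +kernel
theorem w24s178 : Cov 24 5471084476 5504629308 :=
  cov_of pb12 qb cl12 cl12 w24r178 _ _ _ (by decide +kernel)
theorem w24r179 : wins P12 Qn 12 598 600 2096552 16 5504628708 = true := by decide +kernel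
theorem w24s179 : Cov 24 5504629308 5538174140 :=
  cov_of pb12 qb cl12 cl12 w24r179 _ _ _ (by decide +kernel)
theorem w24r180 : wins P12 Qn 12 586 600 2096552 16 5538173540 = true := by decide +kernel
theorem w24s180 : Cov 24 5538174140 5571718972 :=
  cov_of pb12 qb cl12 cl12 w24r180 _ _ _ (by decide +kernel)
theorem w24r181 : wins P12 Qn 12 535 600 2096552 16 5571718372 = true := by decide +kernel
theorem w24s181 : Cov 24 5571718972 5605263804 :=
  cov_of pb12 qb cl12 cl12 w24r181 _ _ _ (by decide +kernel)
theorem w24r182 : wins P12 Qn 12 551 600 2096552 16 5605263204 = true := by decide +kernel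
theorem w24s182 : Cov 24 5605263804 5638808636 :=
  cov_of pb12 qb cl12 cl12 w24r182 _ _ _ (by decide +kernel)
theorem w24r183 : wins P12 Qn 12 686 600 2096552 16 5638808036 = true := by decide +kernel
theorem w24s183 : Cov 24 5638808636 5672353468 :=
  cov_of pb12 qb cl12 cl12 w24r183 _ _ _ (by decide +kernel)
theorem w24r184 : wins P12 Qn 12 537 600 2096552 16 5672352868 = true := by decide +kernel
theorem w24s184 : Cov 24 5672353468 5705898300 :=
  cov_of pb12 qb cl12 cl12 w24r184 _ _ _ (by decide +kernel)
theorem w24r185 : wins P12 Qn 12 563 600 2096552 16 5705897700 = true := by decide +kernel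
theorem w24s185 : Cov 24 5705898300 5739443132 :=
  cov_of pb12 qb cl12 cl12 w24r185 _ _ _ (by decide +kernel)
theorem w24r186 : wins P12 Qn 12 584 600 2096552 16 5739442532 = true := by decide +kernel
theorem w24s186 : Cov 24 5739443132 5772987964 :=
  cov_of pb12 qb cl12 cl12 w24r186 _ _ _ (by decide +kernel)
theorem w24r187 : wins P12 Qn 12 593 600 2096552 16 5772987364 = true := by decide +kernel
theorem w24s187 : Cov 24 5772987964 5806532796 :=
  cov_of pb12 qb cl12 cl12 w24r187 _ _ _ (by decide +kernel)
theorem w24r188 : wins P12 Qn 12 604 600 2096552 16 5806532196 = true := by decide +kernel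
theorem w24s188 : Cov 24 5806532796 5840077628 :=
  cov_of pb12 qb cl12 cl12 w24r188 _ _ _ (by decide +kernel)
theorem w24r189 : wins P12 Qn 12 664 600 2096552 16 5840077028 = true := by decide +kernel
theorem w24s189 : Cov 24 5840077628 5873622460 :=
  cov_of pb12 qb cl12 cl12 w24r189 _ _ _ (by decide +kernel)
theorem w24r190 : wins P12 Qn 12 518 600 2096552 16 5873621860 = true := by decide +kernel
theorem w24s190 : Cov 24 5873622460 5907167292 :=
  cov_of pb12 qb cl12 cl12 w24r190 _ _ _ (by decide +kernel)
theorem w24r191 : wins P12 Qn 12 593 600 2096552 16 5907166692 = true := by decide +kernel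
theorem w24s191 : Cov 24 5907167292 5940712124 :=
  cov_of pb12 qb cl12 cl12 w24r191 _ _ _ (by decide +kernel)
theorem w24r192 : wins P12 Qn 12 612 600 2096552 16 5940711524 = true := by decide +kernel
theorem w24s192 : Cov 24 5940712124 5974256956 :=
  cov_of pb12 qb cl12 cl12 w24r192 _ _ _ (by decide +kernel)
theorem w24r193 : wins P12 Qn 12 556 600 2096552 16 5974256356 = true := by decide +kernel
theorem w24s193 : Cov 24 5974256956 6007801788 :=
  cov_of pb12 qb cl12 cl12 w24r193 _ _ _ (by decide +kernel)
theorem w24r194 : wins P12 Qn 12 476 600 2096552 16 6007801188 = true := by decide +kernel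
theorem w24s194 : Cov 24 6007801788 6041346620 :=
  cov_of pb12 qb cl12 cl12 w24r194 _ _ _ (by decide +kernel)
theorem w24r195 : wins P12 Qn 12 571 600 2096552 16 6041346020 = true := by decide +kernel
theorem w24s195 : Cov 24 6041346620 6074891452 :=
  cov_of pb12 qb cl12 cl12 w24r195 _ _ _ (by decide +kernel)
theorem w24r196 : wins P12 Qn 12 608 600 2096552 16 6074890852 = true := by decide +kernel
theorem w24s196 : Cov 24 6074891452 6108436284 :=
  cov_of pb12 qb cl12 cl12 w24r196 _ _ _ (by decide +kernel)
theorem w24r197 : wins P12 Qn 12 564 600 2096552 16 6108435684 = true := by decide +kernel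
theorem w24s197 : Cov 24 6108436284 6141981116 :=
  cov_of pb12 qb cl12 cl12 w24r197 _ _ _ (by decide +kernel)
theorem w24r198 : wins P12 Qn 12 655 600 2096552 16 6141980516 = true := by decide +kernel
theorem w24s198 : Cov 24 6141981116 6175525948 :=
  cov_of pb12 qb cl12 cl12 w24r198 _ _ _ (by decide +kernel)
theorem w24r199 : wins P12 Qn 12 537 600 2096552 16 6175525348 = true := by decide +kernel
theorem w24s199 : Cov 24 6175525948 6209070780 :=
  cov_of pb12 qb cl12 cl12 w24r199 _ _ _ (by decide +kernel)
theorem w24r200 : wins P12 Qn 12 575 600 2096552 16 6209070180 = true := by decide +kernel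
theorem w24s200 : Cov 24 6209070780 6242615612 :=
  cov_of pb12 qb cl12 cl12 w24r200 _ _ _ (by decide +kernel)
theorem w24r201 : wins P12 Qn 12 682 600 2096552 16 6242615012 = true := by decide +kernel
theorem w24s201 : Cov 24 6242615612 6276160444 :=
  cov_of pb12 qb cl12 cl12 w24r201 _ _ _ (by decide +kernel)
theorem w24r202 : wins P12 Qn 12 636 600 2096552 16 6276159844 = true := by decide +kernel
theorem w24s202 : Cov 24 6276160444 6309705276 :=
  cov_of pb12 qb cl12 cl12 w24r202 _ _ _ (by decide +kernel)
theorem w24r203 : wins P12 Qn 12 552 600 2096552 16 6309704676 = true := by decide +kernel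
theorem w24s203 : Cov 24 6309705276 6343250108 :=
  cov_of pb12 qb cl12 cl12 w24r203 _ _ _ (by decide +kernel)
theorem w24r204 : wins P12 Qn 12 600 600 2096552 16 6343249508 = true := by decide +kernel
theorem w24s204 : Cov 24 6343250108 6376794940 :=
  cov_of pb12 qb cl12 cl12 w24r204 _ _ _ (by decide +kernel)
theorem w24r205 : wins P12 Qn 12 553 600 2096552 16 6376794340 = true := by decide +kernel
theorem w24s205 : Cov 24 6376794940 6410339772 :=
  cov_of pb12 qb cl12 cl12 w24r205 _ _ _ (by decide +kernel)
theorem w24r206 : wins P12 Qn 12 651 600 2096552 16 6410339172 = true := by decide +kernel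
theorem w24s206 : Cov 24 6410339772 6443884604 :=
  cov_of pb12 qb cl12 cl12 w24r206 _ _ _ (by decide +kernel)
theorem w24r207 : wins P12 Qn 12 615 600 2096552 16 6443884004 = true := by decide +kernel
theorem w24s207 : Cov 24 6443884604 6477429436 :=
  cov_of pb12 qb cl12 cl12 w24r207 _ _ _ (by decide +kernel)
theorem w24r208 : wins P12 Qn 12 609 600 2096552 16 6477428836 = true := by decide +kernel
theorem w24s208 : Cov 24 6477429436 6510974268 :=
  cov_of pb12 qb cl12 cl12 w24r208 _ _ _ (by decide +kernel)
theorem w24r209 : wins P12 Qn 12 528 600 2096552 16 6510973668 = true := by decide +kernel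
theorem w24s209 : Cov 24 6510974268 6544519100 :=
  cov_of pb12 qb cl12 cl12 w24r209 _ _ _ (by decide +kernel)
theorem w24r210 : wins P12 Qn 12 646 600 2096552 16 6544518500 = true := by decide +kernel
theorem w24s210 : Cov 24 6544519100 6578063932 :=
  cov_of pb12 qb cl12 cl12 w24r210 _ _ _ (by decide +kernel)
theorem w24r211 : wins P12 Qn 12 647 600 2096552 16 6578063332 = true := by decide +kernel
theorem w24s211 : Cov 24 6578063932 6611608764 :=
  cov_of pb12 qb cl12 cl12 w24r211 _ _ _ (by decide +kernel)
theorem w24r212 : wins P12 Qn 12 650 600 2096552 16 6611608164 = true := by decide +kernel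
theorem w24s212 : Cov 24 6611608764 6645153596 :=
  cov_of pb12 qb cl12 cl12 w24r212 _ _ _ (by decide +kernel)
theorem w24r213 : wins P12 Qn 12 549 600 2096552 16 6645152996 = true := by decide +kernel
theorem w24s213 : Cov 24 6645153596 6678698428 :=
  cov_of pb12 qb cl12 cl12 w24r213 _ _ _ (by decide +kernel)
theorem w24r214 : wins P12 Qn 12 584 600 2096552 16 6678697828 = true := by decide +kernel
theorem w24s214 : Cov 24 6678698428 6712243260 :=
  cov_of pb12 qb cl12 cl12 w24r214 _ _ _ (by decide +kernel)
theorem w24r215 : wins P12 Qn 12 584 600 2096552 16 6712242660 = true := by decide +kernel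
theorem w24s215 : Cov 24 6712243260 6745788092 :=
  cov_of pb12 qb cl12 cl12 w24r215 _ _ _ (by decide +kernel)
theorem w24r216 : wins P12 Qn 12 696 600 2096552 16 6745787492 = true := by decide +kernel
theorem w24s216 : Cov 24 6745788092 6779332924 :=
  cov_of pb12 qb cl12 cl12 w24r216 _ _ _ (by decide +kernel)
theorem w24r217 : wins P12 Qn 12 586 600 2096552 16 6779332324 = true := by decide +kernel
theorem w24s217 : Cov 24 6779332924 6812877756 :=
  cov_of pb12 qb cl12 cl12 w24r217 _ _ _ (by decide +kernel)
theorem w24r218 : wins P12 Qn 12 531 600 2096552 16 6812877156 = true := by decide +kernel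
theorem w24s218 : Cov 24 6812877756 6846422588 :=
  cov_of pb12 qb cl12 cl12 w24r218 _ _ _ (by decide +kernel)
theorem w24r219 : wins P12 Qn 12 573 600 2096552 16 6846421988 = true := by decide +kernel
theorem w24s219 : Cov 24 6846422588 6879967420 :=
  cov_of pb12 qb cl12 cl12 w24r219 _ _ _ (by decide +kernel)
theorem w24r220 : wins P12 Qn 12 615 600 2096552 16 6879966820 = true := by decide +kernel
theorem w24s220 : Cov 24 6879967420 6913512252 :=
  cov_of pb12 qb cl12 cl12 w24r220 _ _ _ (by decide +kernel)
theorem w24r221 : wins P12 Qn 12 651 600 2096552 16 6913511652 = true := by decide +kernel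
theorem w24s221 : Cov 24 6913512252 6947057084 :=
  cov_of pb12 qb cl12 cl12 w24r221 _ _ _ (by decide +kernel)
theorem w24r222 : wins P12 Qn 12 571 600 2096552 16 6947056484 = true := by decide +kernel
theorem w24s222 : Cov 24 6947057084 6980601916 :=
  cov_of pb12 qb cl12 cl12 w24r222 _ _ _ (by decide +kernel)
theorem w24r223 : wins P12 Qn 12 569 600 2096552 16 6980601316 = true := by decide +kernel
theorem w24s223 : Cov 24 6980601916 7014146748 :=
  cov_of pb12 qb cl12 cl12 w24r223 _ _ _ (by decide +kernel)
theorem w24r224 : wins P12 Qn 12 549 600 2096552 16 7014146148 = true := by decide +kernel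
theorem w24s224 : Cov 24 7014146748 7047691580 :=
  cov_of pb12 qb cl12 cl12 w24r224 _ _ _ (by decide +kernel)
theorem w24r225 : wins P12 Qn 12 628 600 2096552 16 7047690980 = true := by decide +kernel
theorem w24s225 : Cov 24 7047691580 7081236412 :=
  cov_of pb12 qb cl12 cl12 w24r225 _ _ _ (by decide +kernel)
theorem w24r226 : wins P12 Qn 12 634 600 2096552 16 7081235812 = true := by decide +kernel
theorem w24s226 : Cov 24 7081236412 7114781244 :=
  cov_of pb12 qb cl12 cl12 w24r226 _ _ _ (by decide +kernel)
theorem w24r227 : wins P12 Qn 12 545 600 2096552 16 7114780644 = true := by decide +kernel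
theorem w24s227 : Cov 24 7114781244 7148326076 :=
  cov_of pb12 qb cl12 cl12 w24r227 _ _ _ (by decide +kernel)
theorem w24r228 : wins P12 Qn 12 575 600 2096552 16 7148325476 = true := by decide +kernel
theorem w24s228 : Cov 24 7148326076 7181870908 :=
  cov_of pb12 qb cl12 cl12 w24r228 _ _ _ (by decide +kernel)
theorem w24r229 : wins P12 Qn 12 649 600 2096552 16 7181870308 = true := by decide +kernel
theorem w24s229 : Cov 24 7181870908 7215415740 :=
  cov_of pb12 qb cl12 cl12 w24r229 _ _ _ (by decide +kernel)
theorem w24r230 : wins P12 Qn 12 515 600 2096552 16 7215415140 = true := by decide +kernel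
theorem w24s230 : Cov 24 7215415740 7248960572 :=
  cov_of pb12 qb cl12 cl12 w24r230 _ _ _ (by decide +kernel)
theorem w24r231 : wins P12 Qn 12 601 600 2096552 16 7248959972 = true := by decide +kernel
theorem w24s231 : Cov 24 7248960572 7282505404 :=
  cov_of pb12 qb cl12 cl12 w24r231 _ _ _ (by decide +kernel)
theorem w24r232 : wins P12 Qn 12 647 600 2096552 16 7282504804 = true := by decide +kernel
theorem w24s232 : Cov 24 7282505404 7316050236 :=
  cov_of pb12 qb cl12 cl12 w24r232 _ _ _ (by decide +kernel)
theorem w24r233 : wins P12 Qn 12 623 600 2096552 16 7316049636 = true := by decide +kernel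
theorem w24s233 : Cov 24 7316050236 7349595068 :=
  cov_of pb12 qb cl12 cl12 w24r233 _ _ _ (by decide +kernel)
theorem w24r234 : wins P12 Qn 12 661 600 2096552 16 7349594468 = true := by decide +kernel
theorem w24s234 : Cov 24 7349595068 7383139900 :=
  cov_of pb12 qb cl12 cl12 w24r234 _ _ _ (by decide +kernel)
theorem w24r235 : wins P12 Qn 12 549 600 2096552 16 7383139300 = true := by decide +kernel
theorem w24s235 : Cov 24 7383139900 7416684732 :=
  cov_of pb12 qb cl12 cl12 w24r235 _ _ _ (by decide +kernel)
theorem w24r236 : wins P12 Qn 12 572 600 2096552 16 7416684132 = true := by decide +kernel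
theorem w24s236 : Cov 24 7416684732 7450229564 :=
  cov_of pb12 qb cl12 cl12 w24r236 _ _ _ (by decide +kernel)
theorem w24r237 : wins P12 Qn 12 666 600 2096552 16 7450228964 = true := by decide +kernel
theorem w24s237 : Cov 24 7450229564 7483774396 :=
  cov_of pb12 qb cl12 cl12 w24r237 _ _ _ (by decide +kernel)
theorem w24r238 : wins P12 Qn 12 672 600 2096552 16 7483773796 = true := by decide +kernel
theorem w24s238 : Cov 24 7483774396 7517319228 :=
  cov_of pb12 qb cl12 cl12 w24r238 _ _ _ (by decide +kernel)
theorem w24r239 : wins P12 Qn 12 557 600 2096552 16 7517318628 = true := by decide +kernel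
theorem w24s239 : Cov 24 7517319228 7550864060 :=
  cov_of pb12 qb cl12 cl12 w24r239 _ _ _ (by decide +kernel)
theorem w24r240 : wins P12 Qn 12 554 600 2096552 16 7550863460 = true := by decide +kernel
theorem w24s240 : Cov 24 7550864060 7584408892 :=
  cov_of pb12 qb cl12 cl12 w24r240 _ _ _ (by decide +kernel)
theorem w24r241 : wins P12 Qn 12 610 600 2096552 16 7584408292 = true := by decide +kernel
theorem w24s241 : Cov 24 7584408892 7617953724 :=
  cov_of pb12 qb cl12 cl12 w24r241 _ _ _ (by decide +kernel)
theorem w24r242 : wins P12 Qn 12 580 600 2096552 16 7617953124 = true := by decide +kernel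
theorem w24s242 : Cov 24 7617953724 7651498556 :=
  cov_of pb12 qb cl12 cl12 w24r242 _ _ _ (by decide +kernel)
theorem w24r243 : wins P12 Qn 12 555 600 2096552 16 7651497956 = true := by decide +kernel
theorem w24s243 : Cov 24 7651498556 7685043388 :=
  cov_of pb12 qb cl12 cl12 w24r243 _ _ _ (by decide +kernel)
theorem w24r244 : wins P12 Qn 12 550 600 2096552 16 7685042788 = true := by decide +kernel
theorem w24s244 : Cov 24 7685043388 7718588220 :=
  cov_of pb12 qb cl12 cl12 w24r244 _ _ _ (by decide +kernel)
theorem w24r245 : wins P12 Qn 12 562 600 2096552 16 7718587620 = true := by decide +kernel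
theorem w24s245 : Cov 24 7718588220 7752133052 :=
  cov_of pb12 qb cl12 cl12 w24r245 _ _ _ (by decide +kernel)
theorem w24r246 : wins P12 Qn 12 559 600 2096552 16 7752132452 = true := by decide +kernel
theorem w24s246 : Cov 24 7752133052 7785677884 :=
  cov_of pb12 qb cl12 cl12 w24r246 _ _ _ (by decide +kernel)
theorem w24r247 : wins P12 Qn 12 582 600 2096552 16 7785677284 = true := by decide +kernel
theorem w24s247 : Cov 24 7785677884 7819222716 :=
  cov_of pb12 qb cl12 cl12 w24r247 _ _ _ (by decide +kernel)
theorem w24r248 : wins P12 Qn 12 677 600 2096552 16 7819222116 = true := by decide +kernel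
theorem w24s248 : Cov 24 7819222716 7852767548 :=
  cov_of pb12 qb cl12 cl12 w24r248 _ _ _ (by decide +kernel)
theorem w24r249 : wins P12 Qn 12 573 600 2096552 16 7852766948 = true := by decide +kernel
theorem w24s249 : Cov 24 7852767548 7886312380 :=
  cov_of pb12 qb cl12 cl12 w24r249 _ _ _ (by decide +kernel)
theorem w24r250 : wins P12 Qn 12 540 600 2096552 16 7886311780 = true := by decide +kernel
theorem w24s250 : Cov 24 7886312380 7919857212 :=
  cov_of pb12 qb cl12 cl12 w24r250 _ _ _ (by decide +kernel)
theorem w24r251 : wins P12 Qn 12 622 600 2096552 16 7919856612 = true := by decide +kernel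
theorem w24s251 : Cov 24 7919857212 7953402044 :=
  cov_of pb12 qb cl12 cl12 w24r251 _ _ _ (by decide +kernel)
theorem w24r252 : wins P12 Qn 12 611 600 2096552 16 7953401444 = true := by decide +kernel
theorem w24s252 : Cov 24 7953402044 7986946876 :=
  cov_of pb12 qb cl12 cl12 w24r252 _ _ _ (by decide +kernel)
theorem w24r253 : wins P12 Qn 12 669 600 2096552 16 7986946276 = true := by decide +kernel
theorem w24s253 : Cov 24 7986946876 8020491708 :=
  cov_of pb12 qb cl12 cl12 w24r253 _ _ _ (by decide +kernel)
theorem w24r254 : wins P12 Qn 12 610 600 2096552 16 8020491108 = true := by decide +kernel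
theorem w24s254 : Cov 24 8020491708 8054036540 :=
  cov_of pb12 qb cl12 cl12 w24r254 _ _ _ (by decide +kernel)
theorem w24r255 : wins P12 Qn 12 684 600 2096552 16 8054035940 = true := by decide +kernel
theorem w24s255 : Cov 24 8054036540 8087581372 :=
  cov_of pb12 qb cl12 cl12 w24r255 _ _ _ (by decide +kernel)
theorem w24r256 : wins P12 Qn 12 556 600 2096552 16 8087580772 = true := by decide +kernel
theorem w24s256 : Cov 24 8087581372 8121126204 :=
  cov_of pb12 qb cl12 cl12 w24r256 _ _ _ (by decide +kernel)
theorem w24r257 : wins P12 Qn 12 596 600 2096552 16 8121125604 = true := by decide +kernel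
theorem w24s257 : Cov 24 8121126204 8154671036 :=
  cov_of pb12 qb cl12 cl12 w24r257 _ _ _ (by decide +kernel)
theorem w24r258 : wins P12 Qn 12 620 600 2096552 16 8154670436 = true := by decide +kernel
theorem w24s258 : Cov 24 8154671036 8188215868 :=
  cov_of pb12 qb cl12 cl12 w24r258 _ _ _ (by decide +kernel)
theorem w24r259 : wins P12 Qn 12 690 600 2096552 16 8188215268 = true := by decide +kernel
theorem w24s259 : Cov 24 8188215868 8221760700 :=
  cov_of pb12 qb cl12 cl12 w24r259 _ _ _ (by decide +kernel)
theorem w24r260 : wins P12 Qn 12 547 600 2096552 16 8221760100 = true := by decide +kernel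
theorem w24s260 : Cov 24 8221760700 8255305532 :=
  cov_of pb12 qb cl12 cl12 w24r260 _ _ _ (by decide +kernel)
theorem w24r261 : wins P12 Qn 12 611 600 2096552 16 8255304932 = true := by decide +kernel
theorem w24s261 : Cov 24 8255305532 8288850364 :=
  cov_of pb12 qb cl12 cl12 w24r261 _ _ _ (by decide +kernel)
theorem w24r262 : wins P12 Qn 12 736 600 2096552 16 8288849764 = true := by decide +kernel
theorem w24s262 : Cov 24 8288850364 8322395196 :=
  cov_of pb12 qb cl12 cl12 w24r262 _ _ _ (by decide +kernel)
theorem w24r263 : wins P12 Qn 12 515 600 2096552 6 8322394596 = true := by decide +kernel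
theorem w24s263 : Cov 24 8322395196 8334974508 :=
  cov_of pb12 qb cl12 cl12 w24r263 _ _ _ (by decide +kernel)

theorem cov24b : Cov 24 4162836028 8334974508 :=
  ((((((w24s139.app (w24s140.app w24s141)).app ((w24s142.app w24s143).app (w24s144.app w24s145))).app (((w24s146.app w24s147).app (w24s148.app w24s149)).app ((w24s150.app w24s151).app (w24s152.app w24s153)))).app ((((w24s154.app w24s155).app (w24s156.app w24s157)).app ((w24s158.app w24s159).app (w24s160.app w24s161))).app (((w24s162.app w24s163).app (w24s164.app w24s165)).app ((w24s166.app w24s167).app (w24s168.app w24s169))))).app ((((w24s170.app (w24s171.app w24s172)).app ((w24s173.app w24s174).app (w24s175.app w24s176))).app (((w24s177.app w24s178).app (w24s179.app w24s180)).app ((w24s181.app w24s182).app (w24s183.app w24s184)))).app ((((w24s185.app w24s186).app (w24s187.app w24s188)).app ((w24s189.app w24s190).app (w24s191.app w24s192))).app (((w24s193.app w24s194).app (w24s195.app w24s196)).app ((w24s197.app w24s198).app (w24s199.app w24s200)))))).app (((((w24s201.app (w24s202.app w24s203)).app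 ((w24s204.app w24s205).app (w24s206.app w24s207))).app (((w24s208.app w24s209).app (w24s210.app w24s211)).app ((w24s212.app w24s213).app (w24s214.app w24s215)))).app ((((w24s216.app w24s217).app (w24s218.app w24s219)).app ((w24s220.app w24s221).app (w24s222.app w24s223))).app (((w24s224.app w24s225).app (w24s226.app w24s227)).app ((w24s228.app w24s229).app (w24s230.app w24s231))))).app (((((w24s232.app w24s233).app (w24s234.app w24s235)).app ((w24s236.app w24s237).app (w24s238.app w24s239))).app (((w24s240.app w24s241).app (w24s242.app w24s243)).app ((w24s244.app w24s245).app (w24s246.app w24s247)))).app ((((w24s248.app w24s249).app (w24s250.app w24s251)).app ((w24s252.app w24s253).app (w24s254.app w24s255))).app (((w24s256.app w24s257).app (w24s258.app w24s259)).app ((w24s260.app w24s261).app (w24s262.app w24s263)))))))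

end Cfsg.Agent.Depth.F
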