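import Cfsg.Agent.Depth.F.P20
import Cfsg.Agent.Depth.F.Q

/-! The numbers `30 M + 40` as sums `(p + 1) + (q + 1)`, part 1. -/

set_option autoImplicit false
set_option Elab.async false

namespace Cfsg.Agent.Depth.F

theorem w40r0 : wins P20 (Nat.factorial 708) 20 21 30 100 1 130 = true := by decide +kernel
theorem w40s0 : Cov 40 160 260 :=
  cov_of pb20 qb0 cl20 cl20 w40r0 _ _ _ (by decide +kernel)
theorem w40r1 : wins P20 (Nat.factorial 708) 20 14 30 200 1 230 = true := by decide +kernel
theorem w40s1 : Cov 40 260 460 :=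
  cov_of pb20 qb0 cl20 cl20 w40r1 _ _ _ (by decide +kernel)
theorem w40r2 : wins P20 (Nat.factorial 708) 20 17 30 400 1 430 = true := by decide +kernel
theorem w40s2 : Cov 40 460 860 :=
  cov_of pb20 qb0 cl20 cl20 w40r2 _ _ _ (by decide +kernel)
theorem w40r3 : wins P20 (Nat.factorial 708) 20 35 30 800 1 830 = true := by decide +kernel
theorem w40s3 : Cov 40 860 1660 :=
  cov_of pb20 qb0 cl20 cl20 w40r3 _ _ _ (by decide +kernel)
theorem w40r4 : wins P20 (Nat.factorial 708) 20 49 30 1600 1 1630 = true := by decide +kernel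
theorem w40s4 : Cov 40 1660 3260 :=
  cov_of pb20 qb0 cl20 cl20 w40r4 _ _ _ (by decide +kernel)
theorem w40r5 : wins P20 (Nat.factorial 708) 20 63 30 3200 1 3230 = true := by decide +kernel
theorem w40s5 : Cov 40 3260 6460 :=
  cov_of pb20 qb0 cl20 cl20 w40r5 _ _ _ (by decide +kernel)
theorem w40r6 : wins P20 (Nat.factorial 708) 20 95 30 6400 1 6430 = true := by decide +kernel
theorem w40s6 : Cov 40 6460 12860 :=
  cov_of pb20 qb0 cl20 cl20 w40r6 _ _ _ (by decide +kernel)
theorem w40r7 : wins P20 (Nat.factorial 708) 20 88 30 12800 1 12830 = true := by decide +kernel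
theorem w40s7 : Cov 40 12860 25660 :=
  cov_of pb20 qb0 cl20 cl20 w40r7 _ _ _ (by decide +kernel)
theorem w40r8 : wins P20 Qn 20 91 30 25600 1 25630 = true := by decide +kernel
theorem w40s8 : Cov 40 25660 51260 :=
  cov_of pb20 qb cl20 cl20 w40r8 _ _ _ (by decide +kernel)
theorem w40r9 : wins P20 Qn 20 125 30 51200 1 51230 = true := by decide +kernel
theorem w40s9 : Cov 40 51260 102460 :=
  cov_of pb20 qb cl20 cl20 w40r9 _ _ _ (by decide +kernel)
theorem w40r10 : wins P20 Qn 20 208 30 102400 1 102430 = true := by decide +kernel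
theorem w40s10 : Cov 40 102460 204860 :=
  cov_of pb20 qb cl20 cl20 w40r10 _ _ _ (by decide +kernel)
theorem w40r11 : wins P20 Qn 20 245 30 204800 1 204830 = true := by decide +kernel
theorem w40s11 : Cov 40 204860 409660 :=
  cov_of pb20 qb cl20 cl20 w40r11 _ _ _ (by decide +kernel)
theorem w40r12 : wins P20 Qn 20 231 30 409600 1 409630 = true := by decide +kernel
theorem w40s12 : Cov 40 409660 819260 :=
  cov_of pb20 qb cl20 cl20 w40r12 _ _ _ (by decide +kernel)
theorem w40r13 : wins P20 Qn 20 258 30 819200 1 819230 = true := by decide +kernel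
theorem w40s13 : Cov 40 819260 1638460 :=
  cov_of pb20 qb cl20 cl20 w40r13 _ _ _ (by decide +kernel)
theorem w40r14 : wins P20 Qn 20 247 30 1638400 1 1638430 = true := by decide +kernel
theorem w40s14 : Cov 40 1638460 3276860 :=
  cov_of pb20 qb cl20 cl20 w40r14 _ _ _ (by decide +kernel)
theorem w40r15 : wins P20 Qn 20 456 600 2096552 16 3276260 = true := by decide +kernel
theorem w40s15 : Cov 40 3276860 36821692 :=
  cov_of pb20 qb cl20 cl20 w40r15 _ _ _ (by decide +kernel)
theorem w40r16 : wins P20 Qn 20 450 600 2096552 16 36821092 = true := by decide +kernel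
theorem w40s16 : Cov 40 36821692 70366524 :=
  cov_of pb20 qb cl20 cl20 w40r16 _ _ _ (by decide +kernel)
theorem w40r17 : wins P20 Qn 20 477 600 2096552 16 70365924 = true := by decide +kernel
theorem w40s17 : Cov 40 70366524 103911356 :=
  cov_of pb20 qb cl20 cl20 w40r17 _ _ _ (by decide +kernel)
theorem w40r18 : wins P20 Qn 20 466 600 2096552 16 103910756 = true := by decide +kernel
theorem w40s18 : Cov 40 103911356 137456188 :=
  cov_of pb20 qb cl20 cl20 w40r18 _ _ _ (by decide +kernel)
theorem w40r19 : wins P20 Qn 20 448 600 2096552 16 137455588 = true := by decide +kernel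
theorem w40s19 : Cov 40 137456188 171001020 :=
  cov_of pb20 qb cl20 cl20 w40r19 _ _ _ (by decide +kernel)
theorem w40r20 : wins P20 Qn 20 560 600 2096552 16 171000420 = true := by decide +kernel
theorem w40s20 : Cov 40 171001020 204545852 :=
  cov_of pb20 qb cl20 cl20 w40r20 _ _ _ (by decide +kernel)
theorem w40r21 : wins P20 Qn 20 573 600 2096552 16 204545252 = true := by decide +kernel
theorem w40s21 : Cov 40 204545852 238090684 :=
  cov_of pb20 qb cl20 cl20 w40r21 _ _ _ (by decide +kernel)
theorem w40r22 : wins P20 Qn 20 464 600 2096552 16 238090084 = true := by decide +kernel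
theorem w40s22 : Cov 40 238090684 271635516 :=
  cov_of pb20 qb cl20 cl20 w40r22 _ _ _ (by decide +kernel)
theorem w40r23 : wins P20 Qn 20 478 600 2096552 16 271634916 = true := by decide +kernel
theorem w40s23 : Cov 40 271635516 305180348 :=
  cov_of pb20 qb cl20 cl20 w40r23 _ _ _ (by decide +kernel)
theorem w40r24 : wins P20 Qn 20 516 600 2096552 16 305179748 = true := by decide +kernel
theorem w40s24 : Cov 40 305180348 338725180 :=
  cov_of pb20 qb cl20 cl20 w40r24 _ _ _ (by decide +kernel)
theorem w40r25 : wins P20 Qn 20 506 600 2096552 16 338724580 = true := by decide +kernel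
theorem w40s25 : Cov 40 338725180 372270012 :=
  cov_of pb20 qb cl20 cl20 w40r25 _ _ _ (by decide +kernel)
theorem w40r26 : wins P20 Qn 20 517 600 2096552 16 372269412 = true := by decide +kernel
theorem w40s26 : Cov 40 372270012 405814844 :=
  cov_of pb20 qb cl20 cl20 w40r26 _ _ _ (by decide +kernel)
theorem w40r27 : wins P20 Qn 20 469 600 2096552 16 405814244 = true := by decide +kernel
theorem w40s27 : Cov 40 405814844 439359676 :=
  cov_of pb20 qb cl20 cl20 w40r27 _ _ _ (by decide +kernel)
theorem w40r28 : wins P20 Qn 20 517 600 2096552 16 439359076 = true := by decide +kernel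
theorem w40s28 : Cov 40 439359676 472904508 :=
  cov_of pb20 qb cl20 cl20 w40r28 _ _ _ (by decide +kernel)
theorem w40r29 : wins P20 Qn 20 553 600 2096552 16 472903908 = true := by decide +kernel
theorem w40s29 : Cov 40 472904508 506449340 :=
  cov_of pb20 qb cl20 cl20 w40r29 _ _ _ (by decide +kernel)
theorem w40r30 : wins P20 Qn 20 539 600 2096552 16 506448740 = true := by decide +kernel
theorem w40s30 : Cov 40 506449340 539994172 :=
  cov_of pb20 qb cl20 cl20 w40r30 _ _ _ (by decide +kernel)
theorem w40r31 : wins P20 Qn 20 524 600 2096552 16 539993572 = true := by decide +kernel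
theorem w40s31 : Cov 40 539994172 573539004 :=
  cov_of pb20 qb cl20 cl20 w40r31 _ _ _ (by decide +kernel)
theorem w40r32 : wins P20 Qn 20 530 600 2096552 16 573538404 = true := by decide +kernel
theorem w40s32 : Cov 40 573539004 607083836 :=
  cov_of pb20 qb cl20 cl20 w40r32 _ _ _ (by decide +kernel)
theorem w40r33 : wins P20 Qn 20 533 600 2096552 16 607083236 = true := by decide +kernel
theorem w40s33 : Cov 40 607083836 640628668 :=
  cov_of pb20 qb cl20 cl20 w40r33 _ _ _ (by decide +kernel)
theorem w40r34 : wins P20 Qn 20 498 600 2096552 16 640628068 = true := by decide +kernel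
theorem w40s34 : Cov 40 640628668 674173500 :=
  cov_of pb20 qb cl20 cl20 w40r34 _ _ _ (by decide +kernel)
theorem w40r35 : wins P20 Qn 20 511 600 2096552 16 674172900 = true := by decide +kernel
theorem w40s35 : Cov 40 674173500 707718332 :=
  cov_of pb20 qb cl20 cl20 w40r35 _ _ _ (by decide +kernel)
theorem w40r36 : wins P20 Qn 20 486 600 2096552 16 707717732 = true := by decide +kernel
theorem w40s36 : Cov 40 707718332 741263164 :=
  cov_of pb20 qb cl20 cl20 w40r36 _ _ _ (by decide +kernel)
theorem w40r37 : wins P20 Qn 20 549 600 2096552 16 741262564 = true := by decide +kernel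
theorem w40s37 : Cov 40 741263164 774807996 :=
  cov_of pb20 qb cl20 cl20 w40r37 _ _ _ (by decide +kernel)
theorem w40r38 : wins P20 Qn 20 550 600 2096552 16 774807396 = true := by decide +kernel
theorem w40s38 : Cov 40 774807996 808352828 :=
  cov_of pb20 qb cl20 cl20 w40r38 _ _ _ (by decide +kernel)
theorem w40r39 : wins P20 Qn 20 559 600 2096552 16 808352228 = true := by decide +kernel
theorem w40s39 : Cov 40 808352828 841897660 :=
  cov_of pb20 qb cl20 cl20 w40r39 _ _ _ (by decide +kernel)
theorem w40r40 : wins P20 Qn 20 601 600 2096552 16 841897060 = true := by decide +kernel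
theorem w40s40 : Cov 40 841897660 875442492 :=
  cov_of pb20 qb cl20 cl20 w40r40 _ _ _ (by decide +kernel)
theorem w40r41 : wins P20 Qn 20 590 600 2096552 16 875441892 = true := by decide +kernel
theorem w40s41 : Cov 40 875442492 908987324 :=
  cov_of pb20 qb cl20 cl20 w40r41 _ _ _ (by decide +kernel)
theorem w40r42 : wins P20 Qn 20 553 600 2096552 16 908986724 = true := by decide +kernel
theorem w40s42 : Cov 40 908987324 942532156 :=
  cov_of pb20 qb cl20 cl20 w40r42 _ _ _ (by decide +kernel)
theorem w40r43 : wins P20 Qn 20 553 600 2096552 16 942531556 = true := by decide +kernel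
theorem w40s43 : Cov 40 942532156 976076988 :=
  cov_of pb20 qb cl20 cl20 w40r43 _ _ _ (by decide +kernel)
theorem w40r44 : wins P20 Qn 20 625 600 2096552 16 976076388 = true := by decide +kernel
theorem w40s44 : Cov 40 976076988 1009621820 :=
  cov_of pb20 qb cl20 cl20 w40r44 _ _ _ (by decide +kernel)
theorem w40r45 : wins P20 Qn 20 493 600 2096552 16 1009621220 = true := by decide +kernel
theorem w40s45 : Cov 40 1009621820 1043166652 :=
  cov_of pb20 qb cl20 cl20 w40r45 _ _ _ (by decide +kernel)
theorem w40r46 : wins P20 Qn 20 580 600 2096552 16 1043166052 = true := by decide +kernel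
theorem w40s46 : Cov 40 1043166652 1076711484 :=
  cov_of pb20 qb cl20 cl20 w40r46 _ _ _ (by decide +kernel)
theorem w40r47 : wins P20 Qn 20 545 600 2096552 16 1076710884 = true := by decide +kernel
theorem w40s47 : Cov 40 1076711484 1110256316 :=
  cov_of pb20 qb cl20 cl20 w40r47 _ _ _ (by decide +kernel)
theorem w40r48 : wins P20 Qn 20 517 600 2096552 16 1110255716 = true := by decide +kernel
theorem w40s48 : Cov 40 1110256316 1143801148 :=
  cov_of pb20 qb cl20 cl20 w40r48 _ _ _ (by decide +kernel)
theorem w40r49 : wins P20 Qn 20 523 600 2096552 16 1143800548 = true := by decide +kernel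
theorem w40s49 : Cov 40 1143801148 1177345980 :=
  cov_of pb20 qb cl20 cl20 w40r49 _ _ _ (by decide +kernel)
theorem w40r50 : wins P20 Qn 20 512 600 2096552 16 1177345380 = true := by decide +kernel
theorem w40s50 : Cov 40 1177345980 1210890812 :=
  cov_of pb20 qb cl20 cl20 w40r50 _ _ _ (by decide +kernel)
theorem w40r51 : wins P20 Qn 20 497 600 2096552 16 1210890212 = true := by decide +kernel
theorem w40s51 : Cov 40 1210890812 1244435644 :=
  cov_of pb20 qb cl20 cl20 w40r51 _ _ _ (by decide +kernel)
theorem w40r52 : wins P20 Qn 20 555 600 2096552 16 1244435044 = true := by decide +kernel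
theorem w40s52 : Cov 40 1244435644 1277980476 :=
  cov_of pb20 qb cl20 cl20 w40r52 _ _ _ (by decide +kernel)
theorem w40r53 : wins P20 Qn 20 600 600 2096552 16 1277979876 = true := by decide +kernel
theorem w40s53 : Cov 40 1277980476 1311525308 :=
  cov_of pb20 qb cl20 cl20 w40r53 _ _ _ (by decide +kernel)
theorem w40r54 : wins P20 Qn 20 557 600 2096552 16 1311524708 = true := by decide +kernel
theorem w40s54 : Cov 40 1311525308 1345070140 :=
  cov_of pb20 qb cl20 cl20 w40r54 _ _ _ (by decide +kernel)
theorem w40r55 : wins P20 Qn 20 566 600 2096552 16 1345069540 = true := by decide +kernel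
theorem w40s55 : Cov 40 1345070140 1378614972 :=
  cov_of pb20 qb cl20 cl20 w40r55 _ _ _ (by decide +kernel)
theorem w40r56 : wins P20 Qn 20 555 600 2096552 16 1378614372 = true := by decide +kernel
theorem w40s56 : Cov 40 1378614972 1412159804 :=
  cov_of pb20 qb cl20 cl20 w40r56 _ _ _ (by decide +kernel)
theorem w40r57 : wins P20 Qn 20 508 600 2096552 16 1412159204 = true := by decide +kernel
theorem w40s57 : Cov 40 1412159804 1445704636 :=
  cov_of pb20 qb cl20 cl20 w40r57 _ _ _ (by decide +kernel)
theorem w40r58 : wins P20 Qn 20 583 600 2096552 16 1445704036 = true := by decide +kernel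
theorem w40s58 : Cov 40 1445704636 1479249468 :=
  cov_of pb20 qb cl20 cl20 w40r58 _ _ _ (by decide +kernel)
theorem w40r59 : wins P20 Qn 20 537 600 2096552 16 1479248868 = true := by decide +kernel
theorem w40s59 : Cov 40 1479249468 1512794300 :=
  cov_of pb20 qb cl20 cl20 w40r59 _ _ _ (by decide +kernel)
theorem w40r60 : wins P20 Qn 20 572 600 2096552 16 1512793700 = true := by decide +kernel
theorem w40s60 : Cov 40 1512794300 1546339132 :=
  cov_of pb20 qb cl20 cl20 w40r60 _ _ _ (by decide +kernel)
theorem w40r61 : wins P20 Qn 20 550 600 2096552 16 1546338532 = true := by decide +kernel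
theorem w40s61 : Cov 40 1546339132 1579883964 :=
  cov_of pb20 qb cl20 cl20 w40r61 _ _ _ (by decide +kernel)
theorem w40r62 : wins P20 Qn 20 575 600 2096552 16 1579883364 = true := by decide +kernel
theorem w40s62 : Cov 40 1579883964 1613428796 :=
  cov_of pb20 qb cl20 cl20 w40r62 _ _ _ (by decide +kernel)
theorem w40r63 : wins P20 Qn 20 521 600 2096552 16 1613428196 = true := by decide +kernel
theorem w40s63 : Cov 40 1613428796 1646973628 :=
  cov_of pb20 qb cl20 cl20 w40r63 _ _ _ (by decide +kernel)
theorem w40r64 : wins P20 Qn 20 515 600 2096552 16 1646973028 = true := by decide +kernel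
theorem w40s64 : Cov 40 1646973628 1680518460 :=
  cov_of pb20 qb cl20 cl20 w40r64 _ _ _ (by decide +kernel)
theorem w40r65 : wins P20 Qn 20 563 600 2096552 16 1680517860 = true := by decide +kernel
theorem w40s65 : Cov 40 1680518460 1714063292 :=
  cov_of pb20 qb cl20 cl20 w40r65 _ _ _ (by decide +kernel)
theorem w40r66 : wins P20 Qn 20 619 600 2096552 16 1714062692 = true := by decide +kernel
theorem w40s66 : Cov 40 1714063292 1747608124 :=
  cov_of pb20 qb cl20 cl20 w40r66 _ _ _ (by decide +kernel)
theorem w40r67 : wins P20 Qn 20 567 600 2096552 16 1747607524 = true := by decide +kernel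
theorem w40s67 : Cov 40 1747608124 1781152956 :=
  cov_of pb20 qb cl20 cl20 w40r67 _ _ _ (by decide +kernel)
theorem w40r68 : wins P20 Qn 20 551 600 2096552 16 1781152356 = true := by decide +kernel
theorem w40s68 : Cov 40 1781152956 1814697788 :=
  cov_of pb20 qb cl20 cl20 w40r68 _ _ _ (by decide +kernel)
theorem w40r69 : wins P20 Qn 20 602 600 2096552 16 1814697188 = true := by decide +kernel
theorem w40s69 : Cov 40 1814697788 1848242620 :=
  cov_of pb20 qb cl20 cl20 w40r69 _ _ _ (by decide +kernel)
theorem w40r70 : wins P20 Qn 20 549 600 2096552 16 1848242020 = true := by decide +kernel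
theorem w40s70 : Cov 40 1848242620 1881787452 :=
  cov_of pb20 qb cl20 cl20 w40r70 _ _ _ (by decide +kernel)
theorem w40r71 : wins P20 Qn 20 602 600 2096552 16 1881786852 = true := by decide +kernel
theorem w40s71 : Cov 40 1881787452 1915332284 :=
  cov_of pb20 qb cl20 cl20 w40r71 _ _ _ (by decide +kernel)
theorem w40r72 : wins P20 Qn 20 522 600 2096552 16 1915331684 = true := by decide +kernel
theorem w40s72 : Cov 40 1915332284 1948877116 :=
  cov_of pb20 qb cl20 cl20 w40r72 _ _ _ (by decide +kernel)
theorem w40r73 : wins P20 Qn 20 619 600 2096552 16 1948876516 = true := by decide +kernel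
theorem w40s73 : Cov 40 1948877116 1982421948 :=
  cov_of pb20 qb cl20 cl20 w40r73 _ _ _ (by decide +kernel)
theorem w40r74 : wins P20 Qn 20 539 600 2096552 16 1982421348 = true := by decide +kernel
theorem w40s74 : Cov 40 1982421948 2015966780 :=
  cov_of pb20 qb cl20 cl20 w40r74 _ _ _ (by decide +kernel)
theorem w40r75 : wins P20 Qn 20 642 600 2096552 16 2015966180 = true := by decide +kernel
theorem w40s75 : Cov 40 2015966780 2049511612 :=
  cov_of pb20 qb cl20 cl20 w40r75 _ _ _ (by decide +kernel)
theorem w40r76 : wins P20 Qn 20 601 600 2096552 16 2049511012 = true := by decide +kernel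
theorem w40s76 : Cov 40 2049511612 2083056444 :=
  cov_of pb20 qb cl20 cl20 w40r76 _ _ _ (by decide +kernel)
theorem w40r77 : wins P20 Qn 20 580 600 2096552 16 2083055844 = true := by decide +kernel
theorem w40s77 : Cov 40 2083056444 2116601276 :=
  cov_of pb20 qb cl20 cl20 w40r77 _ _ _ (by decide +kernel)
theorem w40r78 : wins P20 Qn 20 627 600 2096552 16 2116600676 = true := by decide +kernel
theorem w40s78 : Cov 40 2116601276 2150146108 :=
  cov_of pb20 qb cl20 cl20 w40r78 _ _ _ (by decide +kernel)
theorem w40r79 : wins P20 Qn 20 588 600 2096552 16 2150145508 = true := by decide +kernel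
theorem w40s79 : Cov 40 2150146108 2183690940 :=
  cov_of pb20 qb cl20 cl20 w40r79 _ _ _ (by decide +kernel)
theorem w40r80 : wins P20 Qn 20 536 600 2096552 16 2183690340 = true := by decide +kernel
theorem w40s80 : Cov 40 2183690940 2217235772 :=
  cov_of pb20 qb cl20 cl20 w40r80 _ _ _ (by decide +kernel)
theorem w40r81 : wins P20 Qn 20 479 600 2096552 16 2217235172 = true := by decide +kernel
theorem w40s81 : Cov 40 2217235772 2250780604 :=
  cov_of pb20 qb cl20 cl20 w40r81 _ _ _ (by decide +kernel)
theorem w40r82 : wins P20 Qn 20 601 600 2096552 16 2250780004 = true := by decide +kernel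
theorem w40s82 : Cov 40 2250780604 2284325436 :=
  cov_of pb20 qb cl20 cl20 w40r82 _ _ _ (by decide +kernel)
theorem w40r83 : wins P20 Qn 20 543 600 2096552 16 2284324836 = true := by decide +kernel
theorem w40s83 : Cov 40 2284325436 2317870268 :=
  cov_of pb20 qb cl20 cl20 w40r83 _ _ _ (by decide +kernel)
theorem w40r84 : wins P20 Qn 20 563 600 2096552 16 2317869668 = true := by decide +kernel
theorem w40s84 : Cov 40 2317870268 2351415100 :=
  cov_of pb20 qb cl20 cl20 w40r84 _ _ _ (by decide +kernel)
theorem w40r85 : wins P20 Qn 20 559 600 2096552 16 2351414500 = true := by decide +kernel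
theorem w40s85 : Cov 40 2351415100 2384959932 :=
  cov_of pb20 qb cl20 cl20 w40r85 _ _ _ (by decide +kernel)
theorem w40r86 : wins P20 Qn 20 582 600 2096552 16 2384959332 = true := by decide +kernel
theorem w40s86 : Cov 40 2384959932 2418504764 :=
  cov_of pb20 qb cl20 cl20 w40r86 _ _ _ (by decide +kernel)
theorem w40r87 : wins P20 Qn 20 563 600 2096552 16 2418504164 = true := by decide +kernel
theorem w40s87 : Cov 40 2418504764 2452049596 :=
  cov_of pb20 qb cl20 cl20 w40r87 _ _ _ (by decide +kernel)
theorem w40r88 : wins P20 Qn 20 503 600 2096552 16 2452048996 = true := by decide +kernel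
theorem w40s88 : Cov 40 2452049596 2485594428 :=
  cov_of pb20 qb cl20 cl20 w40r88 _ _ _ (by decide +kernel)
theorem w40r89 : wins P20 Qn 20 756 600 2096552 16 2485593828 = true := by decide +kernel
theorem w40s89 : Cov 40 2485594428 2519139260 :=
  cov_of pb20 qb cl20 cl20 w40r89 _ _ _ (by decide +kernel)
theorem w40r90 : wins P20 Qn 20 559 600 2096552 16 2519138660 = true := by decide +kernel
theorem w40s90 : Cov 40 2519139260 2552684092 :=
  cov_of pb20 qb cl20 cl20 w40r90 _ _ _ (by decide +kernel)
theorem w40r91 : wins P20 Qn 20 591 600 2096552 16 2552683492 = true := by decide +kernel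
theorem w40s91 : Cov 40 2552684092 2586228924 :=
  cov_of pb20 qb cl20 cl20 w40r91 _ _ _ (by decide +kernel)
theorem w40r92 : wins P20 Qn 20 595 600 2096552 16 2586228324 = true := by decide +kernel
theorem w40s92 : Cov 40 2586228924 2619773756 :=
  cov_of pb20 qb cl20 cl20 w40r92 _ _ _ (by decide +kernel)
theorem w40r93 : wins P20 Qn 20 548 600 2096552 16 2619773156 = true := by decide +kernel
theorem w40s93 : Cov 40 2619773756 2653318588 :=
  cov_of pb20 qb cl20 cl20 w40r93 _ _ _ (by decide +kernel)
theorem w40r94 : wins P20 Qn 20 548 600 2096552 16 2653317988 = true := by decide +kernel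
theorem w40s94 : Cov 40 2653318588 2686863420 :=
  cov_of pb20 qb cl20 cl20 w40r94 _ _ _ (by decide +kernel)
theorem w40r95 : wins P20 Qn 20 601 600 2096552 16 2686862820 = true := by decide +kernel
theorem w40s95 : Cov 40 2686863420 2720408252 :=
  cov_of pb20 qb cl20 cl20 w40r95 _ _ _ (by decide +kernel)
theorem w40r96 : wins P20 Qn 20 535 600 2096552 16 2720407652 = true := by decide +kernel
theorem w40s96 : Cov 40 2720408252 2753953084 :=
  cov_of pb20 qb cl20 cl20 w40r96 _ _ _ (by decide +kernel)
theorem w40r97 : wins P20 Qn 20 544 600 2096552 16 2753952484 = true := by decide +kernel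
theorem w40s97 : Cov 40 2753953084 2787497916 :=
  cov_of pb20 qb cl20 cl20 w40r97 _ _ _ (by decide +kernel)
theorem w40r98 : wins P20 Qn 20 625 600 2096552 16 2787497316 = true := by decide +kernel
theorem w40s98 : Cov 40 2787497916 2821042748 :=
  cov_of pb20 qb cl20 cl20 w40r98 _ _ _ (by decide +kernel)
theorem w40r99 : wins P20 Qn 20 534 600 2096552 16 2821042148 = true := by decide +kernel
theorem w40s99 : Cov 40 2821042748 2854587580 :=
  cov_of pb20 qb cl20 cl20 w40r99 _ _ _ (by decide +kernel)
theorem w40r100 : wins P20 Qn 20 628 600 2096552 16 2854586980 = true := by decide +kernel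
theorem w40s100 : Cov 40 2854587580 2888132412 :=
  cov_of pb20 qb cl20 cl20 w40r100 _ _ _ (by decide +kernel)
theorem w40r101 : wins P20 Qn 20 613 600 2096552 16 2888131812 = true := by decide +kernel
theorem w40s101 : Cov 40 2888132412 2921677244 :=
  cov_of pb20 qb cl20 cl20 w40r101 _ _ _ (by decide +kernel)
theorem w40r102 : wins P20 Qn 20 626 600 2096552 16 2921676644 = true := by decide +kernel
theorem w40s102 : Cov 40 2921677244 2955222076 :=
  cov_of pb20 qb cl20 cl20 w40r102 _ _ _ (by decide +kernel)
theorem w40r103 : wins P20 Qn 20 587 600 2096552 16 2955221476 = true := by decide +kernel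
theorem w40s103 : Cov 40 2955222076 2988766908 :=
  cov_of pb20 qb cl20 cl20 w40r103 _ _ _ (by decide +kernel)
theorem w40r104 : wins P20 Qn 20 550 600 2096552 16 2988766308 = true := by decide +kernel
theorem w40s104 : Cov 40 2988766908 3022311740 :=
  cov_of pb20 qb cl20 cl20 w40r104 _ _ _ (by decide +kernel)
theorem w40r105 : wins P20 Qn 20 588 600 2096552 16 3022311140 = true := by decide +kernel
theorem w40s105 : Cov 40 3022311740 3055856572 :=
  cov_of pb20 qb cl20 cl20 w40r105 _ _ _ (by decide +kernel)
theorem w40r106 : wins P20 Qn 20 561 600 2096552 16 3055855972 = true := by decide +kernel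
theorem w40s106 : Cov 40 3055856572 3089401404 :=
  cov_of pb20 qb cl20 cl20 w40r106 _ _ _ (by decide +kernel)
theorem w40r107 : wins P20 Qn 20 529 600 2096552 16 3089400804 = true := by decide +kernel
theorem w40s107 : Cov 40 3089401404 3122946236 :=
  cov_of pb20 qb cl20 cl20 w40r107 _ _ _ (by decide +kernel)
theorem w40r108 : wins P20 Qn 20 625 600 2096552 16 3122945636 = true := by decide +kernel
theorem w40s108 : Cov 40 3122946236 3156491068 :=
  cov_of pb20 qb cl20 cl20 w40r108 _ _ _ (by decide +kernel)
theorem w40r109 : wins P20 Qn 20 536 600 2096552 16 3156490468 = true := by decide +kernel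
theorem w40s109 : Cov 40 3156491068 3190035900 :=
  cov_of pb20 qb cl20 cl20 w40r109 _ _ _ (by decide +kernel)
theorem w40r110 : wins P20 Qn 20 560 600 2096552 16 3190035300 = true := by decide +kernel
theorem w40s110 : Cov 40 3190035900 3223580732 :=
  cov_of pb20 qb cl20 cl20 w40r110 _ _ _ (by decide +kernel)
theorem w40r111 : wins P20 Qn 20 547 600 2096552 16 3223580132 = true := by decide +kernel
theorem w40s111 : Cov 40 3223580732 3257125564 :=
  cov_of pb20 qb cl20 cl20 w40r111 _ _ _ (by decide +kernel)
theorem w40r112 : wins P20 Qn 20 591 600 2096552 16 3257124964 = true := by decide +kernel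
theorem w40s112 : Cov 40 3257125564 3290670396 :=
  cov_of pb20 qb cl20 cl20 w40r112 _ _ _ (by decide +kernel)
theorem w40r113 : wins P20 Qn 20 601 600 2096552 16 3290669796 = true := by decide +kernel
theorem w40s113 : Cov 40 3290670396 3324215228 :=
  cov_of pb20 qb cl20 cl20 w40r113 _ _ _ (by decide +kernel)
theorem w40r114 : wins P20 Qn 20 542 600 2096552 16 3324214628 = true := by decide +kernel
theorem w40s114 : Cov 40 3324215228 3357760060 :=
  cov_of pb20 qb cl20 cl20 w40r114 _ _ _ (by decide +kernel)
theorem w40r115 : wins P20 Qn 20 573 600 2096552 16 3357759460 = true := by decide +kernel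
theorem w40s115 : Cov 40 3357760060 3391304892 :=
  cov_of pb20 qb cl20 cl20 w40r115 _ _ _ (by decide +kernel)
theorem w40r116 : wins P20 Qn 20 642 600 2096552 16 3391304292 = true := by decide +kernel
theorem w40s116 : Cov 40 3391304892 3424849724 :=
  cov_of pb20 qb cl20 cl20 w40r116 _ _ _ (by decide +kernel)
theorem w40r117 : wins P20 Qn 20 544 600 2096552 16 3424849124 = true := by decide +kernel
theorem w40s117 : Cov 40 3424849724 3458394556 :=
  cov_of pb20 qb cl20 cl20 w40r117 _ _ _ (by decide +kernel)
theorem w40r118 : wins P20 Qn 20 554 600 2096552 16 3458393956 = true := by decide +kernel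
theorem w40s118 : Cov 40 3458394556 3491939388 :=
  cov_of pb20 qb cl20 cl20 w40r118 _ _ _ (by decide +kernel)
theorem w40r119 : wins P20 Qn 20 638 600 2096552 16 3491938788 = true := by decide +kernel
theorem w40s119 : Cov 40 3491939388 3525484220 :=
  cov_of pb20 qb cl20 cl20 w40r119 _ _ _ (by decide +kernel)
theorem w40r120 : wins P20 Qn 20 504 600 2096552 16 3525483620 = true := by decide +kernel
theorem w40s120 : Cov 40 3525484220 3559029052 :=
  cov_of pb20 qb cl20 cl20 w40r120 _ _ _ (by decide +kernel)
theorem w40r121 : wins P20 Qn 20 621 600 2096552 16 3559028452 = true := by decide +kernel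
theorem w40s121 : Cov 40 3559029052 3592573884 :=
  cov_of pb20 qb cl20 cl20 w40r121 _ _ _ (by decide +kernel)
theorem w40r122 : wins P20 Qn 20 635 600 2096552 16 3592573284 = true := by decide +kernel
theorem w40s122 : Cov 40 3592573884 3626118716 :=
  cov_of pb20 qb cl20 cl20 w40r122 _ _ _ (by decide +kernel)
theorem w40r123 : wins P20 Qn 20 534 600 2096552 16 3626118116 = true := by decide +kernel
theorem w40s123 : Cov 40 3626118716 3659663548 :=
  cov_of pb20 qb cl20 cl20 w40r123 _ _ _ (by decide +kernel)
theorem w40r124 : wins P20 Qn 20 577 600 2096552 16 3659662948 = true := by decide +kernel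
theorem w40s124 : Cov 40 3659663548 3693208380 :=
  cov_of pb20 qb cl20 cl20 w40r124 _ _ _ (by decide +kernel)
theorem w40r125 : wins P20 Qn 20 576 600 2096552 16 3693207780 = true := by decide +kernel
theorem w40s125 : Cov 40 3693208380 3726753212 :=
  cov_of pb20 qb cl20 cl20 w40r125 _ _ _ (by decide +kernel)
theorem w40r126 : wins P20 Qn 20 623 600 2096552 16 3726752612 = true := by decide +kernel
theorem w40s126 : Cov 40 3726753212 3760298044 :=
  cov_of pb20 qb cl20 cl20 w40r126 _ _ _ (by decide +kernel)
theorem w40r127 : wins P20 Qn 20 567 600 2096552 16 3760297444 = true := by decide +kernel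
theorem w40s127 : Cov 40 3760298044 3793842876 :=
  cov_of pb20 qb cl20 cl20 w40r127 _ _ _ (by decide +kernel)
theorem w40r128 : wins P20 Qn 20 638 600 2096552 16 3793842276 = true := by decide +kernel
theorem w40s128 : Cov 40 3793842876 3827387708 :=
  cov_of pb20 qb cl20 cl20 w40r128 _ _ _ (by decide +kernel)
theorem w40r129 : wins P20 Qn 20 557 600 2096552 16 3827387108 = true := by decide +kernel
theorem w40s129 : Cov 40 3827387708 3860932540 :=
  cov_of pb20 qb cl20 cl20 w40r129 _ _ _ (by decide +kernel)
theorem w40r130 : wins P20 Qn 20 672 600 2096552 16 3860931940 = true := by decide +kernel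
theorem w40s130 : Cov 40 3860932540 3894477372 :=
  cov_of pb20 qb cl20 cl20 w40r130 _ _ _ (by decide +kernel)
theorem w40r131 : wins P20 Qn 20 533 600 2096552 16 3894476772 = true := by decide +kernel
theorem w40s131 : Cov 40 3894477372 3928022204 :=
  cov_of pb20 qb cl20 cl20 w40r131 _ _ _ (by decide +kernel)
theorem w40r132 : wins P20 Qn 20 557 600 2096552 16 3928021604 = true := by decide +kernel
theorem w40s132 : Cov 40 3928022204 3961567036 :=
  cov_of pb20 qb cl20 cl20 w40r132 _ _ _ (by decide +kernel)
theorem w40r133 : wins P20 Qn 20 587 600 2096552 16 3961566436 = true := by decide +kernel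
theorem w40s133 : Cov 40 3961567036 3995111868 :=
  cov_of pb20 qb cl20 cl20 w40r133 _ _ _ (by decide +kernel)
theorem w40r134 : wins P20 Qn 20 555 600 2096552 16 3995111268 = true := by decide +kernel
theorem w40s134 : Cov 40 3995111868 4028656700 :=
  cov_of pb20 qb cl20 cl20 w40r134 _ _ _ (by decide +kernel)
theorem w40r135 : wins P20 Qn 20 565 600 2096552 16 4028656100 = true := by decide +kernel
theorem w40s135 : Cov 40 4028656700 4062201532 :=
  cov_of pb20 qb cl20 cl20 w40r135 _ _ _ (by decide +kernel)
theorem w40r136 : wins P20 Qn 20 603 600 2096552 16 4062200932 = true := by decide +kernel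
theorem w40s136 : Cov 40 4062201532 4095746364 :=
  cov_of pb20 qb cl20 cl20 w40r136 _ _ _ (by decide +kernel)
theorem w40r137 : wins P20 Qn 20 595 600 2096552 16 4095745764 = true := by decide +kernel
theorem w40s137 : Cov 40 4095746364 4129291196 :=
  cov_of pb20 qb cl20 cl20 w40r137 _ _ _ (by decide +kernel)
theorem w40r138 : wins P20 Qn 20 589 600 2096552 16 4129290596 = true := by decide +kernel
theorem w40s138 : Cov 40 4129291196 4162836028 :=
  cov_of pb20 qb cl20 cl20 w40r138 _ _ _ (by decide +kernel)

theorem cov40a : Cov 40 160 4162836028 :=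
  (((((((w40s0.app w40s1).app (w40s2.app w40s3)).app ((w40s4.app w40s5).app (w40s6.app w40s7))).app (((w40s8.app w40s9).app (w40s10.app w40s11)).app ((w40s12.app w40s13).app (w40s14.app (w40s15.app w40s16))))).app ((((w40s17.app w40s18).app (w40s19.app w40s20)).app ((w40s21.app w40s22).app (w40s23.app w40s24))).app (((w40s25.app w40s26).app (w40s27.app w40s28)).app ((w40s29.app w40s30).app (w40s31.app (w40s32.app w40s33)))))).app (((((w40s34.app w40s35).app (w40s36.app w40s37)).app ((w40s38.app w40s39).app (w40s40.app w40s41))).app (((w40s42.app w40s43).app (w40s44.app w40s45)).app ((w40s46.app w40s47).app (w40s48.app (w40s49.app w40s50))))).app ((((w40s51.app w40s52).app (w40s53.app w40s54)).app ((w40s55.app w40s56).app (w40s57.app (w40s58.app w40s59)))).app (((w40s60.app w40s61).app (w40s62.app w40s63)).app ((w40s64.app w40s65).app (w40s66.app (w40s67.app w40s68))))))).app ((((((w40s69.app w40s70).app (w40s71.app w40s72)).app ((w40s73.app w40s74).app (w40s75.app w40s76))).app (((w40s77.app w40s78).app (w40s79.app w40s80)).app ((w40s81.app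 w40s82).app (w40s83.app (w40s84.app w40s85))))).app ((((w40s86.app w40s87).app (w40s88.app w40s89)).app ((w40s90.app w40s91).app (w40s92.app (w40s93.app w40s94)))).app (((w40s95.app w40s96).app (w40s97.app w40s98)).app ((w40s99.app w40s100).app (w40s101.app (w40s102.app w40s103)))))).app (((((w40s104.app w40s105).app (w40s106.app w40s107)).app ((w40s108.app w40s109).app (w40s110.app w40s111))).app (((w40s112.app w40s113).app (w40s114.app w40s115)).app ((w40s116.app w40s117).app (w40s118.app (w40s119.app w40s120))))).app ((((w40s121.app w40s122).app (w40s123.app w40s124)).app ((w40s125.app w40s126).app (w40s127.app (w40s128.app w40s129)))).app (((w40s130.app w40s131).app (w40s132.app w40s133)).app ((w40s134.app w40s135).app (w40s136.app (w40s137.app w40s138))))))))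

end Cfsg.Agent.Depth.F
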