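import Cfsg.Agent.Depth.F.P20
import Cfsg.Agent.Depth.F.Q

/-! The numbers `30 M + 40` as sums `(p + 1) + (q + 1)`, part 2. -/

set_option autoImplicit false
set_option Elab.async false

namespace Cfsg.Agent.Depth.F

theorem w40r139 : wins P20 Qn 20 541 600 2096552 16 4162835428 = true := by decide +kernel
theorem w40s139 : Cov 40 4162836028 4196380860 :=
  cov_of pb20 qb cl20 cl20 w40r139 _ _ _ (by decide +kernel)
theorem w40r140 : wins P20 Qn 20 573 600 2096552 16 4196380260 = true := by decide +kernel
theorem w40s140 : Cov 40 4196380860 4229925692 :=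
  cov_of pb20 qb cl20 cl20 w40r140 _ _ _ (by decide +kernel)
theorem w40r141 : wins P20 Qn 20 583 600 2096552 16 4229925092 = true := by decide +kernel
theorem w40s141 : Cov 40 4229925692 4263470524 :=
  cov_of pb20 qb cl20 cl20 w40r141 _ _ _ (by decide +kernel)
theorem w40r142 : wins P20 Qn 20 619 600 2096552 16 4263469924 = true := by decide +kernel
theorem w40s142 : Cov 40 4263470524 4297015356 :=
  cov_of pb20 qb cl20 cl20 w40r142 _ _ _ (by decide +kernel)
theorem w40r143 : wins P20 Qn 20 570 600 2096552 16 4297014756 = true := by decide +kernel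
theorem w40s143 : Cov 40 4297015356 4330560188 :=
  cov_of pb20 qb cl20 cl20 w40r143 _ _ _ (by decide +kernel)
theorem w40r144 : wins P20 Qn 20 613 600 2096552 16 4330559588 = true := by decide +kernel
theorem w40s144 : Cov 40 4330560188 4364105020 :=
  cov_of pb20 qb cl20 cl20 w40r144 _ _ _ (by decide +kernel)
theorem w40r145 : wins P20 Qn 20 602 600 2096552 16 4364104420 = true := by decide +kernel
theorem w40s145 : Cov 40 4364105020 4397649852 :=
  cov_of pb20 qb cl20 cl20 w40r145 _ _ _ (by decide +kernel)
theorem w40r146 : wins P20 Qn 20 585 600 2096552 16 4397649252 = true := by decide +kernel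
theorem w40s146 : Cov 40 4397649852 4431194684 :=
  cov_of pb20 qb cl20 cl20 w40r146 _ _ _ (by decide +kernel)
theorem w40r147 : wins P20 Qn 20 526 600 2096552 16 4431194084 = true := by decide +kernel
theorem w40s147 : Cov 40 4431194684 4464739516 :=
  cov_of pb20 qb cl20 cl20 w40r147 _ _ _ (by decide +kernel)
theorem w40r148 : wins P20 Qn 20 582 600 2096552 16 4464738916 = true := by decide +kernel
theorem w40s148 : Cov 40 4464739516 4498284348 :=
  cov_of pb20 qb cl20 cl20 w40r148 _ _ _ (by decide +kernel)
theorem w40r149 : wins P20 Qn 20 537 600 2096552 16 4498283748 = true := by decide +kernel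
theorem w40s149 : Cov 40 4498284348 4531829180 :=
  cov_of pb20 qb cl20 cl20 w40r149 _ _ _ (by decide +kernel)
theorem w40r150 : wins P20 Qn 20 580 600 2096552 16 4531828580 = true := by decide +kernel
theorem w40s150 : Cov 40 4531829180 4565374012 :=
  cov_of pb20 qb cl20 cl20 w40r150 _ _ _ (by decide +kernel)
theorem w40r151 : wins P20 Qn 20 628 600 2096552 16 4565373412 = true := by decide +kernel
theorem w40s151 : Cov 40 4565374012 4598918844 :=
  cov_of pb20 qb cl20 cl20 w40r151 _ _ _ (by decide +kernel)
theorem w40r152 : wins P20 Qn 20 551 600 2096552 16 4598918244 = true := by decide +kernel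
theorem w40s152 : Cov 40 4598918844 4632463676 :=
  cov_of pb20 qb cl20 cl20 w40r152 _ _ _ (by decide +kernel)
theorem w40r153 : wins P20 Qn 20 566 600 2096552 16 4632463076 = true := by decide +kernel
theorem w40s153 : Cov 40 4632463676 4666008508 :=
  cov_of pb20 qb cl20 cl20 w40r153 _ _ _ (by decide +kernel)
theorem w40r154 : wins P20 Qn 20 589 600 2096552 16 4666007908 = true := by decide +kernel
theorem w40s154 : Cov 40 4666008508 4699553340 :=
  cov_of pb20 qb cl20 cl20 w40r154 _ _ _ (by decide +kernel)
theorem w40r155 : wins P20 Qn 20 608 600 2096552 16 4699552740 = true := by decide +kernel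
theorem w40s155 : Cov 40 4699553340 4733098172 :=
  cov_of pb20 qb cl20 cl20 w40r155 _ _ _ (by decide +kernel)
theorem w40r156 : wins P20 Qn 20 598 600 2096552 16 4733097572 = true := by decide +kernel
theorem w40s156 : Cov 40 4733098172 4766643004 :=
  cov_of pb20 qb cl20 cl20 w40r156 _ _ _ (by decide +kernel)
theorem w40r157 : wins P20 Qn 20 572 600 2096552 16 4766642404 = true := by decide +kernel
theorem w40s157 : Cov 40 4766643004 4800187836 :=
  cov_of pb20 qb cl20 cl20 w40r157 _ _ _ (by decide +kernel)
theorem w40r158 : wins P20 Qn 20 501 600 2096552 16 4800187236 = true := by decide +kernel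
theorem w40s158 : Cov 40 4800187836 4833732668 :=
  cov_of pb20 qb cl20 cl20 w40r158 _ _ _ (by decide +kernel)
theorem w40r159 : wins P20 Qn 20 607 600 2096552 16 4833732068 = true := by decide +kernel
theorem w40s159 : Cov 40 4833732668 4867277500 :=
  cov_of pb20 qb cl20 cl20 w40r159 _ _ _ (by decide +kernel)
theorem w40r160 : wins P20 Qn 20 599 600 2096552 16 4867276900 = true := by decide +kernel
theorem w40s160 : Cov 40 4867277500 4900822332 :=
  cov_of pb20 qb cl20 cl20 w40r160 _ _ _ (by decide +kernel)
theorem w40r161 : wins P20 Qn 20 685 600 2096552 16 4900821732 = true := by decide +kernel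
theorem w40s161 : Cov 40 4900822332 4934367164 :=
  cov_of pb20 qb cl20 cl20 w40r161 _ _ _ (by decide +kernel)
theorem w40r162 : wins P20 Qn 20 577 600 2096552 16 4934366564 = true := by decide +kernel
theorem w40s162 : Cov 40 4934367164 4967911996 :=
  cov_of pb20 qb cl20 cl20 w40r162 _ _ _ (by decide +kernel)
theorem w40r163 : wins P20 Qn 20 662 600 2096552 16 4967911396 = true := by decide +kernel
theorem w40s163 : Cov 40 4967911996 5001456828 :=
  cov_of pb20 qb cl20 cl20 w40r163 _ _ _ (by decide +kernel)
theorem w40r164 : wins P20 Qn 20 517 600 2096552 16 5001456228 = true := by decide +kernel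
theorem w40s164 : Cov 40 5001456828 5035001660 :=
  cov_of pb20 qb cl20 cl20 w40r164 _ _ _ (by decide +kernel)
theorem w40r165 : wins P20 Qn 20 528 600 2096552 16 5035001060 = true := by decide +kernel
theorem w40s165 : Cov 40 5035001660 5068546492 :=
  cov_of pb20 qb cl20 cl20 w40r165 _ _ _ (by decide +kernel)
theorem w40r166 : wins P20 Qn 20 675 600 2096552 16 5068545892 = true := by decide +kernel
theorem w40s166 : Cov 40 5068546492 5102091324 :=
  cov_of pb20 qb cl20 cl20 w40r166 _ _ _ (by decide +kernel)
theorem w40r167 : wins P20 Qn 20 620 600 2096552 16 5102090724 = true := by decide +kernel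
theorem w40s167 : Cov 40 5102091324 5135636156 :=
  cov_of pb20 qb cl20 cl20 w40r167 _ _ _ (by decide +kernel)
theorem w40r168 : wins P20 Qn 20 580 600 2096552 16 5135635556 = true := by decide +kernel
theorem w40s168 : Cov 40 5135636156 5169180988 :=
  cov_of pb20 qb cl20 cl20 w40r168 _ _ _ (by decide +kernel)
theorem w40r169 : wins P20 Qn 20 567 600 2096552 16 5169180388 = true := by decide +kernel
theorem w40s169 : Cov 40 5169180988 5202725820 :=
  cov_of pb20 qb cl20 cl20 w40r169 _ _ _ (by decide +kernel)
theorem w40r170 : wins P20 Qn 20 653 600 2096552 16 5202725220 = true := by decide +kernel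
theorem w40s170 : Cov 40 5202725820 5236270652 :=
  cov_of pb20 qb cl20 cl20 w40r170 _ _ _ (by decide +kernel)
theorem w40r171 : wins P20 Qn 20 524 600 2096552 16 5236270052 = true := by decide +kernel
theorem w40s171 : Cov 40 5236270652 5269815484 :=
  cov_of pb20 qb cl20 cl20 w40r171 _ _ _ (by decide +kernel)
theorem w40r172 : wins P20 Qn 20 599 600 2096552 16 5269814884 = true := by decide +kernel
theorem w40s172 : Cov 40 5269815484 5303360316 :=
  cov_of pb20 qb cl20 cl20 w40r172 _ _ _ (by decide +kernel)
theorem w40r173 : wins P20 Qn 20 584 600 2096552 16 5303359716 = true := by decide +kernel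
theorem w40s173 : Cov 40 5303360316 5336905148 :=
  cov_of pb20 qb cl20 cl20 w40r173 _ _ _ (by decide +kernel)
theorem w40r174 : wins P20 Qn 20 557 600 2096552 16 5336904548 = true := by decide +kernel
theorem w40s174 : Cov 40 5336905148 5370449980 :=
  cov_of pb20 qb cl20 cl20 w40r174 _ _ _ (by decide +kernel)
theorem w40r175 : wins P20 Qn 20 560 600 2096552 16 5370449380 = true := by decide +kernel
theorem w40s175 : Cov 40 5370449980 5403994812 :=
  cov_of pb20 qb cl20 cl20 w40r175 _ _ _ (by decide +kernel)
theorem w40r176 : wins P20 Qn 20 623 600 2096552 16 5403994212 = true := by decide +kernel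
theorem w40s176 : Cov 40 5403994812 5437539644 :=
  cov_of pb20 qb cl20 cl20 w40r176 _ _ _ (by decide +kernel)
theorem w40r177 : wins P20 Qn 20 613 600 2096552 16 5437539044 = true := by decide +kernel
theorem w40s177 : Cov 40 5437539644 5471084476 :=
  cov_of pb20 qb cl20 cl20 w40r177 _ _ _ (by decide +kernel)
theorem w40r178 : wins P20 Qn 20 580 600 2096552 16 5471083876 = true := by decide +kernel
theorem w40s178 : Cov 40 5471084476 5504629308 :=
  cov_of pb20 qb cl20 cl20 w40r178 _ _ _ (by decide +kernel)
theorem w40r179 : wins P20 Qn 20 566 600 2096552 16 5504628708 = true := by decide +kernel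
theorem w40s179 : Cov 40 5504629308 5538174140 :=
  cov_of pb20 qb cl20 cl20 w40r179 _ _ _ (by decide +kernel)
theorem w40r180 : wins P20 Qn 20 624 600 2096552 16 5538173540 = true := by decide +kernel
theorem w40s180 : Cov 40 5538174140 5571718972 :=
  cov_of pb20 qb cl20 cl20 w40r180 _ _ _ (by decide +kernel)
theorem w40r181 : wins P20 Qn 20 600 600 2096552 16 5571718372 = true := by decide +kernel
theorem w40s181 : Cov 40 5571718972 5605263804 :=
  cov_of pb20 qb cl20 cl20 w40r181 _ _ _ (by decide +kernel)
theorem w40r182 : wins P20 Qn 20 580 600 2096552 16 5605263204 = true := by decide +kernel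
theorem w40s182 : Cov 40 5605263804 5638808636 :=
  cov_of pb20 qb cl20 cl20 w40r182 _ _ _ (by decide +kernel)
theorem w40r183 : wins P20 Qn 20 654 600 2096552 16 5638808036 = true := by decide +kernel
theorem w40s183 : Cov 40 5638808636 5672353468 :=
  cov_of pb20 qb cl20 cl20 w40r183 _ _ _ (by decide +kernel)
theorem w40r184 : wins P20 Qn 20 742 600 2096552 16 5672352868 = true := by decide +kernel
theorem w40s184 : Cov 40 5672353468 5705898300 :=
  cov_of pb20 qb cl20 cl20 w40r184 _ _ _ (by decide +kernel)
theorem w40r185 : wins P20 Qn 20 533 600 2096552 16 5705897700 = true := by decide +kernel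
theorem w40s185 : Cov 40 5705898300 5739443132 :=
  cov_of pb20 qb cl20 cl20 w40r185 _ _ _ (by decide +kernel)
theorem w40r186 : wins P20 Qn 20 510 600 2096552 16 5739442532 = true := by decide +kernel
theorem w40s186 : Cov 40 5739443132 5772987964 :=
  cov_of pb20 qb cl20 cl20 w40r186 _ _ _ (by decide +kernel)
theorem w40r187 : wins P20 Qn 20 553 600 2096552 16 5772987364 = true := by decide +kernel
theorem w40s187 : Cov 40 5772987964 5806532796 :=
  cov_of pb20 qb cl20 cl20 w40r187 _ _ _ (by decide +kernel)
theorem w40r188 : wins P20 Qn 20 606 600 2096552 16 5806532196 = true := by decide +kernel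
theorem w40s188 : Cov 40 5806532796 5840077628 :=
  cov_of pb20 qb cl20 cl20 w40r188 _ _ _ (by decide +kernel)
theorem w40r189 : wins P20 Qn 20 567 600 2096552 16 5840077028 = true := by decide +kernel
theorem w40s189 : Cov 40 5840077628 5873622460 :=
  cov_of pb20 qb cl20 cl20 w40r189 _ _ _ (by decide +kernel)
theorem w40r190 : wins P20 Qn 20 535 600 2096552 16 5873621860 = true := by decide +kernel
theorem w40s190 : Cov 40 5873622460 5907167292 :=
  cov_of pb20 qb cl20 cl20 w40r190 _ _ _ (by decide +kernel)
theorem w40r191 : wins P20 Qn 20 526 600 2096552 16 5907166692 = true := by decide +kernel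
theorem w40s191 : Cov 40 5907167292 5940712124 :=
  cov_of pb20 qb cl20 cl20 w40r191 _ _ _ (by decide +kernel)
theorem w40r192 : wins P20 Qn 20 615 600 2096552 16 5940711524 = true := by decide +kernel
theorem w40s192 : Cov 40 5940712124 5974256956 :=
  cov_of pb20 qb cl20 cl20 w40r192 _ _ _ (by decide +kernel)
theorem w40r193 : wins P20 Qn 20 536 600 2096552 16 5974256356 = true := by decide +kernel
theorem w40s193 : Cov 40 5974256956 6007801788 :=
  cov_of pb20 qb cl20 cl20 w40r193 _ _ _ (by decide +kernel)
theorem w40r194 : wins P20 Qn 20 545 600 2096552 16 6007801188 = true := by decide +kernel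
theorem w40s194 : Cov 40 6007801788 6041346620 :=
  cov_of pb20 qb cl20 cl20 w40r194 _ _ _ (by decide +kernel)
theorem w40r195 : wins P20 Qn 20 566 600 2096552 16 6041346020 = true := by decide +kernel
theorem w40s195 : Cov 40 6041346620 6074891452 :=
  cov_of pb20 qb cl20 cl20 w40r195 _ _ _ (by decide +kernel)
theorem w40r196 : wins P20 Qn 20 632 600 2096552 16 6074890852 = true := by decide +kernel
theorem w40s196 : Cov 40 6074891452 6108436284 :=
  cov_of pb20 qb cl20 cl20 w40r196 _ _ _ (by decide +kernel)
theorem w40r197 : wins P20 Qn 20 661 600 2096552 16 6108435684 = true := by decide +kernel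
theorem w40s197 : Cov 40 6108436284 6141981116 :=
  cov_of pb20 qb cl20 cl20 w40r197 _ _ _ (by decide +kernel)
theorem w40r198 : wins P20 Qn 20 500 600 2096552 16 6141980516 = true := by decide +kernel
theorem w40s198 : Cov 40 6141981116 6175525948 :=
  cov_of pb20 qb cl20 cl20 w40r198 _ _ _ (by decide +kernel)
theorem w40r199 : wins P20 Qn 20 566 600 2096552 16 6175525348 = true := by decide +kernel
theorem w40s199 : Cov 40 6175525948 6209070780 :=
  cov_of pb20 qb cl20 cl20 w40r199 _ _ _ (by decide +kernel)
theorem w40r200 : wins P20 Qn 20 565 600 2096552 16 6209070180 = true := by decide +kernel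
theorem w40s200 : Cov 40 6209070780 6242615612 :=
  cov_of pb20 qb cl20 cl20 w40r200 _ _ _ (by decide +kernel)
theorem w40r201 : wins P20 Qn 20 630 600 2096552 16 6242615012 = true := by decide +kernel
theorem w40s201 : Cov 40 6242615612 6276160444 :=
  cov_of pb20 qb cl20 cl20 w40r201 _ _ _ (by decide +kernel)
theorem w40r202 : wins P20 Qn 20 609 600 2096552 16 6276159844 = true := by decide +kernel
theorem w40s202 : Cov 40 6276160444 6309705276 :=
  cov_of pb20 qb cl20 cl20 w40r202 _ _ _ (by decide +kernel)
theorem w40r203 : wins P20 Qn 20 608 600 2096552 16 6309704676 = true := by decide +kernel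
theorem w40s203 : Cov 40 6309705276 6343250108 :=
  cov_of pb20 qb cl20 cl20 w40r203 _ _ _ (by decide +kernel)
theorem w40r204 : wins P20 Qn 20 525 600 2096552 16 6343249508 = true := by decide +kernel
theorem w40s204 : Cov 40 6343250108 6376794940 :=
  cov_of pb20 qb cl20 cl20 w40r204 _ _ _ (by decide +kernel)
theorem w40r205 : wins P20 Qn 20 610 600 2096552 16 6376794340 = true := by decide +kernel
theorem w40s205 : Cov 40 6376794940 6410339772 :=
  cov_of pb20 qb cl20 cl20 w40r205 _ _ _ (by decide +kernel)
theorem w40r206 : wins P20 Qn 20 583 600 2096552 16 6410339172 = true := by decide +kernel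
theorem w40s206 : Cov 40 6410339772 6443884604 :=
  cov_of pb20 qb cl20 cl20 w40r206 _ _ _ (by decide +kernel)
theorem w40r207 : wins P20 Qn 20 592 600 2096552 16 6443884004 = true := by decide +kernel
theorem w40s207 : Cov 40 6443884604 6477429436 :=
  cov_of pb20 qb cl20 cl20 w40r207 _ _ _ (by decide +kernel)
theorem w40r208 : wins P20 Qn 20 595 600 2096552 16 6477428836 = true := by decide +kernel
theorem w40s208 : Cov 40 6477429436 6510974268 :=
  cov_of pb20 qb cl20 cl20 w40r208 _ _ _ (by decide +kernel)
theorem w40r209 : wins P20 Qn 20 601 600 2096552 16 6510973668 = true := by decide +kernel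
theorem w40s209 : Cov 40 6510974268 6544519100 :=
  cov_of pb20 qb cl20 cl20 w40r209 _ _ _ (by decide +kernel)
theorem w40r210 : wins P20 Qn 20 604 600 2096552 16 6544518500 = true := by decide +kernel
theorem w40s210 : Cov 40 6544519100 6578063932 :=
  cov_of pb20 qb cl20 cl20 w40r210 _ _ _ (by decide +kernel)
theorem w40r211 : wins P20 Qn 20 650 600 2096552 16 6578063332 = true := by decide +kernel
theorem w40s211 : Cov 40 6578063932 6611608764 :=
  cov_of pb20 qb cl20 cl20 w40r211 _ _ _ (by decide +kernel)
theorem w40r212 : wins P20 Qn 20 639 600 2096552 16 6611608164 = true := by decide +kernel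
theorem w40s212 : Cov 40 6611608764 6645153596 :=
  cov_of pb20 qb cl20 cl20 w40r212 _ _ _ (by decide +kernel)
theorem w40r213 : wins P20 Qn 20 537 600 2096552 16 6645152996 = true := by decide +kernel
theorem w40s213 : Cov 40 6645153596 6678698428 :=
  cov_of pb20 qb cl20 cl20 w40r213 _ _ _ (by decide +kernel)
theorem w40r214 : wins P20 Qn 20 539 600 2096552 16 6678697828 = true := by decide +kernel
theorem w40s214 : Cov 40 6678698428 6712243260 :=
  cov_of pb20 qb cl20 cl20 w40r214 _ _ _ (by decide +kernel)
theorem w40r215 : wins P20 Qn 20 559 600 2096552 16 6712242660 = true := by decide +kernel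
theorem w40s215 : Cov 40 6712243260 6745788092 :=
  cov_of pb20 qb cl20 cl20 w40r215 _ _ _ (by decide +kernel)
theorem w40r216 : wins P20 Qn 20 566 600 2096552 16 6745787492 = true := by decide +kernel
theorem w40s216 : Cov 40 6745788092 6779332924 :=
  cov_of pb20 qb cl20 cl20 w40r216 _ _ _ (by decide +kernel)
theorem w40r217 : wins P20 Qn 20 590 600 2096552 16 6779332324 = true := by decide +kernel
theorem w40s217 : Cov 40 6779332924 6812877756 :=
  cov_of pb20 qb cl20 cl20 w40r217 _ _ _ (by decide +kernel)
theorem w40r218 : wins P20 Qn 20 576 600 2096552 16 6812877156 = true := by decide +kernel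
theorem w40s218 : Cov 40 6812877756 6846422588 :=
  cov_of pb20 qb cl20 cl20 w40r218 _ _ _ (by decide +kernel)
theorem w40r219 : wins P20 Qn 20 693 600 2096552 16 6846421988 = true := by decide +kernel
theorem w40s219 : Cov 40 6846422588 6879967420 :=
  cov_of pb20 qb cl20 cl20 w40r219 _ _ _ (by decide +kernel)
theorem w40r220 : wins P20 Qn 20 605 600 2096552 16 6879966820 = true := by decide +kernel
theorem w40s220 : Cov 40 6879967420 6913512252 :=
  cov_of pb20 qb cl20 cl20 w40r220 _ _ _ (by decide +kernel)
theorem w40r221 : wins P20 Qn 20 649 600 2096552 16 6913511652 = true := by decide +kernel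
theorem w40s221 : Cov 40 6913512252 6947057084 :=
  cov_of pb20 qb cl20 cl20 w40r221 _ _ _ (by decide +kernel)
theorem w40r222 : wins P20 Qn 20 547 600 2096552 16 6947056484 = true := by decide +kernel
theorem w40s222 : Cov 40 6947057084 6980601916 :=
  cov_of pb20 qb cl20 cl20 w40r222 _ _ _ (by decide +kernel)
theorem w40r223 : wins P20 Qn 20 582 600 2096552 16 6980601316 = true := by decide +kernel
theorem w40s223 : Cov 40 6980601916 7014146748 :=
  cov_of pb20 qb cl20 cl20 w40r223 _ _ _ (by decide +kernel)
theorem w40r224 : wins P20 Qn 20 666 600 2096552 16 7014146148 = true := by decide +kernel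
theorem w40s224 : Cov 40 7014146748 7047691580 :=
  cov_of pb20 qb cl20 cl20 w40r224 _ _ _ (by decide +kernel)
theorem w40r225 : wins P20 Qn 20 613 600 2096552 16 7047690980 = true := by decide +kernel
theorem w40s225 : Cov 40 7047691580 7081236412 :=
  cov_of pb20 qb cl20 cl20 w40r225 _ _ _ (by decide +kernel)
theorem w40r226 : wins P20 Qn 20 582 600 2096552 16 7081235812 = true := by decide +kernel
theorem w40s226 : Cov 40 7081236412 7114781244 :=
  cov_of pb20 qb cl20 cl20 w40r226 _ _ _ (by decide +kernel)
theorem w40r227 : wins P20 Qn 20 570 600 2096552 16 7114780644 = true := by decide +kernel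
theorem w40s227 : Cov 40 7114781244 7148326076 :=
  cov_of pb20 qb cl20 cl20 w40r227 _ _ _ (by decide +kernel)
theorem w40r228 : wins P20 Qn 20 544 600 2096552 16 7148325476 = true := by decide +kernel
theorem w40s228 : Cov 40 7148326076 7181870908 :=
  cov_of pb20 qb cl20 cl20 w40r228 _ _ _ (by decide +kernel)
theorem w40r229 : wins P20 Qn 20 610 600 2096552 16 7181870308 = true := by decide +kernel
theorem w40s229 : Cov 40 7181870908 7215415740 :=
  cov_of pb20 qb cl20 cl20 w40r229 _ _ _ (by decide +kernel)
theorem w40r230 : wins P20 Qn 20 554 600 2096552 16 7215415140 = true := by decide +kernel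
theorem w40s230 : Cov 40 7215415740 7248960572 :=
  cov_of pb20 qb cl20 cl20 w40r230 _ _ _ (by decide +kernel)
theorem w40r231 : wins P20 Qn 20 517 600 2096552 16 7248959972 = true := by decide +kernel
theorem w40s231 : Cov 40 7248960572 7282505404 :=
  cov_of pb20 qb cl20 cl20 w40r231 _ _ _ (by decide +kernel)
theorem w40r232 : wins P20 Qn 20 536 600 2096552 16 7282504804 = true := by decide +kernel
theorem w40s232 : Cov 40 7282505404 7316050236 :=
  cov_of pb20 qb cl20 cl20 w40r232 _ _ _ (by decide +kernel)
theorem w40r233 : wins P20 Qn 20 632 600 2096552 16 7316049636 = true := by decide +kernel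
theorem w40s233 : Cov 40 7316050236 7349595068 :=
  cov_of pb20 qb cl20 cl20 w40r233 _ _ _ (by decide +kernel)
theorem w40r234 : wins P20 Qn 20 555 600 2096552 16 7349594468 = true := by decide +kernel
theorem w40s234 : Cov 40 7349595068 7383139900 :=
  cov_of pb20 qb cl20 cl20 w40r234 _ _ _ (by decide +kernel)
theorem w40r235 : wins P20 Qn 20 600 600 2096552 16 7383139300 = true := by decide +kernel
theorem w40s235 : Cov 40 7383139900 7416684732 :=
  cov_of pb20 qb cl20 cl20 w40r235 _ _ _ (by decide +kernel)
theorem w40r236 : wins P20 Qn 20 563 600 2096552 16 7416684132 = true := by decide +kernel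
theorem w40s236 : Cov 40 7416684732 7450229564 :=
  cov_of pb20 qb cl20 cl20 w40r236 _ _ _ (by decide +kernel)
theorem w40r237 : wins P20 Qn 20 595 600 2096552 16 7450228964 = true := by decide +kernel
theorem w40s237 : Cov 40 7450229564 7483774396 :=
  cov_of pb20 qb cl20 cl20 w40r237 _ _ _ (by decide +kernel)
theorem w40r238 : wins P20 Qn 20 537 600 2096552 16 7483773796 = true := by decide +kernel
theorem w40s238 : Cov 40 7483774396 7517319228 :=
  cov_of pb20 qb cl20 cl20 w40r238 _ _ _ (by decide +kernel)
theorem w40r239 : wins P20 Qn 20 510 600 2096552 16 7517318628 = true := by decide +kernel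
theorem w40s239 : Cov 40 7517319228 7550864060 :=
  cov_of pb20 qb cl20 cl20 w40r239 _ _ _ (by decide +kernel)
theorem w40r240 : wins P20 Qn 20 633 600 2096552 16 7550863460 = true := by decide +kernel
theorem w40s240 : Cov 40 7550864060 7584408892 :=
  cov_of pb20 qb cl20 cl20 w40r240 _ _ _ (by decide +kernel)
theorem w40r241 : wins P20 Qn 20 557 600 2096552 16 7584408292 = true := by decide +kernel
theorem w40s241 : Cov 40 7584408892 7617953724 :=
  cov_of pb20 qb cl20 cl20 w40r241 _ _ _ (by decide +kernel)
theorem w40r242 : wins P20 Qn 20 676 600 2096552 16 7617953124 = true := by decide +kernel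
theorem w40s242 : Cov 40 7617953724 7651498556 :=
  cov_of pb20 qb cl20 cl20 w40r242 _ _ _ (by decide +kernel)
theorem w40r243 : wins P20 Qn 20 774 600 2096552 16 7651497956 = true := by decide +kernel
theorem w40s243 : Cov 40 7651498556 7685043388 :=
  cov_of pb20 qb cl20 cl20 w40r243 _ _ _ (by decide +kernel)
theorem w40r244 : wins P20 Qn 20 727 600 2096552 16 7685042788 = true := by decide +kernel
theorem w40s244 : Cov 40 7685043388 7718588220 :=
  cov_of pb20 qb cl20 cl20 w40r244 _ _ _ (by decide +kernel)
theorem w40r245 : wins P20 Qn 20 586 600 2096552 16 7718587620 = true := by decide +kernel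
theorem w40s245 : Cov 40 7718588220 7752133052 :=
  cov_of pb20 qb cl20 cl20 w40r245 _ _ _ (by decide +kernel)
theorem w40r246 : wins P20 Qn 20 562 600 2096552 16 7752132452 = true := by decide +kernel
theorem w40s246 : Cov 40 7752133052 7785677884 :=
  cov_of pb20 qb cl20 cl20 w40r246 _ _ _ (by decide +kernel)
theorem w40r247 : wins P20 Qn 20 589 600 2096552 16 7785677284 = true := by decide +kernel
theorem w40s247 : Cov 40 7785677884 7819222716 :=
  cov_of pb20 qb cl20 cl20 w40r247 _ _ _ (by decide +kernel)
theorem w40r248 : wins P20 Qn 20 627 600 2096552 16 7819222116 = true := by decide +kernel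
theorem w40s248 : Cov 40 7819222716 7852767548 :=
  cov_of pb20 qb cl20 cl20 w40r248 _ _ _ (by decide +kernel)
theorem w40r249 : wins P20 Qn 20 564 600 2096552 16 7852766948 = true := by decide +kernel
theorem w40s249 : Cov 40 7852767548 7886312380 :=
  cov_of pb20 qb cl20 cl20 w40r249 _ _ _ (by decide +kernel)
theorem w40r250 : wins P20 Qn 20 529 600 2096552 16 7886311780 = true := by decide +kernel
theorem w40s250 : Cov 40 7886312380 7919857212 :=
  cov_of pb20 qb cl20 cl20 w40r250 _ _ _ (by decide +kernel)
theorem w40r251 : wins P20 Qn 20 588 600 2096552 16 7919856612 = true := by decide +kernel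
theorem w40s251 : Cov 40 7919857212 7953402044 :=
  cov_of pb20 qb cl20 cl20 w40r251 _ _ _ (by decide +kernel)
theorem w40r252 : wins P20 Qn 20 604 600 2096552 16 7953401444 = true := by decide +kernel
theorem w40s252 : Cov 40 7953402044 7986946876 :=
  cov_of pb20 qb cl20 cl20 w40r252 _ _ _ (by decide +kernel)
theorem w40r253 : wins P20 Qn 20 574 600 2096552 16 7986946276 = true := by decide +kernel
theorem w40s253 : Cov 40 7986946876 8020491708 :=
  cov_of pb20 qb cl20 cl20 w40r253 _ _ _ (by decide +kernel)
theorem w40r254 : wins P20 Qn 20 571 600 2096552 16 8020491108 = true := by decide +kernel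
theorem w40s254 : Cov 40 8020491708 8054036540 :=
  cov_of pb20 qb cl20 cl20 w40r254 _ _ _ (by decide +kernel)
theorem w40r255 : wins P20 Qn 20 578 600 2096552 16 8054035940 = true := by decide +kernel
theorem w40s255 : Cov 40 8054036540 8087581372 :=
  cov_of pb20 qb cl20 cl20 w40r255 _ _ _ (by decide +kernel)
theorem w40r256 : wins P20 Qn 20 552 600 2096552 16 8087580772 = true := by decide +kernel
theorem w40s256 : Cov 40 8087581372 8121126204 :=
  cov_of pb20 qb cl20 cl20 w40r256 _ _ _ (by decide +kernel)
theorem w40r257 : wins P20 Qn 20 547 600 2096552 16 8121125604 = true := by decide +kernel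
theorem w40s257 : Cov 40 8121126204 8154671036 :=
  cov_of pb20 qb cl20 cl20 w40r257 _ _ _ (by decide +kernel)
theorem w40r258 : wins P20 Qn 20 529 600 2096552 16 8154670436 = true := by decide +kernel
theorem w40s258 : Cov 40 8154671036 8188215868 :=
  cov_of pb20 qb cl20 cl20 w40r258 _ _ _ (by decide +kernel)
theorem w40r259 : wins P20 Qn 20 632 600 2096552 16 8188215268 = true := by decide +kernel
theorem w40s259 : Cov 40 8188215868 8221760700 :=
  cov_of pb20 qb cl20 cl20 w40r259 _ _ _ (by decide +kernel)
theorem w40r260 : wins P20 Qn 20 554 600 2096552 16 8221760100 = true := by decide +kernel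
theorem w40s260 : Cov 40 8221760700 8255305532 :=
  cov_of pb20 qb cl20 cl20 w40r260 _ _ _ (by decide +kernel)
theorem w40r261 : wins P20 Qn 20 575 600 2096552 16 8255304932 = true := by decide +kernel
theorem w40s261 : Cov 40 8255305532 8288850364 :=
  cov_of pb20 qb cl20 cl20 w40r261 _ _ _ (by decide +kernel)
theorem w40r262 : wins P20 Qn 20 683 600 2096552 16 8288849764 = true := by decide +kernel
theorem w40s262 : Cov 40 8288850364 8322395196 :=
  cov_of pb20 qb cl20 cl20 w40r262 _ _ _ (by decide +kernel)
theorem w40r263 : wins P20 Qn 20 478 600 2096552 6 8322394596 = true := by decide +kernel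
theorem w40s263 : Cov 40 8322395196 8334974508 :=
  cov_of pb20 qb cl20 cl20 w40r263 _ _ _ (by decide +kernel)

theorem cov40b : Cov 40 4162836028 8334974508 :=
  ((((((w40s139.app (w40s140.app w40s141)).app ((w40s142.app w40s143).app (w40s144.app w40s145))).app (((w40s146.app w40s147).app (w40s148.app w40s149)).app ((w40s150.app w40s151).app (w40s152.app w40s153)))).app ((((w40s154.app w40s155).app (w40s156.app w40s157)).app ((w40s158.app w40s159).app (w40s160.app w40s161))).app (((w40s162.app w40s163).app (w40s164.app w40s165)).app ((w40s166.app w40s167).app (w40s168.app w40s169))))).app ((((w40s170.app (w40s171.app w40s172)).app ((w40s173.app w40s174).app (w40s175.app w40s176))).app (((w40s177.app w40s178).app (w40s179.app w40s180)).app ((w40s181.app w40s182).app (w40s183.app w40s184)))).app ((((w40s185.app w40s186).app (w40s187.app w40s188)).app ((w40s189.app w40s190).app (w40s191.app w40s192))).app (((w40s193.app w40s194).app (w40s195.app w40s196)).app ((w40s197.app w40s198).app (w40s199.app w40s200)))))).app (((((w40s201.app (w40s202.app w40s203)).app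 ((w40s204.app w40s205).app (w40s206.app w40s207))).app (((w40s208.app w40s209).app (w40s210.app w40s211)).app ((w40s212.app w40s213).app (w40s214.app w40s215)))).app ((((w40s216.app w40s217).app (w40s218.app w40s219)).app ((w40s220.app w40s221).app (w40s222.app w40s223))).app (((w40s224.app w40s225).app (w40s226.app w40s227)).app ((w40s228.app w40s229).app (w40s230.app w40s231))))).app (((((w40s232.app w40s233).app (w40s234.app w40s235)).app ((w40s236.app w40s237).app (w40s238.app w40s239))).app (((w40s240.app w40s241).app (w40s242.app w40s243)).app ((w40s244.app w40s245).app (w40s246.app w40s247)))).app ((((w40s248.app w40s249).app (w40s250.app w40s251)).app ((w40s252.app w40s253).app (w40s254.app w40s255))).app (((w40s256.app w40s257).app (w40s258.app w40s259)).app ((w40s260.app w40s261).app (w40s262.app w40s263)))))))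

end Cfsg.Agent.Depth.F
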