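import Cfsg.Agent.Depth.F.P2
import Cfsg.Agent.Depth.F.Q

/-! The numbers `30 M + 4` as sums `(p + 1) + (q + 1)`, part 1. -/

set_option autoImplicit false
set_option Elab.async false

namespace Cfsg.Agent.Depth.F

theorem w4r0 : wins P2 (Nat.factorial 708) 2 12 30 100 1 130 = true := by decide +kernel
theorem w4s0 : Cov 4 160 260 :=
  cov_of pb2 qb0 cl2 cl2 w4r0 _ _ _ (by decide +kernel)
theorem w4r1 : wins P2 (Nat.factorial 708) 2 25 30 200 1 230 = true := by decide +kernel
theorem w4s1 : Cov 4 260 460 :=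
  cov_of pb2 qb0 cl2 cl2 w4r1 _ _ _ (by decide +kernel)
theorem w4r2 : wins P2 (Nat.factorial 708) 2 35 30 400 1 430 = true := by decide +kernel
theorem w4s2 : Cov 4 460 860 :=
  cov_of pb2 qb0 cl2 cl2 w4r2 _ _ _ (by decide +kernel)
theorem w4r3 : wins P2 (Nat.factorial 708) 2 36 30 800 1 830 = true := by decide +kernel
theorem w4s3 : Cov 4 860 1660 :=
  cov_of pb2 qb0 cl2 cl2 w4r3 _ _ _ (by decide +kernel)
theorem w4r4 : wins P2 (Nat.factorial 708) 2 42 30 1600 1 1630 = true := by decide +kernel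
theorem w4s4 : Cov 4 1660 3260 :=
  cov_of pb2 qb0 cl2 cl2 w4r4 _ _ _ (by decide +kernel)
theorem w4r5 : wins P2 (Nat.factorial 708) 2 45 30 3200 1 3230 = true := by decide +kernel
theorem w4s5 : Cov 4 3260 6460 :=
  cov_of pb2 qb0 cl2 cl2 w4r5 _ _ _ (by decide +kernel)
theorem w4r6 : wins P2 (Nat.factorial 708) 2 75 30 6400 1 6430 = true := by decide +kernel
theorem w4s6 : Cov 4 6460 12860 :=
  cov_of pb2 qb0 cl2 cl2 w4r6 _ _ _ (by decide +kernel)
theorem w4r7 : wins P2 (Nat.factorial 708) 2 51 30 12800 1 12830 = true := by decide +kernel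
theorem w4s7 : Cov 4 12860 25660 :=
  cov_of pb2 qb0 cl2 cl2 w4r7 _ _ _ (by decide +kernel)
theorem w4r8 : wins P2 Qn 2 117 30 25600 1 25630 = true := by decide +kernel
theorem w4s8 : Cov 4 25660 51260 :=
  cov_of pb2 qb cl2 cl2 w4r8 _ _ _ (by decide +kernel)
theorem w4r9 : wins P2 Qn 2 110 30 51200 1 51230 = true := by decide +kernel
theorem w4s9 : Cov 4 51260 102460 :=
  cov_of pb2 qb cl2 cl2 w4r9 _ _ _ (by decide +kernel)
theorem w4r10 : wins P2 Qn 2 193 30 102400 1 102430 = true := by decide +kernel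
theorem w4s10 : Cov 4 102460 204860 :=
  cov_of pb2 qb cl2 cl2 w4r10 _ _ _ (by decide +kernel)
theorem w4r11 : wins P2 Qn 2 214 30 204800 1 204830 = true := by decide +kernel
theorem w4s11 : Cov 4 204860 409660 :=
  cov_of pb2 qb cl2 cl2 w4r11 _ _ _ (by decide +kernel)
theorem w4r12 : wins P2 Qn 2 233 30 409600 1 409630 = true := by decide +kernel
theorem w4s12 : Cov 4 409660 819260 :=
  cov_of pb2 qb cl2 cl2 w4r12 _ _ _ (by decide +kernel)
theorem w4r13 : wins P2 Qn 2 254 30 819200 1 819230 = true := by decide +kernel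
theorem w4s13 : Cov 4 819260 1638460 :=
  cov_of pb2 qb cl2 cl2 w4r13 _ _ _ (by decide +kernel)
theorem w4r14 : wins P2 Qn 2 313 50 1638360 1 1638410 = true := by decide +kernel
theorem w4s14 : Cov 4 1638460 3276820 :=
  cov_of pb2 qb cl2 cl2 w4r14 _ _ _ (by decide +kernel)
theorem w4r15 : wins P2 Qn 2 458 600 2096552 16 3276220 = true := by decide +kernel
theorem w4s15 : Cov 4 3276820 36821652 :=
  cov_of pb2 qb cl2 cl2 w4r15 _ _ _ (by decide +kernel)
theorem w4r16 : wins P2 Qn 2 466 600 2096552 16 36821052 = true := by decide +kernel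
theorem w4s16 : Cov 4 36821652 70366484 :=
  cov_of pb2 qb cl2 cl2 w4r16 _ _ _ (by decide +kernel)
theorem w4r17 : wins P2 Qn 2 472 600 2096552 16 70365884 = true := by decide +kernel
theorem w4s17 : Cov 4 70366484 103911316 :=
  cov_of pb2 qb cl2 cl2 w4r17 _ _ _ (by decide +kernel)
theorem w4r18 : wins P2 Qn 2 461 600 2096552 16 103910716 = true := by decide +kernel
theorem w4s18 : Cov 4 103911316 137456148 :=
  cov_of pb2 qb cl2 cl2 w4r18 _ _ _ (by decide +kernel)
theorem w4r19 : wins P2 Qn 2 531 600 2096552 16 137455548 = true := by decide +kernel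
theorem w4s19 : Cov 4 137456148 171000980 :=
  cov_of pb2 qb cl2 cl2 w4r19 _ _ _ (by decide +kernel)
theorem w4r20 : wins P2 Qn 2 501 600 2096552 16 171000380 = true := by decide +kernel
theorem w4s20 : Cov 4 171000980 204545812 :=
  cov_of pb2 qb cl2 cl2 w4r20 _ _ _ (by decide +kernel)
theorem w4r21 : wins P2 Qn 2 476 600 2096552 16 204545212 = true := by decide +kernel
theorem w4s21 : Cov 4 204545812 238090644 :=
  cov_of pb2 qb cl2 cl2 w4r21 _ _ _ (by decide +kernel)
theorem w4r22 : wins P2 Qn 2 480 600 2096552 16 238090044 = true := by decide +kernel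
theorem w4s22 : Cov 4 238090644 271635476 :=
  cov_of pb2 qb cl2 cl2 w4r22 _ _ _ (by decide +kernel)
theorem w4r23 : wins P2 Qn 2 497 600 2096552 16 271634876 = true := by decide +kernel
theorem w4s23 : Cov 4 271635476 305180308 :=
  cov_of pb2 qb cl2 cl2 w4r23 _ _ _ (by decide +kernel)
theorem w4r24 : wins P2 Qn 2 489 600 2096552 16 305179708 = true := by decide +kernel
theorem w4s24 : Cov 4 305180308 338725140 :=
  cov_of pb2 qb cl2 cl2 w4r24 _ _ _ (by decide +kernel)
theorem w4r25 : wins P2 Qn 2 503 600 2096552 16 338724540 = true := by decide +kernel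
theorem w4s25 : Cov 4 338725140 372269972 :=
  cov_of pb2 qb cl2 cl2 w4r25 _ _ _ (by decide +kernel)
theorem w4r26 : wins P2 Qn 2 560 600 2096552 16 372269372 = true := by decide +kernel
theorem w4s26 : Cov 4 372269972 405814804 :=
  cov_of pb2 qb cl2 cl2 w4r26 _ _ _ (by decide +kernel)
theorem w4r27 : wins P2 Qn 2 492 600 2096552 16 405814204 = true := by decide +kernel
theorem w4s27 : Cov 4 405814804 439359636 :=
  cov_of pb2 qb cl2 cl2 w4r27 _ _ _ (by decide +kernel)
theorem w4r28 : wins P2 Qn 2 591 600 2096552 16 439359036 = true := by decide +kernel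
theorem w4s28 : Cov 4 439359636 472904468 :=
  cov_of pb2 qb cl2 cl2 w4r28 _ _ _ (by decide +kernel)
theorem w4r29 : wins P2 Qn 2 461 600 2096552 16 472903868 = true := by decide +kernel
theorem w4s29 : Cov 4 472904468 506449300 :=
  cov_of pb2 qb cl2 cl2 w4r29 _ _ _ (by decide +kernel)
theorem w4r30 : wins P2 Qn 2 656 600 2096552 16 506448700 = true := by decide +kernel
theorem w4s30 : Cov 4 506449300 539994132 :=
  cov_of pb2 qb cl2 cl2 w4r30 _ _ _ (by decide +kernel)
theorem w4r31 : wins P2 Qn 2 538 600 2096552 16 539993532 = true := by decide +kernel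
theorem w4s31 : Cov 4 539994132 573538964 :=
  cov_of pb2 qb cl2 cl2 w4r31 _ _ _ (by decide +kernel)
theorem w4r32 : wins P2 Qn 2 503 600 2096552 16 573538364 = true := by decide +kernel
theorem w4s32 : Cov 4 573538964 607083796 :=
  cov_of pb2 qb cl2 cl2 w4r32 _ _ _ (by decide +kernel)
theorem w4r33 : wins P2 Qn 2 498 600 2096552 16 607083196 = true := by decide +kernel
theorem w4s33 : Cov 4 607083796 640628628 :=
  cov_of pb2 qb cl2 cl2 w4r33 _ _ _ (by decide +kernel)
theorem w4r34 : wins P2 Qn 2 518 600 2096552 16 640628028 = true := by decide +kernel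
theorem w4s34 : Cov 4 640628628 674173460 :=
  cov_of pb2 qb cl2 cl2 w4r34 _ _ _ (by decide +kernel)
theorem w4r35 : wins P2 Qn 2 505 600 2096552 16 674172860 = true := by decide +kernel
theorem w4s35 : Cov 4 674173460 707718292 :=
  cov_of pb2 qb cl2 cl2 w4r35 _ _ _ (by decide +kernel)
theorem w4r36 : wins P2 Qn 2 506 600 2096552 16 707717692 = true := by decide +kernel
theorem w4s36 : Cov 4 707718292 741263124 :=
  cov_of pb2 qb cl2 cl2 w4r36 _ _ _ (by decide +kernel)
theorem w4r37 : wins P2 Qn 2 520 600 2096552 16 741262524 = true := by decide +kernel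
theorem w4s37 : Cov 4 741263124 774807956 :=
  cov_of pb2 qb cl2 cl2 w4r37 _ _ _ (by decide +kernel)
theorem w4r38 : wins P2 Qn 2 586 600 2096552 16 774807356 = true := by decide +kernel
theorem w4s38 : Cov 4 774807956 808352788 :=
  cov_of pb2 qb cl2 cl2 w4r38 _ _ _ (by decide +kernel)
theorem w4r39 : wins P2 Qn 2 468 600 2096552 16 808352188 = true := by decide +kernel
theorem w4s39 : Cov 4 808352788 841897620 :=
  cov_of pb2 qb cl2 cl2 w4r39 _ _ _ (by decide +kernel)
theorem w4r40 : wins P2 Qn 2 560 600 2096552 16 841897020 = true := by decide +kernel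
theorem w4s40 : Cov 4 841897620 875442452 :=
  cov_of pb2 qb cl2 cl2 w4r40 _ _ _ (by decide +kernel)
theorem w4r41 : wins P2 Qn 2 574 600 2096552 16 875441852 = true := by decide +kernel
theorem w4s41 : Cov 4 875442452 908987284 :=
  cov_of pb2 qb cl2 cl2 w4r41 _ _ _ (by decide +kernel)
theorem w4r42 : wins P2 Qn 2 552 600 2096552 16 908986684 = true := by decide +kernel
theorem w4s42 : Cov 4 908987284 942532116 :=
  cov_of pb2 qb cl2 cl2 w4r42 _ _ _ (by decide +kernel)
theorem w4r43 : wins P2 Qn 2 477 600 2096552 16 942531516 = true := by decide +kernel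
theorem w4s43 : Cov 4 942532116 976076948 :=
  cov_of pb2 qb cl2 cl2 w4r43 _ _ _ (by decide +kernel)
theorem w4r44 : wins P2 Qn 2 576 600 2096552 16 976076348 = true := by decide +kernel
theorem w4s44 : Cov 4 976076948 1009621780 :=
  cov_of pb2 qb cl2 cl2 w4r44 _ _ _ (by decide +kernel)
theorem w4r45 : wins P2 Qn 2 527 600 2096552 16 1009621180 = true := by decide +kernel
theorem w4s45 : Cov 4 1009621780 1043166612 :=
  cov_of pb2 qb cl2 cl2 w4r45 _ _ _ (by decide +kernel)
theorem w4r46 : wins P2 Qn 2 502 600 2096552 16 1043166012 = true := by decide +kernel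
theorem w4s46 : Cov 4 1043166612 1076711444 :=
  cov_of pb2 qb cl2 cl2 w4r46 _ _ _ (by decide +kernel)
theorem w4r47 : wins P2 Qn 2 603 600 2096552 16 1076710844 = true := by decide +kernel
theorem w4s47 : Cov 4 1076711444 1110256276 :=
  cov_of pb2 qb cl2 cl2 w4r47 _ _ _ (by decide +kernel)
theorem w4r48 : wins P2 Qn 2 506 600 2096552 16 1110255676 = true := by decide +kernel
theorem w4s48 : Cov 4 1110256276 1143801108 :=
  cov_of pb2 qb cl2 cl2 w4r48 _ _ _ (by decide +kernel)
theorem w4r49 : wins P2 Qn 2 516 600 2096552 16 1143800508 = true := by decide +kernel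
theorem w4s49 : Cov 4 1143801108 1177345940 :=
  cov_of pb2 qb cl2 cl2 w4r49 _ _ _ (by decide +kernel)
theorem w4r50 : wins P2 Qn 2 632 600 2096552 16 1177345340 = true := by decide +kernel
theorem w4s50 : Cov 4 1177345940 1210890772 :=
  cov_of pb2 qb cl2 cl2 w4r50 _ _ _ (by decide +kernel)
theorem w4r51 : wins P2 Qn 2 493 600 2096552 16 1210890172 = true := by decide +kernel
theorem w4s51 : Cov 4 1210890772 1244435604 :=
  cov_of pb2 qb cl2 cl2 w4r51 _ _ _ (by decide +kernel)
theorem w4r52 : wins P2 Qn 2 499 600 2096552 16 1244435004 = true := by decide +kernel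
theorem w4s52 : Cov 4 1244435604 1277980436 :=
  cov_of pb2 qb cl2 cl2 w4r52 _ _ _ (by decide +kernel)
theorem w4r53 : wins P2 Qn 2 500 600 2096552 16 1277979836 = true := by decide +kernel
theorem w4s53 : Cov 4 1277980436 1311525268 :=
  cov_of pb2 qb cl2 cl2 w4r53 _ _ _ (by decide +kernel)
theorem w4r54 : wins P2 Qn 2 628 600 2096552 16 1311524668 = true := by decide +kernel
theorem w4s54 : Cov 4 1311525268 1345070100 :=
  cov_of pb2 qb cl2 cl2 w4r54 _ _ _ (by decide +kernel)
theorem w4r55 : wins P2 Qn 2 578 600 2096552 16 1345069500 = true := by decide +kernel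
theorem w4s55 : Cov 4 1345070100 1378614932 :=
  cov_of pb2 qb cl2 cl2 w4r55 _ _ _ (by decide +kernel)
theorem w4r56 : wins P2 Qn 2 544 600 2096552 16 1378614332 = true := by decide +kernel
theorem w4s56 : Cov 4 1378614932 1412159764 :=
  cov_of pb2 qb cl2 cl2 w4r56 _ _ _ (by decide +kernel)
theorem w4r57 : wins P2 Qn 2 538 600 2096552 16 1412159164 = true := by decide +kernel
theorem w4s57 : Cov 4 1412159764 1445704596 :=
  cov_of pb2 qb cl2 cl2 w4r57 _ _ _ (by decide +kernel)
theorem w4r58 : wins P2 Qn 2 507 600 2096552 16 1445703996 = true := by decide +kernel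
theorem w4s58 : Cov 4 1445704596 1479249428 :=
  cov_of pb2 qb cl2 cl2 w4r58 _ _ _ (by decide +kernel)
theorem w4r59 : wins P2 Qn 2 527 600 2096552 16 1479248828 = true := by decide +kernel
theorem w4s59 : Cov 4 1479249428 1512794260 :=
  cov_of pb2 qb cl2 cl2 w4r59 _ _ _ (by decide +kernel)
theorem w4r60 : wins P2 Qn 2 563 600 2096552 16 1512793660 = true := by decide +kernel
theorem w4s60 : Cov 4 1512794260 1546339092 :=
  cov_of pb2 qb cl2 cl2 w4r60 _ _ _ (by decide +kernel)
theorem w4r61 : wins P2 Qn 2 491 600 2096552 16 1546338492 = true := by decide +kernel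
theorem w4s61 : Cov 4 1546339092 1579883924 :=
  cov_of pb2 qb cl2 cl2 w4r61 _ _ _ (by decide +kernel)
theorem w4r62 : wins P2 Qn 2 561 600 2096552 16 1579883324 = true := by decide +kernel
theorem w4s62 : Cov 4 1579883924 1613428756 :=
  cov_of pb2 qb cl2 cl2 w4r62 _ _ _ (by decide +kernel)
theorem w4r63 : wins P2 Qn 2 553 600 2096552 16 1613428156 = true := by decide +kernel
theorem w4s63 : Cov 4 1613428756 1646973588 :=
  cov_of pb2 qb cl2 cl2 w4r63 _ _ _ (by decide +kernel)
theorem w4r64 : wins P2 Qn 2 580 600 2096552 16 1646972988 = true := by decide +kernel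
theorem w4s64 : Cov 4 1646973588 1680518420 :=
  cov_of pb2 qb cl2 cl2 w4r64 _ _ _ (by decide +kernel)
theorem w4r65 : wins P2 Qn 2 621 600 2096552 16 1680517820 = true := by decide +kernel
theorem w4s65 : Cov 4 1680518420 1714063252 :=
  cov_of pb2 qb cl2 cl2 w4r65 _ _ _ (by decide +kernel)
theorem w4r66 : wins P2 Qn 2 612 600 2096552 16 1714062652 = true := by decide +kernel
theorem w4s66 : Cov 4 1714063252 1747608084 :=
  cov_of pb2 qb cl2 cl2 w4r66 _ _ _ (by decide +kernel)
theorem w4r67 : wins P2 Qn 2 556 600 2096552 16 1747607484 = true := by decide +kernel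
theorem w4s67 : Cov 4 1747608084 1781152916 :=
  cov_of pb2 qb cl2 cl2 w4r67 _ _ _ (by decide +kernel)
theorem w4r68 : wins P2 Qn 2 613 600 2096552 16 1781152316 = true := by decide +kernel
theorem w4s68 : Cov 4 1781152916 1814697748 :=
  cov_of pb2 qb cl2 cl2 w4r68 _ _ _ (by decide +kernel)
theorem w4r69 : wins P2 Qn 2 511 600 2096552 16 1814697148 = true := by decide +kernel
theorem w4s69 : Cov 4 1814697748 1848242580 :=
  cov_of pb2 qb cl2 cl2 w4r69 _ _ _ (by decide +kernel)
theorem w4r70 : wins P2 Qn 2 603 600 2096552 16 1848241980 = true := by decide +kernel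
theorem w4s70 : Cov 4 1848242580 1881787412 :=
  cov_of pb2 qb cl2 cl2 w4r70 _ _ _ (by decide +kernel)
theorem w4r71 : wins P2 Qn 2 585 600 2096552 16 1881786812 = true := by decide +kernel
theorem w4s71 : Cov 4 1881787412 1915332244 :=
  cov_of pb2 qb cl2 cl2 w4r71 _ _ _ (by decide +kernel)
theorem w4r72 : wins P2 Qn 2 546 600 2096552 16 1915331644 = true := by decide +kernel
theorem w4s72 : Cov 4 1915332244 1948877076 :=
  cov_of pb2 qb cl2 cl2 w4r72 _ _ _ (by decide +kernel)
theorem w4r73 : wins P2 Qn 2 529 600 2096552 16 1948876476 = true := by decide +kernel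
theorem w4s73 : Cov 4 1948877076 1982421908 :=
  cov_of pb2 qb cl2 cl2 w4r73 _ _ _ (by decide +kernel)
theorem w4r74 : wins P2 Qn 2 532 600 2096552 16 1982421308 = true := by decide +kernel
theorem w4s74 : Cov 4 1982421908 2015966740 :=
  cov_of pb2 qb cl2 cl2 w4r74 _ _ _ (by decide +kernel)
theorem w4r75 : wins P2 Qn 2 712 600 2096552 16 2015966140 = true := by decide +kernel
theorem w4s75 : Cov 4 2015966740 2049511572 :=
  cov_of pb2 qb cl2 cl2 w4r75 _ _ _ (by decide +kernel)
theorem w4r76 : wins P2 Qn 2 551 600 2096552 16 2049510972 = true := by decide +kernel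
theorem w4s76 : Cov 4 2049511572 2083056404 :=
  cov_of pb2 qb cl2 cl2 w4r76 _ _ _ (by decide +kernel)
theorem w4r77 : wins P2 Qn 2 584 600 2096552 16 2083055804 = true := by decide +kernel
theorem w4s77 : Cov 4 2083056404 2116601236 :=
  cov_of pb2 qb cl2 cl2 w4r77 _ _ _ (by decide +kernel)
theorem w4r78 : wins P2 Qn 2 603 600 2096552 16 2116600636 = true := by decide +kernel
theorem w4s78 : Cov 4 2116601236 2150146068 :=
  cov_of pb2 qb cl2 cl2 w4r78 _ _ _ (by decide +kernel)
theorem w4r79 : wins P2 Qn 2 494 600 2096552 16 2150145468 = true := by decide +kernel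
theorem w4s79 : Cov 4 2150146068 2183690900 :=
  cov_of pb2 qb cl2 cl2 w4r79 _ _ _ (by decide +kernel)
theorem w4r80 : wins P2 Qn 2 533 600 2096552 16 2183690300 = true := by decide +kernel
theorem w4s80 : Cov 4 2183690900 2217235732 :=
  cov_of pb2 qb cl2 cl2 w4r80 _ _ _ (by decide +kernel)
theorem w4r81 : wins P2 Qn 2 528 600 2096552 16 2217235132 = true := by decide +kernel
theorem w4s81 : Cov 4 2217235732 2250780564 :=
  cov_of pb2 qb cl2 cl2 w4r81 _ _ _ (by decide +kernel)
theorem w4r82 : wins P2 Qn 2 606 600 2096552 16 2250779964 = true := by decide +kernel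
theorem w4s82 : Cov 4 2250780564 2284325396 :=
  cov_of pb2 qb cl2 cl2 w4r82 _ _ _ (by decide +kernel)
theorem w4r83 : wins P2 Qn 2 515 600 2096552 16 2284324796 = true := by decide +kernel
theorem w4s83 : Cov 4 2284325396 2317870228 :=
  cov_of pb2 qb cl2 cl2 w4r83 _ _ _ (by decide +kernel)
theorem w4r84 : wins P2 Qn 2 576 600 2096552 16 2317869628 = true := by decide +kernel
theorem w4s84 : Cov 4 2317870228 2351415060 :=
  cov_of pb2 qb cl2 cl2 w4r84 _ _ _ (by decide +kernel)
theorem w4r85 : wins P2 Qn 2 619 600 2096552 16 2351414460 = true := by decide +kernel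
theorem w4s85 : Cov 4 2351415060 2384959892 :=
  cov_of pb2 qb cl2 cl2 w4r85 _ _ _ (by decide +kernel)
theorem w4r86 : wins P2 Qn 2 561 600 2096552 16 2384959292 = true := by decide +kernel
theorem w4s86 : Cov 4 2384959892 2418504724 :=
  cov_of pb2 qb cl2 cl2 w4r86 _ _ _ (by decide +kernel)
theorem w4r87 : wins P2 Qn 2 550 600 2096552 16 2418504124 = true := by decide +kernel
theorem w4s87 : Cov 4 2418504724 2452049556 :=
  cov_of pb2 qb cl2 cl2 w4r87 _ _ _ (by decide +kernel)
theorem w4r88 : wins P2 Qn 2 528 600 2096552 16 2452048956 = true := by decide +kernel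
theorem w4s88 : Cov 4 2452049556 2485594388 :=
  cov_of pb2 qb cl2 cl2 w4r88 _ _ _ (by decide +kernel)
theorem w4r89 : wins P2 Qn 2 585 600 2096552 16 2485593788 = true := by decide +kernel
theorem w4s89 : Cov 4 2485594388 2519139220 :=
  cov_of pb2 qb cl2 cl2 w4r89 _ _ _ (by decide +kernel)
theorem w4r90 : wins P2 Qn 2 527 600 2096552 16 2519138620 = true := by decide +kernel
theorem w4s90 : Cov 4 2519139220 2552684052 :=
  cov_of pb2 qb cl2 cl2 w4r90 _ _ _ (by decide +kernel)
theorem w4r91 : wins P2 Qn 2 590 600 2096552 16 2552683452 = true := by decide +kernel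
theorem w4s91 : Cov 4 2552684052 2586228884 :=
  cov_of pb2 qb cl2 cl2 w4r91 _ _ _ (by decide +kernel)
theorem w4r92 : wins P2 Qn 2 527 600 2096552 16 2586228284 = true := by decide +kernel
theorem w4s92 : Cov 4 2586228884 2619773716 :=
  cov_of pb2 qb cl2 cl2 w4r92 _ _ _ (by decide +kernel)
theorem w4r93 : wins P2 Qn 2 514 600 2096552 16 2619773116 = true := by decide +kernel
theorem w4s93 : Cov 4 2619773716 2653318548 :=
  cov_of pb2 qb cl2 cl2 w4r93 _ _ _ (by decide +kernel)
theorem w4r94 : wins P2 Qn 2 619 600 2096552 16 2653317948 = true := by decide +kernel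
theorem w4s94 : Cov 4 2653318548 2686863380 :=
  cov_of pb2 qb cl2 cl2 w4r94 _ _ _ (by decide +kernel)
theorem w4r95 : wins P2 Qn 2 532 600 2096552 16 2686862780 = true := by decide +kernel
theorem w4s95 : Cov 4 2686863380 2720408212 :=
  cov_of pb2 qb cl2 cl2 w4r95 _ _ _ (by decide +kernel)
theorem w4r96 : wins P2 Qn 2 564 600 2096552 16 2720407612 = true := by decide +kernel
theorem w4s96 : Cov 4 2720408212 2753953044 :=
  cov_of pb2 qb cl2 cl2 w4r96 _ _ _ (by decide +kernel)
theorem w4r97 : wins P2 Qn 2 596 600 2096552 16 2753952444 = true := by decide +kernel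
theorem w4s97 : Cov 4 2753953044 2787497876 :=
  cov_of pb2 qb cl2 cl2 w4r97 _ _ _ (by decide +kernel)
theorem w4r98 : wins P2 Qn 2 566 600 2096552 16 2787497276 = true := by decide +kernel
theorem w4s98 : Cov 4 2787497876 2821042708 :=
  cov_of pb2 qb cl2 cl2 w4r98 _ _ _ (by decide +kernel)
theorem w4r99 : wins P2 Qn 2 589 600 2096552 16 2821042108 = true := by decide +kernel
theorem w4s99 : Cov 4 2821042708 2854587540 :=
  cov_of pb2 qb cl2 cl2 w4r99 _ _ _ (by decide +kernel)
theorem w4r100 : wins P2 Qn 2 588 600 2096552 16 2854586940 = true := by decide +kernel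
theorem w4s100 : Cov 4 2854587540 2888132372 :=
  cov_of pb2 qb cl2 cl2 w4r100 _ _ _ (by decide +kernel)
theorem w4r101 : wins P2 Qn 2 604 600 2096552 16 2888131772 = true := by decide +kernel
theorem w4s101 : Cov 4 2888132372 2921677204 :=
  cov_of pb2 qb cl2 cl2 w4r101 _ _ _ (by decide +kernel)
theorem w4r102 : wins P2 Qn 2 569 600 2096552 16 2921676604 = true := by decide +kernel
theorem w4s102 : Cov 4 2921677204 2955222036 :=
  cov_of pb2 qb cl2 cl2 w4r102 _ _ _ (by decide +kernel)
theorem w4r103 : wins P2 Qn 2 599 600 2096552 16 2955221436 = true := by decide +kernel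
theorem w4s103 : Cov 4 2955222036 2988766868 :=
  cov_of pb2 qb cl2 cl2 w4r103 _ _ _ (by decide +kernel)
theorem w4r104 : wins P2 Qn 2 541 600 2096552 16 2988766268 = true := by decide +kernel
theorem w4s104 : Cov 4 2988766868 3022311700 :=
  cov_of pb2 qb cl2 cl2 w4r104 _ _ _ (by decide +kernel)
theorem w4r105 : wins P2 Qn 2 591 600 2096552 16 3022311100 = true := by decide +kernel
theorem w4s105 : Cov 4 3022311700 3055856532 :=
  cov_of pb2 qb cl2 cl2 w4r105 _ _ _ (by decide +kernel)
theorem w4r106 : wins P2 Qn 2 616 600 2096552 16 3055855932 = true := by decide +kernel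
theorem w4s106 : Cov 4 3055856532 3089401364 :=
  cov_of pb2 qb cl2 cl2 w4r106 _ _ _ (by decide +kernel)
theorem w4r107 : wins P2 Qn 2 603 600 2096552 16 3089400764 = true := by decide +kernel
theorem w4s107 : Cov 4 3089401364 3122946196 :=
  cov_of pb2 qb cl2 cl2 w4r107 _ _ _ (by decide +kernel)
theorem w4r108 : wins P2 Qn 2 587 600 2096552 16 3122945596 = true := by decide +kernel
theorem w4s108 : Cov 4 3122946196 3156491028 :=
  cov_of pb2 qb cl2 cl2 w4r108 _ _ _ (by decide +kernel)
theorem w4r109 : wins P2 Qn 2 580 600 2096552 16 3156490428 = true := by decide +kernel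
theorem w4s109 : Cov 4 3156491028 3190035860 :=
  cov_of pb2 qb cl2 cl2 w4r109 _ _ _ (by decide +kernel)
theorem w4r110 : wins P2 Qn 2 550 600 2096552 16 3190035260 = true := by decide +kernel
theorem w4s110 : Cov 4 3190035860 3223580692 :=
  cov_of pb2 qb cl2 cl2 w4r110 _ _ _ (by decide +kernel)
theorem w4r111 : wins P2 Qn 2 581 600 2096552 16 3223580092 = true := by decide +kernel
theorem w4s111 : Cov 4 3223580692 3257125524 :=
  cov_of pb2 qb cl2 cl2 w4r111 _ _ _ (by decide +kernel)
theorem w4r112 : wins P2 Qn 2 567 600 2096552 16 3257124924 = true := by decide +kernel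
theorem w4s112 : Cov 4 3257125524 3290670356 :=
  cov_of pb2 qb cl2 cl2 w4r112 _ _ _ (by decide +kernel)
theorem w4r113 : wins P2 Qn 2 619 600 2096552 16 3290669756 = true := by decide +kernel
theorem w4s113 : Cov 4 3290670356 3324215188 :=
  cov_of pb2 qb cl2 cl2 w4r113 _ _ _ (by decide +kernel)
theorem w4r114 : wins P2 Qn 2 519 600 2096552 16 3324214588 = true := by decide +kernel
theorem w4s114 : Cov 4 3324215188 3357760020 :=
  cov_of pb2 qb cl2 cl2 w4r114 _ _ _ (by decide +kernel)
theorem w4r115 : wins P2 Qn 2 631 600 2096552 16 3357759420 = true := by decide +kernel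
theorem w4s115 : Cov 4 3357760020 3391304852 :=
  cov_of pb2 qb cl2 cl2 w4r115 _ _ _ (by decide +kernel)
theorem w4r116 : wins P2 Qn 2 579 600 2096552 16 3391304252 = true := by decide +kernel
theorem w4s116 : Cov 4 3391304852 3424849684 :=
  cov_of pb2 qb cl2 cl2 w4r116 _ _ _ (by decide +kernel)
theorem w4r117 : wins P2 Qn 2 566 600 2096552 16 3424849084 = true := by decide +kernel
theorem w4s117 : Cov 4 3424849684 3458394516 :=
  cov_of pb2 qb cl2 cl2 w4r117 _ _ _ (by decide +kernel)
theorem w4r118 : wins P2 Qn 2 573 600 2096552 16 3458393916 = true := by decide +kernel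
theorem w4s118 : Cov 4 3458394516 3491939348 :=
  cov_of pb2 qb cl2 cl2 w4r118 _ _ _ (by decide +kernel)
theorem w4r119 : wins P2 Qn 2 659 600 2096552 16 3491938748 = true := by decide +kernel
theorem w4s119 : Cov 4 3491939348 3525484180 :=
  cov_of pb2 qb cl2 cl2 w4r119 _ _ _ (by decide +kernel)
theorem w4r120 : wins P2 Qn 2 615 600 2096552 16 3525483580 = true := by decide +kernel
theorem w4s120 : Cov 4 3525484180 3559029012 :=
  cov_of pb2 qb cl2 cl2 w4r120 _ _ _ (by decide +kernel)
theorem w4r121 : wins P2 Qn 2 590 600 2096552 16 3559028412 = true := by decide +kernel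
theorem w4s121 : Cov 4 3559029012 3592573844 :=
  cov_of pb2 qb cl2 cl2 w4r121 _ _ _ (by decide +kernel)
theorem w4r122 : wins P2 Qn 2 647 600 2096552 16 3592573244 = true := by decide +kernel
theorem w4s122 : Cov 4 3592573844 3626118676 :=
  cov_of pb2 qb cl2 cl2 w4r122 _ _ _ (by decide +kernel)
theorem w4r123 : wins P2 Qn 2 555 600 2096552 16 3626118076 = true := by decide +kernel
theorem w4s123 : Cov 4 3626118676 3659663508 :=
  cov_of pb2 qb cl2 cl2 w4r123 _ _ _ (by decide +kernel)
theorem w4r124 : wins P2 Qn 2 594 600 2096552 16 3659662908 = true := by decide +kernel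
theorem w4s124 : Cov 4 3659663508 3693208340 :=
  cov_of pb2 qb cl2 cl2 w4r124 _ _ _ (by decide +kernel)
theorem w4r125 : wins P2 Qn 2 550 600 2096552 16 3693207740 = true := by decide +kernel
theorem w4s125 : Cov 4 3693208340 3726753172 :=
  cov_of pb2 qb cl2 cl2 w4r125 _ _ _ (by decide +kernel)
theorem w4r126 : wins P2 Qn 2 503 600 2096552 16 3726752572 = true := by decide +kernel
theorem w4s126 : Cov 4 3726753172 3760298004 :=
  cov_of pb2 qb cl2 cl2 w4r126 _ _ _ (by decide +kernel)
theorem w4r127 : wins P2 Qn 2 580 600 2096552 16 3760297404 = true := by decide +kernel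
theorem w4s127 : Cov 4 3760298004 3793842836 :=
  cov_of pb2 qb cl2 cl2 w4r127 _ _ _ (by decide +kernel)
theorem w4r128 : wins P2 Qn 2 512 600 2096552 16 3793842236 = true := by decide +kernel
theorem w4s128 : Cov 4 3793842836 3827387668 :=
  cov_of pb2 qb cl2 cl2 w4r128 _ _ _ (by decide +kernel)
theorem w4r129 : wins P2 Qn 2 527 600 2096552 16 3827387068 = true := by decide +kernel
theorem w4s129 : Cov 4 3827387668 3860932500 :=
  cov_of pb2 qb cl2 cl2 w4r129 _ _ _ (by decide +kernel)
theorem w4r130 : wins P2 Qn 2 577 600 2096552 16 3860931900 = true := by decide +kernel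
theorem w4s130 : Cov 4 3860932500 3894477332 :=
  cov_of pb2 qb cl2 cl2 w4r130 _ _ _ (by decide +kernel)
theorem w4r131 : wins P2 Qn 2 565 600 2096552 16 3894476732 = true := by decide +kernel
theorem w4s131 : Cov 4 3894477332 3928022164 :=
  cov_of pb2 qb cl2 cl2 w4r131 _ _ _ (by decide +kernel)
theorem w4r132 : wins P2 Qn 2 609 600 2096552 16 3928021564 = true := by decide +kernel
theorem w4s132 : Cov 4 3928022164 3961566996 :=
  cov_of pb2 qb cl2 cl2 w4r132 _ _ _ (by decide +kernel)
theorem w4r133 : wins P2 Qn 2 569 600 2096552 16 3961566396 = true := by decide +kernel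
theorem w4s133 : Cov 4 3961566996 3995111828 :=
  cov_of pb2 qb cl2 cl2 w4r133 _ _ _ (by decide +kernel)
theorem w4r134 : wins P2 Qn 2 543 600 2096552 16 3995111228 = true := by decide +kernel
theorem w4s134 : Cov 4 3995111828 4028656660 :=
  cov_of pb2 qb cl2 cl2 w4r134 _ _ _ (by decide +kernel)
theorem w4r135 : wins P2 Qn 2 569 600 2096552 16 4028656060 = true := by decide +kernel
theorem w4s135 : Cov 4 4028656660 4062201492 :=
  cov_of pb2 qb cl2 cl2 w4r135 _ _ _ (by decide +kernel)
theorem w4r136 : wins P2 Qn 2 684 600 2096552 16 4062200892 = true := by decide +kernel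
theorem w4s136 : Cov 4 4062201492 4095746324 :=
  cov_of pb2 qb cl2 cl2 w4r136 _ _ _ (by decide +kernel)
theorem w4r137 : wins P2 Qn 2 592 600 2096552 16 4095745724 = true := by decide +kernel
theorem w4s137 : Cov 4 4095746324 4129291156 :=
  cov_of pb2 qb cl2 cl2 w4r137 _ _ _ (by decide +kernel)
theorem w4r138 : wins P2 Qn 2 578 600 2096552 16 4129290556 = true := by decide +kernel
theorem w4s138 : Cov 4 4129291156 4162835988 :=
  cov_of pb2 qb cl2 cl2 w4r138 _ _ _ (by decide +kernel)

theorem cov4a : Cov 4 160 4162835988 :=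
  (((((((w4s0.app w4s1).app (w4s2.app w4s3)).app ((w4s4.app w4s5).app (w4s6.app w4s7))).app (((w4s8.app w4s9).app (w4s10.app w4s11)).app ((w4s12.app w4s13).app (w4s14.app (w4s15.app w4s16))))).app ((((w4s17.app w4s18).app (w4s19.app w4s20)).app ((w4s21.app w4s22).app (w4s23.app w4s24))).app (((w4s25.app w4s26).app (w4s27.app w4s28)).app ((w4s29.app w4s30).app (w4s31.app (w4s32.app w4s33)))))).app (((((w4s34.app w4s35).app (w4s36.app w4s37)).app ((w4s38.app w4s39).app (w4s40.app w4s41))).app (((w4s42.app w4s43).app (w4s44.app w4s45)).app ((w4s46.app w4s47).app (w4s48.app (w4s49.app w4s50))))).app ((((w4s51.app w4s52).app (w4s53.app w4s54)).app ((w4s55.app w4s56).app (w4s57.app (w4s58.app w4s59)))).app (((w4s60.app w4s61).app (w4s62.app w4s63)).app ((w4s64.app w4s65).app (w4s66.app (w4s67.app w4s68))))))).app ((((((w4s69.app w4s70).app (w4s71.app w4s72)).app ((w4s73.app w4s74).app (w4s75.app w4s76))).app (((w4s77.app w4s78).app (w4s79.app w4s80)).app ((w4s81.app w4s82).app (w4s83.app (w4s84.app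 w4s85))))).app ((((w4s86.app w4s87).app (w4s88.app w4s89)).app ((w4s90.app w4s91).app (w4s92.app (w4s93.app w4s94)))).app (((w4s95.app w4s96).app (w4s97.app w4s98)).app ((w4s99.app w4s100).app (w4s101.app (w4s102.app w4s103)))))).app (((((w4s104.app w4s105).app (w4s106.app w4s107)).app ((w4s108.app w4s109).app (w4s110.app w4s111))).app (((w4s112.app w4s113).app (w4s114.app w4s115)).app ((w4s116.app w4s117).app (w4s118.app (w4s119.app w4s120))))).app ((((w4s121.app w4s122).app (w4s123.app w4s124)).app ((w4s125.app w4s126).app (w4s127.app (w4s128.app w4s129)))).app (((w4s130.app w4s131).app (w4s132.app w4s133)).app ((w4s134.app w4s135).app (w4s136.app (w4s137.app w4s138))))))))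

end Cfsg.Agent.Depth.F
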