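import Cfsg.Agent.Depth.F.P2
import Cfsg.Agent.Depth.F.Q

/-! The numbers `30 M + 4` as sums `(p + 1) + (q + 1)`, part 2. -/

set_option autoImplicit false
set_option Elab.async false

namespace Cfsg.Agent.Depth.F

theorem w4r139 : wins P2 Qn 2 606 600 2096552 16 4162835388 = true := by decide +kernel
theorem w4s139 : Cov 4 4162835988 4196380820 :=
  cov_of pb2 qb cl2 cl2 w4r139 _ _ _ (by decide +kernel)
theorem w4r140 : wins P2 Qn 2 580 600 2096552 16 4196380220 = true := by decide +kernel
theorem w4s140 : Cov 4 4196380820 4229925652 :=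
  cov_of pb2 qb cl2 cl2 w4r140 _ _ _ (by decide +kernel)
theorem w4r141 : wins P2 Qn 2 560 600 2096552 16 4229925052 = true := by decide +kernel
theorem w4s141 : Cov 4 4229925652 4263470484 :=
  cov_of pb2 qb cl2 cl2 w4r141 _ _ _ (by decide +kernel)
theorem w4r142 : wins P2 Qn 2 589 600 2096552 16 4263469884 = true := by decide +kernel
theorem w4s142 : Cov 4 4263470484 4297015316 :=
  cov_of pb2 qb cl2 cl2 w4r142 _ _ _ (by decide +kernel)
theorem w4r143 : wins P2 Qn 2 608 600 2096552 16 4297014716 = true := by decide +kernel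
theorem w4s143 : Cov 4 4297015316 4330560148 :=
  cov_of pb2 qb cl2 cl2 w4r143 _ _ _ (by decide +kernel)
theorem w4r144 : wins P2 Qn 2 616 600 2096552 16 4330559548 = true := by decide +kernel
theorem w4s144 : Cov 4 4330560148 4364104980 :=
  cov_of pb2 qb cl2 cl2 w4r144 _ _ _ (by decide +kernel)
theorem w4r145 : wins P2 Qn 2 651 600 2096552 16 4364104380 = true := by decide +kernel
theorem w4s145 : Cov 4 4364104980 4397649812 :=
  cov_of pb2 qb cl2 cl2 w4r145 _ _ _ (by decide +kernel)
theorem w4r146 : wins P2 Qn 2 502 600 2096552 16 4397649212 = true := by decide +kernel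
theorem w4s146 : Cov 4 4397649812 4431194644 :=
  cov_of pb2 qb cl2 cl2 w4r146 _ _ _ (by decide +kernel)
theorem w4r147 : wins P2 Qn 2 565 600 2096552 16 4431194044 = true := by decide +kernel
theorem w4s147 : Cov 4 4431194644 4464739476 :=
  cov_of pb2 qb cl2 cl2 w4r147 _ _ _ (by decide +kernel)
theorem w4r148 : wins P2 Qn 2 569 600 2096552 16 4464738876 = true := by decide +kernel
theorem w4s148 : Cov 4 4464739476 4498284308 :=
  cov_of pb2 qb cl2 cl2 w4r148 _ _ _ (by decide +kernel)
theorem w4r149 : wins P2 Qn 2 644 600 2096552 16 4498283708 = true := by decide +kernel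
theorem w4s149 : Cov 4 4498284308 4531829140 :=
  cov_of pb2 qb cl2 cl2 w4r149 _ _ _ (by decide +kernel)
theorem w4r150 : wins P2 Qn 2 650 600 2096552 16 4531828540 = true := by decide +kernel
theorem w4s150 : Cov 4 4531829140 4565373972 :=
  cov_of pb2 qb cl2 cl2 w4r150 _ _ _ (by decide +kernel)
theorem w4r151 : wins P2 Qn 2 558 600 2096552 16 4565373372 = true := by decide +kernel
theorem w4s151 : Cov 4 4565373972 4598918804 :=
  cov_of pb2 qb cl2 cl2 w4r151 _ _ _ (by decide +kernel)
theorem w4r152 : wins P2 Qn 2 610 600 2096552 16 4598918204 = true := by decide +kernel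
theorem w4s152 : Cov 4 4598918804 4632463636 :=
  cov_of pb2 qb cl2 cl2 w4r152 _ _ _ (by decide +kernel)
theorem w4r153 : wins P2 Qn 2 572 600 2096552 16 4632463036 = true := by decide +kernel
theorem w4s153 : Cov 4 4632463636 4666008468 :=
  cov_of pb2 qb cl2 cl2 w4r153 _ _ _ (by decide +kernel)
theorem w4r154 : wins P2 Qn 2 519 600 2096552 16 4666007868 = true := by decide +kernel
theorem w4s154 : Cov 4 4666008468 4699553300 :=
  cov_of pb2 qb cl2 cl2 w4r154 _ _ _ (by decide +kernel)
theorem w4r155 : wins P2 Qn 2 651 600 2096552 16 4699552700 = true := by decide +kernel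
theorem w4s155 : Cov 4 4699553300 4733098132 :=
  cov_of pb2 qb cl2 cl2 w4r155 _ _ _ (by decide +kernel)
theorem w4r156 : wins P2 Qn 2 640 600 2096552 16 4733097532 = true := by decide +kernel
theorem w4s156 : Cov 4 4733098132 4766642964 :=
  cov_of pb2 qb cl2 cl2 w4r156 _ _ _ (by decide +kernel)
theorem w4r157 : wins P2 Qn 2 551 600 2096552 16 4766642364 = true := by decide +kernel
theorem w4s157 : Cov 4 4766642964 4800187796 :=
  cov_of pb2 qb cl2 cl2 w4r157 _ _ _ (by decide +kernel)
theorem w4r158 : wins P2 Qn 2 567 600 2096552 16 4800187196 = true := by decide +kernel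
theorem w4s158 : Cov 4 4800187796 4833732628 :=
  cov_of pb2 qb cl2 cl2 w4r158 _ _ _ (by decide +kernel)
theorem w4r159 : wins P2 Qn 2 553 600 2096552 16 4833732028 = true := by decide +kernel
theorem w4s159 : Cov 4 4833732628 4867277460 :=
  cov_of pb2 qb cl2 cl2 w4r159 _ _ _ (by decide +kernel)
theorem w4r160 : wins P2 Qn 2 522 600 2096552 16 4867276860 = true := by decide +kernel
theorem w4s160 : Cov 4 4867277460 4900822292 :=
  cov_of pb2 qb cl2 cl2 w4r160 _ _ _ (by decide +kernel)
theorem w4r161 : wins P2 Qn 2 512 600 2096552 16 4900821692 = true := by decide +kernel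
theorem w4s161 : Cov 4 4900822292 4934367124 :=
  cov_of pb2 qb cl2 cl2 w4r161 _ _ _ (by decide +kernel)
theorem w4r162 : wins P2 Qn 2 524 600 2096552 16 4934366524 = true := by decide +kernel
theorem w4s162 : Cov 4 4934367124 4967911956 :=
  cov_of pb2 qb cl2 cl2 w4r162 _ _ _ (by decide +kernel)
theorem w4r163 : wins P2 Qn 2 610 600 2096552 16 4967911356 = true := by decide +kernel
theorem w4s163 : Cov 4 4967911956 5001456788 :=
  cov_of pb2 qb cl2 cl2 w4r163 _ _ _ (by decide +kernel)
theorem w4r164 : wins P2 Qn 2 577 600 2096552 16 5001456188 = true := by decide +kernel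
theorem w4s164 : Cov 4 5001456788 5035001620 :=
  cov_of pb2 qb cl2 cl2 w4r164 _ _ _ (by decide +kernel)
theorem w4r165 : wins P2 Qn 2 607 600 2096552 16 5035001020 = true := by decide +kernel
theorem w4s165 : Cov 4 5035001620 5068546452 :=
  cov_of pb2 qb cl2 cl2 w4r165 _ _ _ (by decide +kernel)
theorem w4r166 : wins P2 Qn 2 546 600 2096552 16 5068545852 = true := by decide +kernel
theorem w4s166 : Cov 4 5068546452 5102091284 :=
  cov_of pb2 qb cl2 cl2 w4r166 _ _ _ (by decide +kernel)
theorem w4r167 : wins P2 Qn 2 623 600 2096552 16 5102090684 = true := by decide +kernel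
theorem w4s167 : Cov 4 5102091284 5135636116 :=
  cov_of pb2 qb cl2 cl2 w4r167 _ _ _ (by decide +kernel)
theorem w4r168 : wins P2 Qn 2 651 600 2096552 16 5135635516 = true := by decide +kernel
theorem w4s168 : Cov 4 5135636116 5169180948 :=
  cov_of pb2 qb cl2 cl2 w4r168 _ _ _ (by decide +kernel)
theorem w4r169 : wins P2 Qn 2 575 600 2096552 16 5169180348 = true := by decide +kernel
theorem w4s169 : Cov 4 5169180948 5202725780 :=
  cov_of pb2 qb cl2 cl2 w4r169 _ _ _ (by decide +kernel)
theorem w4r170 : wins P2 Qn 2 581 600 2096552 16 5202725180 = true := by decide +kernel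
theorem w4s170 : Cov 4 5202725780 5236270612 :=
  cov_of pb2 qb cl2 cl2 w4r170 _ _ _ (by decide +kernel)
theorem w4r171 : wins P2 Qn 2 590 600 2096552 16 5236270012 = true := by decide +kernel
theorem w4s171 : Cov 4 5236270612 5269815444 :=
  cov_of pb2 qb cl2 cl2 w4r171 _ _ _ (by decide +kernel)
theorem w4r172 : wins P2 Qn 2 537 600 2096552 16 5269814844 = true := by decide +kernel
theorem w4s172 : Cov 4 5269815444 5303360276 :=
  cov_of pb2 qb cl2 cl2 w4r172 _ _ _ (by decide +kernel)
theorem w4r173 : wins P2 Qn 2 601 600 2096552 16 5303359676 = true := by decide +kernel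
theorem w4s173 : Cov 4 5303360276 5336905108 :=
  cov_of pb2 qb cl2 cl2 w4r173 _ _ _ (by decide +kernel)
theorem w4r174 : wins P2 Qn 2 575 600 2096552 16 5336904508 = true := by decide +kernel
theorem w4s174 : Cov 4 5336905108 5370449940 :=
  cov_of pb2 qb cl2 cl2 w4r174 _ _ _ (by decide +kernel)
theorem w4r175 : wins P2 Qn 2 629 600 2096552 16 5370449340 = true := by decide +kernel
theorem w4s175 : Cov 4 5370449940 5403994772 :=
  cov_of pb2 qb cl2 cl2 w4r175 _ _ _ (by decide +kernel)
theorem w4r176 : wins P2 Qn 2 589 600 2096552 16 5403994172 = true := by decide +kernel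
theorem w4s176 : Cov 4 5403994772 5437539604 :=
  cov_of pb2 qb cl2 cl2 w4r176 _ _ _ (by decide +kernel)
theorem w4r177 : wins P2 Qn 2 572 600 2096552 16 5437539004 = true := by decide +kernel
theorem w4s177 : Cov 4 5437539604 5471084436 :=
  cov_of pb2 qb cl2 cl2 w4r177 _ _ _ (by decide +kernel)
theorem w4r178 : wins P2 Qn 2 590 600 2096552 16 5471083836 = true := by decide +kernel
theorem w4s178 : Cov 4 5471084436 5504629268 :=
  cov_of pb2 qb cl2 cl2 w4r178 _ _ _ (by decide +kernel)
theorem w4r179 : wins P2 Qn 2 550 600 2096552 16 5504628668 = true := by decide +kernel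
theorem w4s179 : Cov 4 5504629268 5538174100 :=
  cov_of pb2 qb cl2 cl2 w4r179 _ _ _ (by decide +kernel)
theorem w4r180 : wins P2 Qn 2 586 600 2096552 16 5538173500 = true := by decide +kernel
theorem w4s180 : Cov 4 5538174100 5571718932 :=
  cov_of pb2 qb cl2 cl2 w4r180 _ _ _ (by decide +kernel)
theorem w4r181 : wins P2 Qn 2 628 600 2096552 16 5571718332 = true := by decide +kernel
theorem w4s181 : Cov 4 5571718932 5605263764 :=
  cov_of pb2 qb cl2 cl2 w4r181 _ _ _ (by decide +kernel)
theorem w4r182 : wins P2 Qn 2 611 600 2096552 16 5605263164 = true := by decide +kernel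
theorem w4s182 : Cov 4 5605263764 5638808596 :=
  cov_of pb2 qb cl2 cl2 w4r182 _ _ _ (by decide +kernel)
theorem w4r183 : wins P2 Qn 2 601 600 2096552 16 5638807996 = true := by decide +kernel
theorem w4s183 : Cov 4 5638808596 5672353428 :=
  cov_of pb2 qb cl2 cl2 w4r183 _ _ _ (by decide +kernel)
theorem w4r184 : wins P2 Qn 2 492 600 2096552 16 5672352828 = true := by decide +kernel
theorem w4s184 : Cov 4 5672353428 5705898260 :=
  cov_of pb2 qb cl2 cl2 w4r184 _ _ _ (by decide +kernel)
theorem w4r185 : wins P2 Qn 2 572 600 2096552 16 5705897660 = true := by decide +kernel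
theorem w4s185 : Cov 4 5705898260 5739443092 :=
  cov_of pb2 qb cl2 cl2 w4r185 _ _ _ (by decide +kernel)
theorem w4r186 : wins P2 Qn 2 555 600 2096552 16 5739442492 = true := by decide +kernel
theorem w4s186 : Cov 4 5739443092 5772987924 :=
  cov_of pb2 qb cl2 cl2 w4r186 _ _ _ (by decide +kernel)
theorem w4r187 : wins P2 Qn 2 564 600 2096552 16 5772987324 = true := by decide +kernel
theorem w4s187 : Cov 4 5772987924 5806532756 :=
  cov_of pb2 qb cl2 cl2 w4r187 _ _ _ (by decide +kernel)
theorem w4r188 : wins P2 Qn 2 616 600 2096552 16 5806532156 = true := by decide +kernel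
theorem w4s188 : Cov 4 5806532756 5840077588 :=
  cov_of pb2 qb cl2 cl2 w4r188 _ _ _ (by decide +kernel)
theorem w4r189 : wins P2 Qn 2 601 600 2096552 16 5840076988 = true := by decide +kernel
theorem w4s189 : Cov 4 5840077588 5873622420 :=
  cov_of pb2 qb cl2 cl2 w4r189 _ _ _ (by decide +kernel)
theorem w4r190 : wins P2 Qn 2 589 600 2096552 16 5873621820 = true := by decide +kernel
theorem w4s190 : Cov 4 5873622420 5907167252 :=
  cov_of pb2 qb cl2 cl2 w4r190 _ _ _ (by decide +kernel)
theorem w4r191 : wins P2 Qn 2 577 600 2096552 16 5907166652 = true := by decide +kernel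
theorem w4s191 : Cov 4 5907167252 5940712084 :=
  cov_of pb2 qb cl2 cl2 w4r191 _ _ _ (by decide +kernel)
theorem w4r192 : wins P2 Qn 2 610 600 2096552 16 5940711484 = true := by decide +kernel
theorem w4s192 : Cov 4 5940712084 5974256916 :=
  cov_of pb2 qb cl2 cl2 w4r192 _ _ _ (by decide +kernel)
theorem w4r193 : wins P2 Qn 2 560 600 2096552 16 5974256316 = true := by decide +kernel
theorem w4s193 : Cov 4 5974256916 6007801748 :=
  cov_of pb2 qb cl2 cl2 w4r193 _ _ _ (by decide +kernel)
theorem w4r194 : wins P2 Qn 2 584 600 2096552 16 6007801148 = true := by decide +kernel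
theorem w4s194 : Cov 4 6007801748 6041346580 :=
  cov_of pb2 qb cl2 cl2 w4r194 _ _ _ (by decide +kernel)
theorem w4r195 : wins P2 Qn 2 639 600 2096552 16 6041345980 = true := by decide +kernel
theorem w4s195 : Cov 4 6041346580 6074891412 :=
  cov_of pb2 qb cl2 cl2 w4r195 _ _ _ (by decide +kernel)
theorem w4r196 : wins P2 Qn 2 616 600 2096552 16 6074890812 = true := by decide +kernel
theorem w4s196 : Cov 4 6074891412 6108436244 :=
  cov_of pb2 qb cl2 cl2 w4r196 _ _ _ (by decide +kernel)
theorem w4r197 : wins P2 Qn 2 547 600 2096552 16 6108435644 = true := by decide +kernel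
theorem w4s197 : Cov 4 6108436244 6141981076 :=
  cov_of pb2 qb cl2 cl2 w4r197 _ _ _ (by decide +kernel)
theorem w4r198 : wins P2 Qn 2 547 600 2096552 16 6141980476 = true := by decide +kernel
theorem w4s198 : Cov 4 6141981076 6175525908 :=
  cov_of pb2 qb cl2 cl2 w4r198 _ _ _ (by decide +kernel)
theorem w4r199 : wins P2 Qn 2 548 600 2096552 16 6175525308 = true := by decide +kernel
theorem w4s199 : Cov 4 6175525908 6209070740 :=
  cov_of pb2 qb cl2 cl2 w4r199 _ _ _ (by decide +kernel)
theorem w4r200 : wins P2 Qn 2 536 600 2096552 16 6209070140 = true := by decide +kernel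
theorem w4s200 : Cov 4 6209070740 6242615572 :=
  cov_of pb2 qb cl2 cl2 w4r200 _ _ _ (by decide +kernel)
theorem w4r201 : wins P2 Qn 2 545 600 2096552 16 6242614972 = true := by decide +kernel
theorem w4s201 : Cov 4 6242615572 6276160404 :=
  cov_of pb2 qb cl2 cl2 w4r201 _ _ _ (by decide +kernel)
theorem w4r202 : wins P2 Qn 2 644 600 2096552 16 6276159804 = true := by decide +kernel
theorem w4s202 : Cov 4 6276160404 6309705236 :=
  cov_of pb2 qb cl2 cl2 w4r202 _ _ _ (by decide +kernel)
theorem w4r203 : wins P2 Qn 2 617 600 2096552 16 6309704636 = true := by decide +kernel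
theorem w4s203 : Cov 4 6309705236 6343250068 :=
  cov_of pb2 qb cl2 cl2 w4r203 _ _ _ (by decide +kernel)
theorem w4r204 : wins P2 Qn 2 626 600 2096552 16 6343249468 = true := by decide +kernel
theorem w4s204 : Cov 4 6343250068 6376794900 :=
  cov_of pb2 qb cl2 cl2 w4r204 _ _ _ (by decide +kernel)
theorem w4r205 : wins P2 Qn 2 599 600 2096552 16 6376794300 = true := by decide +kernel
theorem w4s205 : Cov 4 6376794900 6410339732 :=
  cov_of pb2 qb cl2 cl2 w4r205 _ _ _ (by decide +kernel)
theorem w4r206 : wins P2 Qn 2 617 600 2096552 16 6410339132 = true := by decide +kernel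
theorem w4s206 : Cov 4 6410339732 6443884564 :=
  cov_of pb2 qb cl2 cl2 w4r206 _ _ _ (by decide +kernel)
theorem w4r207 : wins P2 Qn 2 525 600 2096552 16 6443883964 = true := by decide +kernel
theorem w4s207 : Cov 4 6443884564 6477429396 :=
  cov_of pb2 qb cl2 cl2 w4r207 _ _ _ (by decide +kernel)
theorem w4r208 : wins P2 Qn 2 586 600 2096552 16 6477428796 = true := by decide +kernel
theorem w4s208 : Cov 4 6477429396 6510974228 :=
  cov_of pb2 qb cl2 cl2 w4r208 _ _ _ (by decide +kernel)
theorem w4r209 : wins P2 Qn 2 611 600 2096552 16 6510973628 = true := by decide +kernel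
theorem w4s209 : Cov 4 6510974228 6544519060 :=
  cov_of pb2 qb cl2 cl2 w4r209 _ _ _ (by decide +kernel)
theorem w4r210 : wins P2 Qn 2 618 600 2096552 16 6544518460 = true := by decide +kernel
theorem w4s210 : Cov 4 6544519060 6578063892 :=
  cov_of pb2 qb cl2 cl2 w4r210 _ _ _ (by decide +kernel)
theorem w4r211 : wins P2 Qn 2 602 600 2096552 16 6578063292 = true := by decide +kernel
theorem w4s211 : Cov 4 6578063892 6611608724 :=
  cov_of pb2 qb cl2 cl2 w4r211 _ _ _ (by decide +kernel)
theorem w4r212 : wins P2 Qn 2 635 600 2096552 16 6611608124 = true := by decide +kernel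
theorem w4s212 : Cov 4 6611608724 6645153556 :=
  cov_of pb2 qb cl2 cl2 w4r212 _ _ _ (by decide +kernel)
theorem w4r213 : wins P2 Qn 2 575 600 2096552 16 6645152956 = true := by decide +kernel
theorem w4s213 : Cov 4 6645153556 6678698388 :=
  cov_of pb2 qb cl2 cl2 w4r213 _ _ _ (by decide +kernel)
theorem w4r214 : wins P2 Qn 2 580 600 2096552 16 6678697788 = true := by decide +kernel
theorem w4s214 : Cov 4 6678698388 6712243220 :=
  cov_of pb2 qb cl2 cl2 w4r214 _ _ _ (by decide +kernel)
theorem w4r215 : wins P2 Qn 2 518 600 2096552 16 6712242620 = true := by decide +kernel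
theorem w4s215 : Cov 4 6712243220 6745788052 :=
  cov_of pb2 qb cl2 cl2 w4r215 _ _ _ (by decide +kernel)
theorem w4r216 : wins P2 Qn 2 597 600 2096552 16 6745787452 = true := by decide +kernel
theorem w4s216 : Cov 4 6745788052 6779332884 :=
  cov_of pb2 qb cl2 cl2 w4r216 _ _ _ (by decide +kernel)
theorem w4r217 : wins P2 Qn 2 611 600 2096552 16 6779332284 = true := by decide +kernel
theorem w4s217 : Cov 4 6779332884 6812877716 :=
  cov_of pb2 qb cl2 cl2 w4r217 _ _ _ (by decide +kernel)
theorem w4r218 : wins P2 Qn 2 547 600 2096552 16 6812877116 = true := by decide +kernel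
theorem w4s218 : Cov 4 6812877716 6846422548 :=
  cov_of pb2 qb cl2 cl2 w4r218 _ _ _ (by decide +kernel)
theorem w4r219 : wins P2 Qn 2 561 600 2096552 16 6846421948 = true := by decide +kernel
theorem w4s219 : Cov 4 6846422548 6879967380 :=
  cov_of pb2 qb cl2 cl2 w4r219 _ _ _ (by decide +kernel)
theorem w4r220 : wins P2 Qn 2 569 600 2096552 16 6879966780 = true := by decide +kernel
theorem w4s220 : Cov 4 6879967380 6913512212 :=
  cov_of pb2 qb cl2 cl2 w4r220 _ _ _ (by decide +kernel)
theorem w4r221 : wins P2 Qn 2 598 600 2096552 16 6913511612 = true := by decide +kernel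
theorem w4s221 : Cov 4 6913512212 6947057044 :=
  cov_of pb2 qb cl2 cl2 w4r221 _ _ _ (by decide +kernel)
theorem w4r222 : wins P2 Qn 2 545 600 2096552 16 6947056444 = true := by decide +kernel
theorem w4s222 : Cov 4 6947057044 6980601876 :=
  cov_of pb2 qb cl2 cl2 w4r222 _ _ _ (by decide +kernel)
theorem w4r223 : wins P2 Qn 2 564 600 2096552 16 6980601276 = true := by decide +kernel
theorem w4s223 : Cov 4 6980601876 7014146708 :=
  cov_of pb2 qb cl2 cl2 w4r223 _ _ _ (by decide +kernel)
theorem w4r224 : wins P2 Qn 2 659 600 2096552 16 7014146108 = true := by decide +kernel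
theorem w4s224 : Cov 4 7014146708 7047691540 :=
  cov_of pb2 qb cl2 cl2 w4r224 _ _ _ (by decide +kernel)
theorem w4r225 : wins P2 Qn 2 576 600 2096552 16 7047690940 = true := by decide +kernel
theorem w4s225 : Cov 4 7047691540 7081236372 :=
  cov_of pb2 qb cl2 cl2 w4r225 _ _ _ (by decide +kernel)
theorem w4r226 : wins P2 Qn 2 604 600 2096552 16 7081235772 = true := by decide +kernel
theorem w4s226 : Cov 4 7081236372 7114781204 :=
  cov_of pb2 qb cl2 cl2 w4r226 _ _ _ (by decide +kernel)
theorem w4r227 : wins P2 Qn 2 622 600 2096552 16 7114780604 = true := by decide +kernel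
theorem w4s227 : Cov 4 7114781204 7148326036 :=
  cov_of pb2 qb cl2 cl2 w4r227 _ _ _ (by decide +kernel)
theorem w4r228 : wins P2 Qn 2 531 600 2096552 16 7148325436 = true := by decide +kernel
theorem w4s228 : Cov 4 7148326036 7181870868 :=
  cov_of pb2 qb cl2 cl2 w4r228 _ _ _ (by decide +kernel)
theorem w4r229 : wins P2 Qn 2 580 600 2096552 16 7181870268 = true := by decide +kernel
theorem w4s229 : Cov 4 7181870868 7215415700 :=
  cov_of pb2 qb cl2 cl2 w4r229 _ _ _ (by decide +kernel)
theorem w4r230 : wins P2 Qn 2 569 600 2096552 16 7215415100 = true := by decide +kernel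
theorem w4s230 : Cov 4 7215415700 7248960532 :=
  cov_of pb2 qb cl2 cl2 w4r230 _ _ _ (by decide +kernel)
theorem w4r231 : wins P2 Qn 2 645 600 2096552 16 7248959932 = true := by decide +kernel
theorem w4s231 : Cov 4 7248960532 7282505364 :=
  cov_of pb2 qb cl2 cl2 w4r231 _ _ _ (by decide +kernel)
theorem w4r232 : wins P2 Qn 2 637 600 2096552 16 7282504764 = true := by decide +kernel
theorem w4s232 : Cov 4 7282505364 7316050196 :=
  cov_of pb2 qb cl2 cl2 w4r232 _ _ _ (by decide +kernel)
theorem w4r233 : wins P2 Qn 2 613 600 2096552 16 7316049596 = true := by decide +kernel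
theorem w4s233 : Cov 4 7316050196 7349595028 :=
  cov_of pb2 qb cl2 cl2 w4r233 _ _ _ (by decide +kernel)
theorem w4r234 : wins P2 Qn 2 547 600 2096552 16 7349594428 = true := by decide +kernel
theorem w4s234 : Cov 4 7349595028 7383139860 :=
  cov_of pb2 qb cl2 cl2 w4r234 _ _ _ (by decide +kernel)
theorem w4r235 : wins P2 Qn 2 618 600 2096552 16 7383139260 = true := by decide +kernel
theorem w4s235 : Cov 4 7383139860 7416684692 :=
  cov_of pb2 qb cl2 cl2 w4r235 _ _ _ (by decide +kernel)
theorem w4r236 : wins P2 Qn 2 592 600 2096552 16 7416684092 = true := by decide +kernel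
theorem w4s236 : Cov 4 7416684692 7450229524 :=
  cov_of pb2 qb cl2 cl2 w4r236 _ _ _ (by decide +kernel)
theorem w4r237 : wins P2 Qn 2 533 600 2096552 16 7450228924 = true := by decide +kernel
theorem w4s237 : Cov 4 7450229524 7483774356 :=
  cov_of pb2 qb cl2 cl2 w4r237 _ _ _ (by decide +kernel)
theorem w4r238 : wins P2 Qn 2 649 600 2096552 16 7483773756 = true := by decide +kernel
theorem w4s238 : Cov 4 7483774356 7517319188 :=
  cov_of pb2 qb cl2 cl2 w4r238 _ _ _ (by decide +kernel)
theorem w4r239 : wins P2 Qn 2 599 600 2096552 16 7517318588 = true := by decide +kernel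
theorem w4s239 : Cov 4 7517319188 7550864020 :=
  cov_of pb2 qb cl2 cl2 w4r239 _ _ _ (by decide +kernel)
theorem w4r240 : wins P2 Qn 2 617 600 2096552 16 7550863420 = true := by decide +kernel
theorem w4s240 : Cov 4 7550864020 7584408852 :=
  cov_of pb2 qb cl2 cl2 w4r240 _ _ _ (by decide +kernel)
theorem w4r241 : wins P2 Qn 2 626 600 2096552 16 7584408252 = true := by decide +kernel
theorem w4s241 : Cov 4 7584408852 7617953684 :=
  cov_of pb2 qb cl2 cl2 w4r241 _ _ _ (by decide +kernel)
theorem w4r242 : wins P2 Qn 2 572 600 2096552 16 7617953084 = true := by decide +kernel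
theorem w4s242 : Cov 4 7617953684 7651498516 :=
  cov_of pb2 qb cl2 cl2 w4r242 _ _ _ (by decide +kernel)
theorem w4r243 : wins P2 Qn 2 676 600 2096552 16 7651497916 = true := by decide +kernel
theorem w4s243 : Cov 4 7651498516 7685043348 :=
  cov_of pb2 qb cl2 cl2 w4r243 _ _ _ (by decide +kernel)
theorem w4r244 : wins P2 Qn 2 646 600 2096552 16 7685042748 = true := by decide +kernel
theorem w4s244 : Cov 4 7685043348 7718588180 :=
  cov_of pb2 qb cl2 cl2 w4r244 _ _ _ (by decide +kernel)
theorem w4r245 : wins P2 Qn 2 572 600 2096552 16 7718587580 = true := by decide +kernel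
theorem w4s245 : Cov 4 7718588180 7752133012 :=
  cov_of pb2 qb cl2 cl2 w4r245 _ _ _ (by decide +kernel)
theorem w4r246 : wins P2 Qn 2 552 600 2096552 16 7752132412 = true := by decide +kernel
theorem w4s246 : Cov 4 7752133012 7785677844 :=
  cov_of pb2 qb cl2 cl2 w4r246 _ _ _ (by decide +kernel)
theorem w4r247 : wins P2 Qn 2 684 600 2096552 16 7785677244 = true := by decide +kernel
theorem w4s247 : Cov 4 7785677844 7819222676 :=
  cov_of pb2 qb cl2 cl2 w4r247 _ _ _ (by decide +kernel)
theorem w4r248 : wins P2 Qn 2 547 600 2096552 16 7819222076 = true := by decide +kernel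
theorem w4s248 : Cov 4 7819222676 7852767508 :=
  cov_of pb2 qb cl2 cl2 w4r248 _ _ _ (by decide +kernel)
theorem w4r249 : wins P2 Qn 2 731 600 2096552 16 7852766908 = true := by decide +kernel
theorem w4s249 : Cov 4 7852767508 7886312340 :=
  cov_of pb2 qb cl2 cl2 w4r249 _ _ _ (by decide +kernel)
theorem w4r250 : wins P2 Qn 2 733 600 2096552 16 7886311740 = true := by decide +kernel
theorem w4s250 : Cov 4 7886312340 7919857172 :=
  cov_of pb2 qb cl2 cl2 w4r250 _ _ _ (by decide +kernel)
theorem w4r251 : wins P2 Qn 2 740 600 2096552 16 7919856572 = true := by decide +kernel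
theorem w4s251 : Cov 4 7919857172 7953402004 :=
  cov_of pb2 qb cl2 cl2 w4r251 _ _ _ (by decide +kernel)
theorem w4r252 : wins P2 Qn 2 708 600 2096552 16 7953401404 = true := by decide +kernel
theorem w4s252 : Cov 4 7953402004 7986946836 :=
  cov_of pb2 qb cl2 cl2 w4r252 _ _ _ (by decide +kernel)
theorem w4r253 : wins P2 Qn 2 706 600 2096552 16 7986946236 = true := by decide +kernel
theorem w4s253 : Cov 4 7986946836 8020491668 :=
  cov_of pb2 qb cl2 cl2 w4r253 _ _ _ (by decide +kernel)
theorem w4r254 : wins P2 Qn 2 583 600 2096552 16 8020491068 = true := by decide +kernel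
theorem w4s254 : Cov 4 8020491668 8054036500 :=
  cov_of pb2 qb cl2 cl2 w4r254 _ _ _ (by decide +kernel)
theorem w4r255 : wins P2 Qn 2 575 600 2096552 16 8054035900 = true := by decide +kernel
theorem w4s255 : Cov 4 8054036500 8087581332 :=
  cov_of pb2 qb cl2 cl2 w4r255 _ _ _ (by decide +kernel)
theorem w4r256 : wins P2 Qn 2 542 600 2096552 16 8087580732 = true := by decide +kernel
theorem w4s256 : Cov 4 8087581332 8121126164 :=
  cov_of pb2 qb cl2 cl2 w4r256 _ _ _ (by decide +kernel)
theorem w4r257 : wins P2 Qn 2 578 600 2096552 16 8121125564 = true := by decide +kernel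
theorem w4s257 : Cov 4 8121126164 8154670996 :=
  cov_of pb2 qb cl2 cl2 w4r257 _ _ _ (by decide +kernel)
theorem w4r258 : wins P2 Qn 2 601 600 2096552 16 8154670396 = true := by decide +kernel
theorem w4s258 : Cov 4 8154670996 8188215828 :=
  cov_of pb2 qb cl2 cl2 w4r258 _ _ _ (by decide +kernel)
theorem w4r259 : wins P2 Qn 2 625 600 2096552 16 8188215228 = true := by decide +kernel
theorem w4s259 : Cov 4 8188215828 8221760660 :=
  cov_of pb2 qb cl2 cl2 w4r259 _ _ _ (by decide +kernel)
theorem w4r260 : wins P2 Qn 2 652 600 2096552 16 8221760060 = true := by decide +kernel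
theorem w4s260 : Cov 4 8221760660 8255305492 :=
  cov_of pb2 qb cl2 cl2 w4r260 _ _ _ (by decide +kernel)
theorem w4r261 : wins P2 Qn 2 596 600 2096552 16 8255304892 = true := by decide +kernel
theorem w4s261 : Cov 4 8255305492 8288850324 :=
  cov_of pb2 qb cl2 cl2 w4r261 _ _ _ (by decide +kernel)
theorem w4r262 : wins P2 Qn 2 594 600 2096552 16 8288849724 = true := by decide +kernel
theorem w4s262 : Cov 4 8288850324 8322395156 :=
  cov_of pb2 qb cl2 cl2 w4r262 _ _ _ (by decide +kernel)
theorem w4r263 : wins P2 Qn 2 571 600 2096552 6 8322394556 = true := by decide +kernel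
theorem w4s263 : Cov 4 8322395156 8334974468 :=
  cov_of pb2 qb cl2 cl2 w4r263 _ _ _ (by decide +kernel)

theorem cov4b : Cov 4 4162835988 8334974468 :=
  ((((((w4s139.app (w4s140.app w4s141)).app ((w4s142.app w4s143).app (w4s144.app w4s145))).app (((w4s146.app w4s147).app (w4s148.app w4s149)).app ((w4s150.app w4s151).app (w4s152.app w4s153)))).app ((((w4s154.app w4s155).app (w4s156.app w4s157)).app ((w4s158.app w4s159).app (w4s160.app w4s161))).app (((w4s162.app w4s163).app (w4s164.app w4s165)).app ((w4s166.app w4s167).app (w4s168.app w4s169))))).app ((((w4s170.app (w4s171.app w4s172)).app ((w4s173.app w4s174).app (w4s175.app w4s176))).app (((w4s177.app w4s178).app (w4s179.app w4s180)).app ((w4s181.app w4s182).app (w4s183.app w4s184)))).app ((((w4s185.app w4s186).app (w4s187.app w4s188)).app ((w4s189.app w4s190).app (w4s191.app w4s192))).app (((w4s193.app w4s194).app (w4s195.app w4s196)).app ((w4s197.app w4s198).app (w4s199.app w4s200)))))).app (((((w4s201.app (w4s202.app w4s203)).app ((w4s204.app w4s205).app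 (w4s206.app w4s207))).app (((w4s208.app w4s209).app (w4s210.app w4s211)).app ((w4s212.app w4s213).app (w4s214.app w4s215)))).app ((((w4s216.app w4s217).app (w4s218.app w4s219)).app ((w4s220.app w4s221).app (w4s222.app w4s223))).app (((w4s224.app w4s225).app (w4s226.app w4s227)).app ((w4s228.app w4s229).app (w4s230.app w4s231))))).app (((((w4s232.app w4s233).app (w4s234.app w4s235)).app ((w4s236.app w4s237).app (w4s238.app w4s239))).app (((w4s240.app w4s241).app (w4s242.app w4s243)).app ((w4s244.app w4s245).app (w4s246.app w4s247)))).app ((((w4s248.app w4s249).app (w4s250.app w4s251)).app ((w4s252.app w4s253).app (w4s254.app w4s255))).app (((w4s256.app w4s257).app (w4s258.app w4s259)).app ((w4s260.app w4s261).app (w4s262.app w4s263)))))))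

end Cfsg.Agent.Depth.F
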