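import Cfsg.Agent.Depth.F.Asm
import Cfsg.Agent.Depth.F.W0a
import Cfsg.Agent.Depth.F.W0b
import Cfsg.Agent.Depth.F.W4a
import Cfsg.Agent.Depth.F.W4b
import Cfsg.Agent.Depth.F.W40a
import Cfsg.Agent.Depth.F.W40b
import Cfsg.Agent.Depth.F.W14a
import Cfsg.Agent.Depth.F.W14b
import Cfsg.Agent.Depth.F.W20a
import Cfsg.Agent.Depth.F.W20b
import Cfsg.Agent.Depth.F.W24a
import Cfsg.Agent.Depth.F.W24b
import Cfsg.Agent.Depth.F.L9a
import Cfsg.Agent.Depth.F.L9b
import Cfsg.Agent.Depth.F.L9c
import Cfsg.Agent.Depth.F.L9d
import Cfsg.Agent.Depth.F.L1a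
import Cfsg.Agent.Depth.F.L1b
import Cfsg.Agent.Depth.F.L1c
import Cfsg.Agent.Depth.F.L1d
import Cfsg.Agent.Depth.F.M1
import Cfsg.Agent.Depth.F.M2
import Cfsg.Agent.Depth.F.M3
import Cfsg.Agent.Depth.F.M4
import Cfsg.Agent.Depth.F.M5
import Cfsg.Agent.Depth.F.M6
import Cfsg.Agent.Depth.F.M7
import Cfsg.Agent.Depth.F.M8

/-! # The finite check up to `10 ^ 24 + 1` -/

set_option autoImplicit false

namespace Cfsg.Agent.Depth.F

theorem bin : Bin 4830 250000000000 :=
  bin_of (b := 8333333334) ((cov0a.app cov0b).mono le_rfl (by norm_num))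
    ((cov4a.app cov4b).mono le_rfl (by norm_num))
    ((cov40a.app cov40b).mono le_rfl (by norm_num))
    ((cov14a.app cov14b).mono le_rfl (by norm_num))
    ((cov20a.app cov20b).mono le_rfl (by norm_num))
    ((cov24a.app cov24b).mono le_rfl (by norm_num)) (by norm_num) (by norm_num)

theorem lb9 : Lad 9 249991004160 1200000000000 352000000000000000 :=
  (Lad.app (b := 88000000000000000) (lb9a.mono (by norm_num) (by norm_num))
    (Lad.app (b := 176000000000000000) (lb9b.mono (by norm_num) (by norm_num))
    (Lad.app (b := 264000000000000000) (lb9c.mono (by norm_num) (by norm_num))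
    (lb9d.mono (by norm_num) (by norm_num)))))

theorem lb1 : Lad 1 249991004160 1200000000000 352000000000000000 :=
  (Lad.app (b := 88000000000000000) (lb1a.mono (by norm_num) (by norm_num))
    (Lad.app (b := 176000000000000000) (lb1b.mono (by norm_num) (by norm_num))
    (Lad.app (b := 264000000000000000) (lb1c.mono (by norm_num) (by norm_num))
    (lb1d.mono (by norm_num) (by norm_num)))))

theorem lc : Lad 9 351293965074432000 900000000000000000 1000000000000000000000002 :=
  (Lad.app (b := 125000000000000000000000) (lc1.mono (by norm_num) (by norm_num))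
    (Lad.app (b := 250000000000000000000000) (lc2.mono (by norm_num) (by norm_num))
    (Lad.app (b := 375000000000000000000000) (lc3.mono (by norm_num) (by norm_num))
    (Lad.app (b := 500000000000000000000001) (lc4.mono (by norm_num) (by norm_num))
    (Lad.app (b := 625000000000000000000001) (lc5.mono (by norm_num) (by norm_num))
    (Lad.app (b := 750000000000000000000001) (lc6.mono (by norm_num) (by norm_num))
    (Lad.app (b := 875000000000000000000001) (lc7.mono (by norm_num) (by norm_num))
    (lc8.mono (by norm_num) (by norm_num)))))))))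

theorem rep3 (n : ℕ) (h1 : 249990004833 ≤ n) (h2 : n < 352000000000004833) : Rep3 n := by
  by_cases h : n < 1200000004833
  · exact level3 (lo := 249990000000) (hi := 1200000000000) bin (la9.mono (by norm_num) (by norm_num))
      (la1.mono (by norm_num) (by norm_num)) (by norm_num) (by norm_num) n (by omega) (by omega)
  · exact level3 bin lb9 lb1 (by norm_num) (by norm_num) n (by omega) (by omega)

theorem out (n : ℕ) (h1 : 20 ≤ n) (h2 : n ≤ 10 ^ 24 + 1) : Out n := by
  by_cases h3 : n < 5100
  · exact level1 n h1 h3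
  by_cases h4 : n ≤ 250000000000
  · exact level2 bin n (by omega) h4
  by_cases h5 : n < 352000000000004833
  · exact (rep3 n (by omega) h5).out
  by_cases h6 : n < 900000249990004833
  · exact level4 (lo := 351999000000000000) (hi := 900000000000000000) rep3
      (lc0.mono (by norm_num) (by norm_num)) (by norm_num) (by norm_num) n (by omega) (by omega)
  · exact level4 rep3 lc (by norm_num) (by norm_num) n (by omega) (by omega)

theorem small24 : ∀ n : ℕ, 20 ≤ n → n ≤ 10 ^ 24 + 1 → ∃ (ps : List ℕ) (r : ℕ), ps ≠ [] ∧ ps.Nodup ∧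
    (∀ p ∈ ps, Good p) ∧ 5 * ps.length + r ≤ 23 ∧ n = (ps.map (· + 1)).sum + r := out

theorem small : Small := fun n h1 h2 => out n h1 (by omega)

end Cfsg.Agent.Depth.F
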