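import Cfsg.Agent.Depth.F.Bin
import Cfsg.Agent.Depth.F.Lad

/-! The parameters of the ladders. -/

set_option autoImplicit false

namespace Cfsg.Agent.Depth.F

/-- the squares modulo 1155 -/
def sqm : ℕ :=
  0x20004801040020020000820844200005008020048100004300241800300000100a0000402100030404084000080520480100800086000820004000102010000080c20106400800010012084010024100810800100084010022002020000194020880520002000c108020208a010000010041088200440010400002200401208442040018080200411002001002018213

/-- the squares modulo 4199 -/
def sqm' : ℕ :=
  0x4000002001c0004000002010004010000009002201160000c8846020203005000280500200000240026001040068002410108402040001130080604064028001000026001104002000500b00c10040202109001800030601a00080880001000040004000088059002c22018000884040020a3041002c0041000980060000008094004011001000084c020401109082200560020810440002000044042005010900802400620030180688024021000000810001b00002002400b8085002022201100800c40460b0011000820018000582001101080400408030100014044402208005900ac0401020080004102088040026821410008800e0204020090804001002200106c0004001000062015408208c04402021120180408050029000000016000b04002000000200c4802010011908900042440b8005008020001000c02040101a0051000c20018101480080221020400088040102010006400208805000a83001000088484202021041026801400008102c00140000040000130083004064024001301086041540020010408300012040002005003800080601220290880080006020004808800419000d02040000a8005002023001100c004c0421a0051000c04010005000081020080c000c811010800004e402201005180a80400220010480012081040062003418108802402100000188004130023011040034001300082201500820c5846030213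

theorem sqMask_of {M mask : ℕ}
    (h : allR (fun d => Nat.beq (Nat.land (Nat.shiftRight mask (d * d % (M + 1))) 1) 1) 0 10 500 = true)
    (hM : M < 5000) : SqMask M mask := by
  intro d hd h0
  have h1 := Nat.eq_of_beq_eq_true (allR_spec h d (Nat.zero_le d) (by omega))
  rw [h0] at h1
  exact absurd h1 (by decide)

theorem sqm_spec : SqMask 1154 sqm := sqMask_of (by decide +kernel) (by norm_num)

theorem sqm'_spec : SqMask 4198 sqm' := sqMask_of (by decide +kernel) (by norm_num)

def okA (k : ℕ) : Bool := ok1 14 32 16 16 sqm sqm' k

def okB (k : ℕ) : Bool := ok1 20 128 64 64 sqm sqm' k

def okC (k : ℕ) : Bool := ok0 40 128 64 k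

theorem okA_spec (k : ℕ) (hk : 1 ≤ k) (h : okA k = true) : (k * 2 ^ (13 + 1) + 1).Prime :=
  ok1_spec (by norm_num) sqm_spec sqm'_spec k hk h

theorem okB_spec (k : ℕ) (hk : 1 ≤ k) (h : okB k = true) : (k * 2 ^ (19 + 1) + 1).Prime :=
  ok1_spec (by norm_num) sqm_spec sqm'_spec k hk h

theorem okC_spec (k : ℕ) (hk : 1 ≤ k) (h : okC k = true) : (k * 2 ^ (39 + 1) + 1).Prime :=
  ok0_spec (by norm_num) k hk h

end Cfsg.Agent.Depth.F
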